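import Mathlib
import Cfsg.Agent.Lib.LinFix.Field

/-!
Operators of prime order `r` over a finite field: cyclic subspaces, dimensions of fixed-point-free invariant
subspaces, and the roots of the irreducible factors of the cyclotomic polynomial.
-/

set_option autoImplicit false

namespace CfsgLib.PrimeFix

open Polynomial Module

variable {F : Type*} [Field F] [Fintype F] {r : ℕ} [hr : Fact r.Prime]

theorem cast_card_ne_zero (hrF : (r : F) ≠ 0) : (Fintype.card F : ZMod r) ≠ 0 := by
  obtain ⟨p, hchar, n, hp, hq⟩ := FiniteField.card' F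
  rw [Ne, ZMod.natCast_eq_zero_iff, hq]
  intro h
  exact hrF ((Nat.prime_dvd_prime_iff_eq hr.out hp).1 (hr.out.dvd_of_dvd_pow h) ▸ CharP.cast_eq_zero F p)

theorem ord_pos (hrF : (r : F) ≠ 0) : 0 < orderOf (Fintype.card F : ZMod r) :=
  orderOf_pos_iff.2 (isOfFinOrder_iff_pow_eq_one.2 ⟨r - 1, by have := hr.out.two_le; omega,
    ZMod.pow_card_sub_one_eq_one (cast_card_ne_zero hrF)⟩)

/-- The degree of an irreducible factor of the `r`-th cyclotomic polynomial. -/
theorem natDegree_factor (hrF : (r : F) ≠ 0) {f : F[X]} (hf : Irreducible f) (hdvd : f ∣ cyclotomic r F) :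
    f.natDegree = orderOf (Fintype.card F : ZMod r) := by
  obtain ⟨p, hchar, n, hp, hq⟩ := FiniteField.card' F
  haveI := Fact.mk hp
  have hcop : p.Coprime r := (Nat.coprime_primes hp hr.out).2 (fun h => hrF (h ▸ CharP.cast_eq_zero F p))
  rw [natDegree_of_dvd_cyclotomic_of_irreducible hq hcop hdvd hf, ← orderOf_units, ZMod.coe_unitOfCoprime, hq]

section Op

variable {V : Type*} [AddCommGroup V] [Module F V]

/-- `W` is invariant under `T`. -/
def Inv (T : Module.End F V) (W : Submodule F V) : Prop := ∀ w ∈ W, T w ∈ W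

/-- `T` fixes no nonzero vector of `W`. -/
def Fpf (T : Module.End F V) (W : Submodule F V) : Prop := ∀ w ∈ W, T w = w → w = 0

omit [Fintype F] in
theorem inv_aeval {T : Module.End F V} {W : Submodule F V} (hW : Inv T W) (g : F[X]) {w : V} (hw : w ∈ W) :
    aeval T g w ∈ W := by
  induction g using Polynomial.induction_on' with
  | add f g hf hg => rw [map_add, LinearMap.add_apply]; exact W.add_mem hf hg
  | monomial k c =>
    rw [aeval_monomial, Module.End.mul_apply, Module.algebraMap_end_apply]
    refine W.smul_mem c ?_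
    induction k with
    | zero => simpa using hw
    | succ k ih => rw [pow_succ', Module.End.mul_apply]; exact hW _ ih

omit [Fintype F] in
theorem Fpf.mono {T : Module.End F V} {W U : Submodule F V} (h : Fpf T W) (hUW : U ≤ W) : Fpf T U :=
  fun w hw => h w (hUW hw)

omit [Fintype F] in
theorem aeval_cyclotomic_apply {T : Module.End F V} (hT : T ^ r = 1) {W : Submodule F V} (hW : Inv T W)
    (hfree : Fpf T W) {w : V} (hw : w ∈ W) : aeval T (cyclotomic r F) w = 0 := by
  refine hfree _ (inv_aeval hW _ hw) (sub_eq_zero.1 ?_)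
  have h : aeval T ((X - 1) * cyclotomic r F) w = 0 := by
    rw [mul_comm, cyclotomic_prime_mul_X_sub_one F r]
    simp [hT]
  simpa [Module.End.mul_apply, sub_eq_zero] using h

/-- A fixed-point-free invariant subspace has dimension divisible by the order of `q` modulo `r`. -/
theorem ord_dvd_finrank [FiniteDimensional F V] {T : Module.End F V} (hT : T ^ r = 1) {W : Submodule F V}
    (hW : Inv T W) (hfree : Fpf T W) : orderOf (Fintype.card F : ZMod r) ∣ finrank F W := by
  haveI : Finite V := Module.finite_of_finite F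
  haveI : Fintype W := Fintype.ofFinite W
  classical
  have hq : 1 ≤ Fintype.card F := Fintype.card_pos
  refine (LinFix.dvd_pow_sub_one_iff (r := r) hq _).1 ?_
  let f : Function.End W := fun w => ⟨T w.1, hW _ w.2⟩
  have hpow : ∀ (k : ℕ) (w : W), ((f ^ k) w : V) = (T ^ k) (w : V) := fun k => by
    induction k with
    | zero => intro w; rfl
    | succ k ih =>
      intro w
      rw [pow_succ', pow_succ', Module.End.mul_apply, ← ih w]
      rfl
  have hf : f ^ r ^ 1 = 1 := funext fun w => Subtype.ext (by rw [hpow, pow_one, hT]; rfl)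
  have h := Equiv.Perm.card_fixedPoints_modEq hf
  have hfix : Fintype.card f.fixedPoints = 1 := by
    refine Fintype.card_eq_one_iff.2 ⟨⟨0, Subtype.ext (by simp [f])⟩, fun w => Subtype.ext (Subtype.ext ?_)⟩
    exact hfree _ w.1.2 (congrArg Subtype.val w.2)
  rw [hfix, Module.card_eq_pow_finrank (K := F) (V := W)] at h
  exact (Nat.modEq_iff_dvd' (Nat.one_le_pow _ _ hq)).1 h.symm

omit [Fintype F] in
/-- The cyclic subspace generated by a vector. -/
noncomputable def cyc (T : Module.End F V) (v : V) : Submodule F V :=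
  LinearMap.range ((LinearMap.applyₗ v).comp (aeval T).toLinearMap)

omit [Fintype F] in
theorem mem_cyc {T : Module.End F V} {v w : V} : w ∈ cyc T v ↔ ∃ g : F[X], aeval T g v = w := Iff.rfl

omit [Fintype F] in
theorem self_mem_cyc (T : Module.End F V) (v : V) : v ∈ cyc T v := ⟨1, by simp⟩

omit [Fintype F] in
theorem inv_cyc (T : Module.End F V) (v : V) : Inv T (cyc T v) := by
  rintro w ⟨g, rfl⟩
  exact ⟨X * g, by simp⟩

omit [Fintype F] in
theorem cyc_le {T : Module.End F V} {v : V} {W : Submodule F V} (hW : Inv T W) (hv : v ∈ W) : cyc T v ≤ W := by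
  rintro w ⟨g, rfl⟩
  exact inv_aeval hW g hv

omit [Fintype F] in
/-- The action of the field `F[X]/f` on a vector killed by `f`. -/
noncomputable def act (T : Module.End F V) (v : V) {f : F[X]} (hf : f.Monic) : AdjoinRoot f →ₗ[F] V :=
  ((LinearMap.applyₗ v).comp (aeval T).toLinearMap).comp (AdjoinRoot.modByMonicHom hf)

omit [Fintype F] in
theorem act_mk {T : Module.End F V} {v : V} {f : F[X]} (hf : f.Monic) (hfv : aeval T f v = 0) (g : F[X]) :
    act T v hf (AdjoinRoot.mk f g) = aeval T g v := by
  show aeval T (AdjoinRoot.modByMonicHom hf (AdjoinRoot.mk f g)) v = _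
  rw [AdjoinRoot.modByMonicHom_mk]
  conv_rhs => rw [← modByMonic_add_div g f]
  rw [map_add, LinearMap.add_apply, mul_comm, map_mul, Module.End.mul_apply, hfv, map_zero, add_zero]

omit [Fintype F] in
theorem act_mul {T : Module.End F V} {v : V} {f : F[X]} (hf : f.Monic) (hfv : aeval T f v = 0) (g : F[X])
    (y : AdjoinRoot f) : act T v hf (AdjoinRoot.mk f g * y) = aeval T g (act T v hf y) := by
  induction y using AdjoinRoot.induction_on with
  | ih h => rw [← map_mul, act_mk hf hfv, act_mk hf hfv, map_mul, Module.End.mul_apply]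

omit [Fintype F] in
theorem act_one {T : Module.End F V} {v : V} {f : F[X]} (hf : f.Monic) (hfv : aeval T f v = 0) :
    act T v hf 1 = v := by
  rw [← map_one (AdjoinRoot.mk f), act_mk hf hfv]; simp

omit [Fintype F] in
theorem range_act {T : Module.End F V} {v : V} {f : F[X]} (hf : f.Monic) (hfv : aeval T f v = 0) :
    LinearMap.range (act T v hf) = cyc T v := by
  refine le_antisymm ?_ ?_
  · rintro w ⟨x, rfl⟩
    induction x using AdjoinRoot.induction_on with
    | ih g => exact ⟨g, (act_mk hf hfv g).symm⟩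
  · rintro w ⟨g, rfl⟩
    exact ⟨AdjoinRoot.mk f g, act_mk hf hfv g⟩

omit [Fintype F] in
theorem act_injective {T : Module.End F V} {v : V} {f : F[X]} (hf : f.Monic) (hirr : Irreducible f)
    (hfv : aeval T f v = 0) (hv : v ≠ 0) : Function.Injective (act T v hf) := by
  haveI := Fact.mk hirr
  rw [← LinearMap.ker_eq_bot, Submodule.eq_bot_iff]
  intro x hx
  by_contra h
  obtain ⟨g, hg⟩ := AdjoinRoot.mk_surjective (x⁻¹)
  apply hv
  rw [← act_one hf hfv, ← inv_mul_cancel₀ h, ← hg, act_mul hf hfv, LinearMap.mem_ker.1 hx, map_zero]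

omit [Fintype F] in
theorem dvd_of_aeval_eq_zero {T : Module.End F V} {v : V} {f : F[X]} (hirr : Irreducible f)
    (hfv : aeval T f v = 0) (hv : v ≠ 0) {g : F[X]} (hgv : aeval T g v = 0) : f ∣ g := by
  by_contra h
  obtain ⟨a, b, hab⟩ := (hirr.coprime_iff_not_dvd).2 h
  apply hv
  have := congrArg (fun P => aeval T P v) hab
  simpa [Module.End.mul_apply, hfv, hgv] using this.symm

theorem finrank_cyc [FiniteDimensional F V] (hrF : (r : F) ≠ 0) {T : Module.End F V} {v : V} {f : F[X]}
    (hf : f.Monic) (hirr : Irreducible f) (hdvd : f ∣ cyclotomic r F) (hfv : aeval T f v = 0) (hv : v ≠ 0) :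
    finrank F (cyc T v) = orderOf (Fintype.card F : ZMod r) := by
  rw [← range_act hf hfv, LinearMap.finrank_range_of_inj (act_injective hf hirr hfv hv),
    (AdjoinRoot.powerBasis' hf).finrank, AdjoinRoot.powerBasis'_dim, natDegree_factor hrF hirr hdvd]

/-- The roots of an irreducible factor are the conjugates of one of them. -/
theorem exists_exponent {T : Module.End F V} {v : V} {f : F[X]}
    (hf : f.Monic) (hirr : Irreducible f) (hfv : aeval T f v = 0) (hv : v ≠ 0) (hT : T ^ r = 1)
    (hTv : T v ≠ v) {m : ℕ} (hm : aeval (T ^ m) f v = 0) :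
    ∃ l : ℕ, (m : ZMod r) = (Fintype.card F : ZMod r) ^ l := by
  haveI := Fact.mk hirr
  haveI := hf.finite_adjoinRoot
  haveI : Finite (AdjoinRoot f) := Module.finite_of_finite F
  have hroot : aeval (AdjoinRoot.root f ^ m) f = 0 := by
    have h1 : aeval T (f.comp (X ^ m)) v = 0 := by rw [aeval_comp]; simpa using hm
    rw [← aeval_X (R := F) (AdjoinRoot.root f), ← map_pow, ← aeval_comp, AdjoinRoot.aeval_eq]
    exact AdjoinRoot.mk_eq_zero.2 (dvd_of_aeval_eq_zero hirr hfv hv h1)
  have hord : orderOf (AdjoinRoot.root f) = r := by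
    refine orderOf_eq_prime ?_ fun h1 => hTv ?_
    · rw [← AdjoinRoot.mk_X, ← map_pow, ← map_one (AdjoinRoot.mk f), AdjoinRoot.mk_eq_mk]
      exact dvd_of_aeval_eq_zero hirr hfv hv (by simp [hT])
    · rw [← AdjoinRoot.mk_X, ← map_one (AdjoinRoot.mk f), AdjoinRoot.mk_eq_mk] at h1
      obtain ⟨g, hg⟩ := h1
      have := congrArg (fun P => aeval T P v) (hg.trans (mul_comm _ _))
      simpa [Module.End.mul_apply, hfv, sub_eq_zero] using this
  let φ : AdjoinRoot f →ₐ[F] AdjoinRoot f := AdjoinRoot.liftAlgHom f (Algebra.ofId F _) (AdjoinRoot.root f ^ m)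
    (by rwa [aeval_def] at hroot)
  obtain ⟨l, hl⟩ := (FiniteField.bijective_frobeniusAlgHom_pow F (AdjoinRoot f)).2 φ
  refine ⟨l.1, ?_⟩
  have h := congrArg (fun ψ => ψ (AdjoinRoot.root f)) hl
  simp only [AlgHom.coe_pow, FiniteField.coe_frobeniusAlgHom, pow_iterate] at h
  rw [show φ (AdjoinRoot.root f) = AdjoinRoot.root f ^ m from AdjoinRoot.liftAlgHom_root _ _ _ _] at h
  rw [(orderOf_pos_iff.1 (hord ▸ hr.out.pos)).pow_eq_pow_iff_modEq, hord, ← ZMod.natCast_eq_natCast_iff] at h
  rw [← h, Nat.cast_pow]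

omit [Fintype F] in
theorem finrank_inf_ker_mul_le [FiniteDimensional F V] {T : Module.End F V} {W : Submodule F V} (hW : Inv T W)
    (f g : F[X]) : finrank F ↥(W ⊓ LinearMap.ker (aeval T (f * g))) ≤
      finrank F ↥(W ⊓ LinearMap.ker (aeval T f)) + finrank F ↥(W ⊓ LinearMap.ker (aeval T g)) := by
  set S := W ⊓ LinearMap.ker (aeval T (f * g))
  let φ : S →ₗ[F] ↥(W ⊓ LinearMap.ker (aeval T f)) := ((aeval T g).comp S.subtype).codRestrict _ fun s => by
    refine ⟨inv_aeval hW g s.2.1, ?_⟩
    have h : aeval T (f * g) (s : V) = 0 := s.2.2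
    rwa [map_mul, Module.End.mul_apply] at h
  have h1 := φ.finrank_range_add_finrank_ker
  have h2 : finrank F (LinearMap.range φ) ≤ finrank F ↥(W ⊓ LinearMap.ker (aeval T f)) := Submodule.finrank_le _
  have h3 : finrank F (LinearMap.ker φ) ≤ finrank F ↥(W ⊓ LinearMap.ker (aeval T g)) := by
    rw [← Submodule.finrank_map_subtype_eq]
    refine Submodule.finrank_mono ?_
    rintro x ⟨s, hs, rfl⟩
    exact ⟨s.2.1, congrArg Subtype.val (LinearMap.mem_ker.1 hs)⟩
  omega

/-- An irreducible factor with large kernel. -/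
theorem exists_factor_lt [FiniteDimensional F V] (hrF : (r : F) ≠ 0) {T : Module.End F V} (hT : T ^ r = 1)
    {W : Submodule F V} (hW : Inv T W) (hfree : Fpf T W) {c : ℕ}
    (hc : (r - 1) / orderOf (Fintype.card F : ZMod r) * c < finrank F W) :
    ∃ f : F[X], f.Monic ∧ Irreducible f ∧ f ∣ cyclotomic r F ∧ c < finrank F ↥(W ⊓ LinearMap.ker (aeval T f)) := by
  classical
  by_contra hnot
  push Not at hnot
  set s := UniqueFactorizationMonoid.normalizedFactors (cyclotomic r F)
  have hirr : ∀ f ∈ s, Irreducible f := fun f hf => UniqueFactorizationMonoid.irreducible_of_normalized_factor f hf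
  have hmon : ∀ f ∈ s, f.Monic := fun f hf => by
    have := UniqueFactorizationMonoid.normalize_normalized_factor f hf
    exact this ▸ monic_normalize (hirr f hf).ne_zero
  have hdvd : ∀ f ∈ s, f ∣ cyclotomic r F := fun f hf => UniqueFactorizationMonoid.dvd_of_mem_normalizedFactors hf
  have hprod : s.prod = cyclotomic r F := by
    have h := UniqueFactorizationMonoid.prod_normalizedFactors_eq (cyclotomic_ne_zero r F)
    rwa [(cyclotomic.monic r F).normalize_eq_self] at h
  have hle : finrank F W ≤ s.card * c := by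
    have hle' : ∀ u ≤ s, finrank F ↥(W ⊓ LinearMap.ker (aeval T u.prod)) ≤ u.card * c := fun u => by
      induction u using Multiset.induction with
      | empty =>
        intro _
        rw [Multiset.prod_zero, Multiset.card_zero, zero_mul, Nat.le_zero, Submodule.finrank_eq_zero,
          Submodule.eq_bot_iff]
        rintro x ⟨-, hx⟩
        simpa using hx
      | cons a u ih =>
        intro hu
        have ha : a ∈ s := Multiset.mem_of_le hu (Multiset.mem_cons_self a u)
        rw [Multiset.prod_cons, Multiset.card_cons, add_mul, one_mul, add_comm]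
        exact (finrank_inf_ker_mul_le hW a u.prod).trans
          (add_le_add (hnot a (hmon a ha) (hirr a ha) (hdvd a ha)) (ih ((Multiset.le_cons_self u a).trans hu)))
    refine le_trans (Submodule.finrank_mono (t := W ⊓ LinearMap.ker (aeval T s.prod)) fun w hw =>
      Submodule.mem_inf.2 ⟨hw, ?_⟩) (hle' s le_rfl)
    rw [hprod]
    exact aeval_cyclotomic_apply hT hW hfree hw
  have hcard : s.card * orderOf (Fintype.card F : ZMod r) = r - 1 := by
    have h := natDegree_multiset_prod_of_monic s hmon
    rw [hprod, natDegree_cyclotomic, Nat.totient_prime hr.out, Multiset.map_congr rfl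
      (fun f hf => natDegree_factor hrF (hirr f hf) (hdvd f hf)), Multiset.map_const', Multiset.sum_replicate] at h
    exact h.symm
  rw [← hcard, Nat.mul_div_cancel _ (ord_pos hrF)] at hc
  omega

end Op

end CfsgLib.PrimeFix
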