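import Mathlib
import Cfsg.Agent.Lib.PrimeFix.Basic

/-!
Totally isotropic subspaces invariant under an isometry of prime order of a reflexive sesquilinear form
over a finite field.
-/

set_option autoImplicit false

namespace CfsgLib.PrimeFix

open Polynomial Module

variable {F : Type*} [Field F] [Fintype F] {r : ℕ} [hr : Fact r.Prime]
variable {V : Type*} [AddCommGroup V] [Module F V] {σ : F →+* F} {B : V →ₛₗ[σ] V →ₗ[F] F} {T : Module.End F V}

/-- `W` is totally isotropic. -/
def Isotropic (B : V →ₛₗ[σ] V →ₗ[F] F) (W : Submodule F V) : Prop := ∀ u ∈ W, ∀ w ∈ W, B u w = 0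

omit [Fintype F] in
theorem aeval_pow_eq (T : Module.End F V) (k : ℕ) (g : F[X]) : aeval (T ^ k) g = aeval T (g.comp (X ^ k)) := by
  rw [aeval_comp]; simp

omit [Fintype F] in
theorem frob_aeval {A : Type*} [CommRing A] [Algebra F A] (p e : ℕ) [ExpChar A p]
    (hσ : ∀ c : F, σ c = c ^ (p ^ e)) (x : A) (g : F[X]) :
    (aeval x g) ^ (p ^ e) = aeval (x ^ (p ^ e)) (g.map σ) := by
  induction g using Polynomial.induction_on' with
  | add f h hf hh => rw [map_add, add_pow_expChar_pow, hf, hh, Polynomial.map_add, map_add]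
  | monomial k c =>
    rw [map_monomial, aeval_monomial, aeval_monomial, mul_pow, ← map_pow, ← hσ, ← pow_mul, ← pow_mul,
      mul_comm k]

omit [Fintype F] in
theorem aeval_adjoint {N : ℕ} (hB : ∀ u w, B (T u) (T w) = B u w) (hN : T ^ (N + 1) = 1) (g : F[X]) (u w : V) :
    B (aeval T g u) w = B u (aeval (T ^ N) (g.map σ) w) := by
  induction g using Polynomial.induction_on' with
  | add f h hf hh => simp [hf, hh, Polynomial.map_add]
  | monomial k c =>
    rw [map_monomial, aeval_monomial, aeval_monomial, Module.End.mul_apply, Module.End.mul_apply,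
      Module.algebraMap_end_apply, Module.algebraMap_end_apply, map_smulₛₗ, LinearMap.smul_apply, map_smul]
    congr 1
    induction k generalizing u with
    | zero => simp
    | succ k ih =>
      have h1 : ∀ a b, B (T a) b = B a ((T ^ N) b) := fun a b => by
        conv_lhs => rw [← show (T ^ (N + 1)) b = b by rw [hN]; rfl]
        rw [pow_succ', Module.End.mul_apply, hB]
      rw [pow_succ, Module.End.mul_apply, ih, h1, pow_succ' (T ^ N), Module.End.mul_apply]

omit [Fintype F] in
theorem isotropic_cyc {N : ℕ} (hB : ∀ u w, B (T u) (T w) = B u w) (hN : T ^ (N + 1) = 1) {v : V}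
    (h : ∀ w ∈ cyc T v, B v w = 0) : Isotropic B (cyc T v) := by
  rintro u ⟨g, rfl⟩ w hw
  show B (aeval T g v) w = 0
  rw [aeval_adjoint hB hN]
  exact h _ (by rw [aeval_pow_eq]; exact inv_aeval (inv_cyc T v) _ hw)

theorem pow_eq_one_of_cast {k : ℕ} (hT : T ^ r = 1) (h : (k : ZMod r) = 0) : T ^ k = 1 := by
  obtain ⟨c, rfl⟩ := (ZMod.natCast_eq_zero_iff _ _).1 h
  rw [pow_mul, hT, one_pow]

/-- Without a paired exponent every irreducible invariant subspace is totally isotropic. -/
theorem isotropic_of_unpaired (p e : ℕ) [ExpChar F p] (hσ : ∀ c : F, σ c = c ^ (p ^ e))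
    (hrp : ((p ^ e : ℕ) : ZMod r) ≠ 0) (hT : T ^ r = 1) (hB : ∀ u w, B (T u) (T w) = B u w)
    (hno : ∀ l : ℕ, ((p ^ e : ℕ) : ZMod r) * (Fintype.card F : ZMod r) ^ l + 1 ≠ 0) {f : F[X]} (hf : f.Monic)
    (hirr : Irreducible f) {v : V} (hfv : aeval T f v = 0) (hTv : T v ≠ v) : Isotropic B (cyc T v) := by
  haveI := Fact.mk hirr
  haveI : ExpChar (AdjoinRoot f) p := expChar_of_injective_algebraMap (algebraMap F (AdjoinRoot f)).injective p
  have hv : v ≠ 0 := fun h => hTv (by rw [h, map_zero])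
  have hr1 : r - 1 + 1 = r := Nat.sub_add_cancel hr.out.one_le
  have hN : T ^ (r - 1 + 1) = 1 := by rw [hr1, hT]
  refine isotropic_cyc hB hN fun w hw => ?_
  set m := ((-1 : ZMod r) * ((p ^ e : ℕ) : ZMod r)⁻¹).val with hm
  have hmN : (m : ZMod r) * ((p ^ e : ℕ) : ZMod r) = -1 := by
    rw [hm, ZMod.natCast_zmod_val, mul_assoc, inv_mul_cancel₀ hrp, mul_one]
  by_cases hz : aeval (T ^ (r - 1)) (f.map σ) v = 0
  · exfalso
    have hroot : AdjoinRoot.root f ^ r = 1 := by
      rw [← AdjoinRoot.mk_X, ← map_pow, ← map_one (AdjoinRoot.mk f), AdjoinRoot.mk_eq_mk]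
      exact dvd_of_aeval_eq_zero hirr hfv hv (by simp [hT])
    have hpow : (AdjoinRoot.root f ^ m) ^ (p ^ e) = AdjoinRoot.root f ^ (r - 1) := by
      rw [← pow_mul]
      refine pow_eq_pow_of_modEq ?_ hroot
      rw [← ZMod.natCast_eq_natCast_iff, Nat.cast_mul, hmN, Nat.cast_sub hr.out.one_le]
      simp
    have h0 : aeval (AdjoinRoot.root f ^ m) f = 0 := by
      apply pow_eq_zero_iff (n := p ^ e) (pow_ne_zero _ (expChar_pos F p).ne') |>.1
      rw [frob_aeval p e hσ, hpow, ← aeval_X (R := F) (AdjoinRoot.root f), ← map_pow, ← aeval_comp,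
        AdjoinRoot.aeval_eq, AdjoinRoot.mk_eq_zero]
      exact dvd_of_aeval_eq_zero hirr hfv hv (by rwa [← aeval_pow_eq])
    rw [← aeval_X (R := F) (AdjoinRoot.root f), ← map_pow, ← aeval_comp, AdjoinRoot.aeval_eq] at h0
    obtain ⟨l, hl⟩ := exists_exponent hf hirr hfv hv hT hTv (m := m) (by
      rw [aeval_pow_eq, ← act_mk hf hfv, h0, map_zero])
    refine hno l ?_
    rw [← hl, mul_comm, hmN, neg_add_cancel]
  · obtain ⟨Y, rfl⟩ : w ∈ LinearMap.range (act T v hf) := by rwa [range_act hf hfv]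
    set Z := AdjoinRoot.mk f ((f.map σ).comp (X ^ (r - 1))) with hZ
    have hZ0 : Z ≠ 0 := fun h => hz (by rw [aeval_pow_eq, ← act_mk hf hfv, ← hZ, h, map_zero])
    have hY : act T v hf Y = aeval (T ^ (r - 1)) (f.map σ) (act T v hf (Z⁻¹ * Y)) := by
      rw [aeval_pow_eq, ← act_mul hf hfv, ← hZ, mul_inv_cancel_left₀ hZ0]
    rw [hY, ← aeval_adjoint hB hN f v, hfv, map_zero, LinearMap.zero_apply]

/-- Two isomorphic irreducible invariant subspaces contain an isotropic one. -/
theorem exists_isotropic_pair [FiniteDimensional F V] {ε : F} (hsymm : ∀ u w, B w u = ε * σ (B u w))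
    (p e : ℕ) [ExpChar F p] (hσ : ∀ c : F, σ c = c ^ (p ^ e))
    (hN : ((p ^ e : ℕ) : ZMod r) + 1 = 0)
    (hcard : p ^ e * p ^ e = Fintype.card F ^ orderOf (Fintype.card F : ZMod r))
    (hrF : (r : F) ≠ 0) (hT : T ^ r = 1) (hB : ∀ u w, B (T u) (T w) = B u w) {f : F[X]} (hf : f.Monic)
    (hirr : Irreducible f) (hdvd : f ∣ cyclotomic r F) {v v' : V} (hfv : aeval T f v = 0)
    (hfv' : aeval T f v' = 0) (hv : v ≠ 0) (hv' : v' ≠ 0) (horth : ∀ x ∈ cyc T v, B x v' = 0) :
    ∃ u ∈ cyc T v ⊔ cyc T v', u ≠ 0 ∧ aeval T f u = 0 ∧ Isotropic B (cyc T u) := by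
  classical
  haveI := Fact.mk hirr
  haveI := hf.finite_adjoinRoot
  haveI : Finite (AdjoinRoot f) := Module.finite_of_finite F
  haveI : Fintype (AdjoinRoot f) := Fintype.ofFinite _
  haveI : ExpChar (AdjoinRoot f) p := expChar_of_injective_algebraMap (algebraMap F (AdjoinRoot f)).injective p
  set N := p ^ e with hNdef
  have hTN : T ^ (N + 1) = 1 := pow_eq_one_of_cast hT (by rw [Nat.cast_add, Nat.cast_one]; exact hN)
  set L := (B v).comp (act T v hf) with hLdef
  set L' := (B v').comp (act T v' hf) with hL'def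
  by_cases hL : L = 0
  · refine ⟨v, Submodule.mem_sup_left (self_mem_cyc T v), hv, hfv, isotropic_cyc hB hTN fun w hw => ?_⟩
    obtain ⟨x, rfl⟩ : w ∈ LinearMap.range (act T v hf) := by rwa [range_act hf hfv]
    exact LinearMap.congr_fun hL x
  by_cases hL' : L' = 0
  · refine ⟨v', Submodule.mem_sup_right (self_mem_cyc T v'), hv', hfv', isotropic_cyc hB hTN fun w hw => ?_⟩
    obtain ⟨x, rfl⟩ : w ∈ LinearMap.range (act T v' hf) := by rwa [range_act hf hfv']
    exact LinearMap.congr_fun hL' x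
  have hpair : ∀ (a : V), aeval T f a = 0 → ∀ (w : V) (g : F[X]) (y : AdjoinRoot f), aeval T f w = 0 →
      B (act T a hf (AdjoinRoot.mk f g)) (act T w hf y) = B a (act T w hf ((AdjoinRoot.mk f g) ^ N * y)) := by
    intro a ha w g y hw
    obtain ⟨h, rfl⟩ := AdjoinRoot.mk_surjective y
    rw [act_mk hf ha, aeval_adjoint hB hTN, ← AdjoinRoot.aeval_eq g, frob_aeval p e hσ,
      ← aeval_X (R := F) (AdjoinRoot.root f), ← map_pow, ← aeval_comp, AdjoinRoot.aeval_eq, act_mul hf hw,
      aeval_pow_eq]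
  have hLsymm : ∀ a, aeval T f a = 0 → ∀ x : AdjoinRoot f,
      B a (act T a hf (x ^ N)) = ε * σ (B a (act T a hf x)) := by
    intro a ha x
    obtain ⟨g, rfl⟩ := AdjoinRoot.mk_surjective x
    have h := hpair a ha a g 1 ha
    rw [mul_one, act_one hf ha] at h
    rw [← h, hsymm]
  have hinj : Function.Injective fun s : AdjoinRoot f => L.comp (LinearMap.mulLeft F s) := by
    have hlin : ∀ s : AdjoinRoot f, L.comp (LinearMap.mulLeft F s) = 0 → s = 0 := by
      intro s hs
      by_contra h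
      exact hL (LinearMap.ext fun z => by simpa [mul_inv_cancel_left₀ h] using LinearMap.congr_fun hs (s⁻¹ * z))
    intro s₁ s₂ h
    refine sub_eq_zero.1 (hlin _ (LinearMap.ext fun z => ?_))
    have := LinearMap.congr_fun h z
    simp only [LinearMap.comp_apply, LinearMap.mulLeft_apply] at this
    simp [sub_mul, this]
  have hbij : Function.Bijective fun s : AdjoinRoot f => L.comp (LinearMap.mulLeft F s) := by
    haveI : Finite (AdjoinRoot f →ₗ[F] F) := Module.finite_of_finite F
    refine hinj.bijective_of_nat_card_le ?_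
    rw [Module.natCard_eq_pow_finrank (K := F) (V := AdjoinRoot f →ₗ[F] F),
      Module.natCard_eq_pow_finrank (K := F) (V := AdjoinRoot f), Subspace.dual_finrank_eq]
  obtain ⟨s, hs⟩ := hbij.2 L'
  have hs' : ∀ x, B v' (act T v' hf x) = B v (act T v hf (s * x)) := fun x => (LinearMap.congr_fun hs x).symm
  have hs0 : s ≠ 0 := by
    rintro rfl
    exact hL' (LinearMap.ext fun x => by rw [← hs]; simp)
  have hNinj : Function.Injective fun x : AdjoinRoot f => x ^ N := iterateFrobenius_inj (AdjoinRoot f) p e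
  have hsN : s ^ N = s := by
    refine (hinj (LinearMap.ext fun y => ?_)).symm
    obtain ⟨x, rfl⟩ := (Finite.injective_iff_surjective.1 hNinj) y
    show B v (act T v hf (s * x ^ N)) = B v (act T v hf (s ^ N * x ^ N))
    rw [← hs', hLsymm v' hfv', hs', ← hLsymm v hfv, mul_pow]
  have hNpos : 0 < N := pow_pos (expChar_pos F p) e
  have hcardK : Fintype.card (AdjoinRoot f) = N * N := by
    rw [hcard, Fintype.card_eq_nat_card, Module.natCard_eq_pow_finrank (K := F),
      (AdjoinRoot.powerBasis' hf).finrank, AdjoinRoot.powerBasis'_dim, natDegree_factor hrF hirr hdvd,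
      Nat.card_eq_fintype_card]
  have hnorm : ∃ g : AdjoinRoot f, g ^ (N + 1) = -s := by
    obtain ⟨γ, hγ⟩ := IsCyclic.exists_generator (α := (AdjoinRoot f)ˣ)
    obtain ⟨k, hk⟩ := mem_powers_iff_mem_zpowers.2 (hγ (Units.mk0 (-s) (neg_ne_zero.2 hs0)))
    have hord : orderOf γ = N * N - 1 := by
      rw [orderOf_eq_card_of_forall_mem_zpowers hγ, Nat.card_units, Nat.card_eq_fintype_card, hcardK]
    have hfix : (Units.mk0 (-s) (neg_ne_zero.2 hs0)) ^ N = Units.mk0 (-s) (neg_ne_zero.2 hs0) := by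
      apply Units.ext
      simp only [Units.val_pow_eq_pow_val, Units.val_mk0]
      rw [neg_pow, hsN]
      have : (-1 : AdjoinRoot f) ^ N = -1 := by
        rw [hNdef, ← iterateFrobenius_def, map_neg, map_one]
      rw [this, neg_one_mul]
    have hk' : γ ^ (k * (N - 1)) = 1 := by
      have hk0 : γ ^ k = Units.mk0 (-s) (neg_ne_zero.2 hs0) := hk
      rw [← hk0, ← pow_mul, show k * N = k * (N - 1) + k by rw [← Nat.mul_succ]; congr 1; omega, pow_add] at hfix
      exact mul_eq_right.1 hfix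
    have hN2 : 2 ≤ N := by
      by_contra h
      have hN1 : N = 1 := by omega
      have := Fintype.one_lt_card (α := AdjoinRoot f)
      rw [hcardK, hN1] at this
      omega
    have hdvd' : (N + 1) * (N - 1) ∣ k * (N - 1) := by
      rw [← orderOf_dvd_iff_pow_eq_one, hord] at hk'
      rwa [show (N + 1) * (N - 1) = N * N - 1 by rw [← Nat.sq_sub_sq N 1]; ring_nf]
    obtain ⟨c, hc⟩ := Nat.dvd_of_mul_dvd_mul_right (by omega) hdvd'
    refine ⟨((γ ^ c : (AdjoinRoot f)ˣ) : AdjoinRoot f), ?_⟩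
    have hk0 : γ ^ k = Units.mk0 (-s) (neg_ne_zero.2 hs0) := hk
    rw [← Units.val_pow_eq_pow_val, ← pow_mul, mul_comm, ← hc, hk0, Units.val_mk0]
  obtain ⟨g, hg⟩ := hnorm
  obtain ⟨G, rfl⟩ := AdjoinRoot.mk_surjective g
  have hcross : ∀ x ∈ cyc T v, ∀ y ∈ cyc T v', B x y = 0 := by
    rintro x hx y ⟨h, rfl⟩
    have hcl : ∀ h : F[X], ∀ a ∈ cyc T v, B a (aeval T h v') = 0 := fun h => by
      induction h using Polynomial.induction_on' with
      | add f h hf hh => intro a ha; simp [hf a ha, hh a ha]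
      | monomial k c =>
        intro a ha
        rw [aeval_monomial, Module.End.mul_apply, Module.algebraMap_end_apply, map_smul]
        have hk : ∀ k : ℕ, ∀ a ∈ cyc T v, B a ((T ^ k) v') = 0 := fun k => by
          induction k with
          | zero => intro a ha; simpa using horth a ha
          | succ k ih =>
            intro a ha
            rw [pow_succ', Module.End.mul_apply]
            conv_lhs => rw [← show (T ^ (N + 1)) a = a by rw [hTN]; rfl]
            rw [pow_succ', Module.End.mul_apply, hB]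
            refine ih _ ?_
            rw [← aeval_X_pow (R := F) T]
            exact inv_aeval (inv_cyc T v) _ ha
        rw [hk k a ha, smul_zero]
    exact hcl h x hx
  refine ⟨aeval T G v + v', Submodule.add_mem_sup ⟨G, rfl⟩ (self_mem_cyc T v'), ?_, ?_,
    isotropic_cyc hB hTN fun w hw => ?_⟩
  · intro h
    refine hL' (LinearMap.ext fun x => ?_)
    have hx : act T v' hf x ∈ cyc T v' := by rw [← range_act hf hfv']; exact ⟨x, rfl⟩
    show B v' (act T v' hf x) = 0
    have e : v' = -(aeval T G v) := eq_neg_of_add_eq_zero_right h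
    exact hcross v' (by rw [e]; exact neg_mem ⟨G, rfl⟩) _ hx
  · rw [map_add, ← Module.End.mul_apply, ← map_mul, mul_comm, map_mul, Module.End.mul_apply, hfv, map_zero,
      hfv', add_zero]
  · obtain ⟨h, rfl⟩ := hw
    show B (aeval T G v + v') (aeval T h (aeval T G v + v')) = 0
    have hGv : aeval T f (aeval T G v) = 0 := by
      rw [← Module.End.mul_apply, ← map_mul, mul_comm, map_mul, Module.End.mul_apply, hfv, map_zero]
    have hmem1 : aeval T h (aeval T G v) ∈ cyc T v := inv_aeval (inv_cyc T v) _ ⟨G, rfl⟩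
    have hmem2 : aeval T h v' ∈ cyc T v' := inv_aeval (inv_cyc T v') _ (self_mem_cyc T v')
    rw [map_add (aeval T h), map_add B, LinearMap.add_apply, map_add, map_add,
      hcross (aeval T G v) ⟨G, rfl⟩ _ hmem2, hsymm (aeval T h (aeval T G v)) v', hcross _ hmem1 _ (self_mem_cyc T v'),
      map_zero, mul_zero, add_zero, zero_add]
    have e1 : B (aeval T G v) (aeval T h (aeval T G v)) =
        B v (act T v hf ((AdjoinRoot.mk f G) ^ (N + 1) * AdjoinRoot.mk f h)) := by
      rw [← act_mk hf hfv G, ← act_mul hf hfv, hpair v hfv v G _ hfv]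
      congr 2
      ring
    rw [e1, hg, ← act_mk hf hfv' h, hs', neg_mul, map_neg, map_neg, neg_add_cancel]

end CfsgLib.PrimeFix
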