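import Mathlib
import Cfsg.Agent.Lib.PrimeFix.Isotropic

/-!
Existence of invariant totally isotropic subspaces of prescribed dimension in a fixed-point-free subspace.
-/

set_option autoImplicit false

namespace CfsgLib.PrimeFix

open Polynomial Module

variable {F : Type*} [Field F] [Fintype F] {r : ℕ} [hr : Fact r.Prime]
variable {V : Type*} [AddCommGroup V] [Module F V] [FiniteDimensional F V] {σ : F →+* F}
  {B : V →ₛₗ[σ] V →ₗ[F] F} {T : Module.End F V}

omit [Fintype F] in
/-- Orthogonality to a subspace costs at most its dimension. -/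
theorem finrank_le_orth_add (B : V →ₛₗ[σ] V →ₗ[F] F) (W S : Submodule F V) :
    finrank F W ≤ finrank F ↥(W ⊓ S.orthogonalBilin B) + finrank F S := by
  let b := Module.finBasis F S
  let φ : W →ₗ[F] (Fin (finrank F S) → F) := (LinearMap.pi fun k => B (b k : V)).comp W.subtype
  have h1 := φ.finrank_range_add_finrank_ker
  have h2 : finrank F (LinearMap.range φ) ≤ finrank F S :=
    (Submodule.finrank_le _).trans (by rw [Module.finrank_fintype_fun_eq_card, Fintype.card_fin])
  have h3 : finrank F (LinearMap.ker φ) ≤ finrank F ↥(W ⊓ S.orthogonalBilin B) := by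
    rw [← Submodule.finrank_map_subtype_eq]
    refine Submodule.finrank_mono ?_
    rintro x ⟨w, hw, rfl⟩
    refine Submodule.mem_inf.2 ⟨w.2, fun s hs => ?_⟩
    have hw' : ∀ k, B (b k : V) (w : V) = 0 := fun k => congrFun (LinearMap.mem_ker.1 hw) k
    have hs' : s = ((∑ k, b.repr ⟨s, hs⟩ k • b k : S) : V) := by rw [b.sum_repr]
    show B s (w : V) = 0
    rw [hs', Submodule.coe_sum]
    simp [map_sum, LinearMap.sum_apply, hw']
  omega

omit [Fintype F] [FiniteDimensional F V] in
theorem inv_orth (hB : ∀ u w, B (T u) (T w) = B u w) (hT : T ^ r = 1) {U : Submodule F V} (hU : Inv T U) :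
    Inv T (U.orthogonalBilin B) := by
  intro w hw x hx
  show B x (T w) = 0
  have h : x = T ((T ^ (r - 1)) x) := by
    rw [← Module.End.mul_apply, ← pow_succ', Nat.sub_add_cancel hr.out.one_le, hT]; rfl
  rw [h, hB]
  exact hw _ (by rw [← aeval_X_pow (R := F) T]; exact inv_aeval hU _ hx)

omit [Fintype F] [FiniteDimensional F V] in
theorem inv_inf {W W' : Submodule F V} (h : Inv T W) (h' : Inv T W') : Inv T (W ⊓ W') :=
  fun w hw => ⟨h w hw.1, h' w hw.2⟩

omit [Fintype F] [FiniteDimensional F V] in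
theorem inv_sup {W W' : Submodule F V} (h : Inv T W) (h' : Inv T W') : Inv T (W ⊔ W') := fun w hw => by
  obtain ⟨a, ha, b, hb, rfl⟩ := Submodule.mem_sup.1 hw
  rw [map_add]
  exact Submodule.add_mem_sup (h a ha) (h' b hb)

omit [Fintype F] [FiniteDimensional F V] in
theorem inv_ker_aeval (g : F[X]) : Inv T (LinearMap.ker (aeval T g)) := fun w hw => by
  rw [LinearMap.mem_ker] at hw ⊢
  have h : aeval T g (T w) = T (aeval T g w) := by
    have hc := ((Commute.all g X).map (aeval T)).eq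
    rw [aeval_X] at hc
    exact LinearMap.congr_fun hc w
  rw [h, hw, map_zero]

omit [Fintype F] in
/-- Invariant complements. -/
theorem exists_inv_compl (hrF : (r : F) ≠ 0) (hT : T ^ r = 1) {U W : Submodule F V} (hU : Inv T U)
    (hW : Inv T W) (hUW : U ≤ W) :
    ∃ M : Submodule F V, M ≤ W ∧ Inv T M ∧ finrank F U + finrank F M = finrank F W ∧ Disjoint U M := by
  obtain ⟨C, hC⟩ := Submodule.exists_isCompl U
  let π₀ : Module.End F V := U.subtype.comp (Submodule.projectionOnto U C hC)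
  have hπmem : ∀ v, π₀ v ∈ U := fun v => (Submodule.projectionOnto U C hC v).2
  have hπfix : ∀ u ∈ U, π₀ u = u := fun u hu => by
    show ((Submodule.projectionOnto U C hC u : U) : V) = u
    rw [Submodule.projectionOnto_apply_left hC ⟨u, hu⟩]
  let π : Module.End F V := (r : F)⁻¹ • ∑ k ∈ Finset.range r, T ^ k * π₀ * T ^ (r - k)
  have hTk : ∀ k, ∀ u ∈ U, (T ^ k) u ∈ U := fun k u hu => by
    rw [← aeval_X_pow (R := F) T]; exact inv_aeval hU _ hu
  have hmem : ∀ v, π v ∈ U := fun v => by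
    simp only [π, LinearMap.smul_apply, LinearMap.sum_apply, Module.End.mul_apply]
    exact U.smul_mem _ (U.sum_mem fun k _ => hTk k _ (hπmem _))
  have hfix : ∀ u ∈ U, π u = u := fun u hu => by
    simp only [π, LinearMap.smul_apply, LinearMap.sum_apply, Module.End.mul_apply]
    rw [Finset.sum_congr rfl (fun k hk => ?_), Finset.sum_const, Finset.card_range, ← Nat.cast_smul_eq_nsmul F,
      smul_smul, inv_mul_cancel₀ hrF, one_smul]
    rw [hπfix _ (hTk _ u hu), ← Module.End.mul_apply, ← pow_add, Nat.add_sub_cancel' (Finset.mem_range.1 hk).le, hT]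
    rfl
  have hcomm : T * π = π * T := by
    have hTr : T ^ (r - 1) * T = 1 := by rw [← pow_succ, Nat.sub_add_cancel hr.out.one_le, hT]
    simp only [π, mul_smul_comm, smul_mul_assoc, Finset.mul_sum, Finset.sum_mul]
    congr 1
    have hs := Finset.sum_range_succ' (fun k => T ^ k * π₀ * T ^ (r - k) * T) r
    rw [Finset.sum_range_succ] at hs
    have h0 : T ^ r * π₀ * T ^ (r - r) * T = T ^ 0 * π₀ * T ^ (r - 0) * T := by simp [hT]
    rw [h0, add_left_inj] at hs
    rw [hs]
    refine Finset.sum_congr rfl fun k hk => ?_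
    have hk' := Finset.mem_range.1 hk
    rw [pow_succ', show r - k = r - (k + 1) + 1 by omega, pow_succ]
    noncomm_ring
  refine ⟨W ⊓ LinearMap.ker π, inf_le_left, fun w hw => ⟨hW w hw.1, ?_⟩, ?_, ?_⟩
  · show π (T w) = 0
    rw [← Module.End.mul_apply, ← hcomm, Module.End.mul_apply, LinearMap.mem_ker.1 hw.2, map_zero]
  · have h : U ⊔ W ⊓ LinearMap.ker π = W := by
      refine le_antisymm (sup_le hUW inf_le_left) fun w hw => ?_
      refine Submodule.mem_sup.2 ⟨π w, hmem w, w - π w, ⟨W.sub_mem hw (hUW (hmem w)), ?_⟩, add_sub_cancel _ _⟩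
      show π (w - π w) = 0
      rw [map_sub, hfix _ (hmem w), sub_self]
    have h2 := Submodule.finrank_sup_add_finrank_inf_eq U (W ⊓ LinearMap.ker π)
    have h3 : U ⊓ (W ⊓ LinearMap.ker π) = ⊥ := (Submodule.eq_bot_iff _).2 fun x hx => by
      rw [← hfix x hx.1]; exact hx.2.2
    rw [h, h3, finrank_bot, add_zero] at h2
    exact h2.symm
  · rw [disjoint_iff]
    exact (Submodule.eq_bot_iff _).2 fun x hx => by rw [← hfix x hx.1]; exact hx.2.2

/-- The exponent data of one of the two cases: `s` is the number of kinds that may occur only once. -/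
def StepData (B : V →ₛₗ[σ] V →ₗ[F] F) (T : Module.End F V) (s : ℕ) : Prop :=
  ∀ M : Submodule F V, Inv T M → Fpf T M → s * orderOf (Fintype.card F : ZMod r) < finrank F M →
    ∃ u ∈ M, u ≠ 0 ∧ finrank F (cyc T u) = orderOf (Fintype.card F : ZMod r) ∧ Isotropic B (cyc T u)

theorem stepData_unpaired (p e : ℕ) [ExpChar F p] (hσ : ∀ c : F, σ c = c ^ (p ^ e)) (hrF : (r : F) ≠ 0)
    (hrp : ((p ^ e : ℕ) : ZMod r) ≠ 0) (hT : T ^ r = 1) (hB : ∀ u w, B (T u) (T w) = B u w)
    (hno : ∀ l : ℕ, ((p ^ e : ℕ) : ZMod r) * (Fintype.card F : ZMod r) ^ l + 1 ≠ 0) :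
    StepData (r := r) B T 0 := by
  intro M hM hfree hdim
  obtain ⟨f, hf, hirr, hdvd, hker⟩ := exists_factor_lt hrF hT hM hfree (c := 0) (by omega)
  obtain ⟨v, hv, hv0⟩ := Submodule.exists_mem_ne_zero_of_ne_bot
    (p := M ⊓ LinearMap.ker (aeval T f)) (fun h => by rw [h, finrank_bot] at hker; omega)
  have hTv : T v ≠ v := fun h => hv0 (hfree v hv.1 h)
  exact ⟨v, hv.1, hv0, finrank_cyc hrF hf hirr hdvd hv.2 hv0,
    isotropic_of_unpaired p e hσ hrp hT hB hno hf hirr hv.2 hTv⟩

theorem stepData_paired {ε : F} (hsymm : ∀ u w, B w u = ε * σ (B u w)) (p e : ℕ) [ExpChar F p]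
    (hσ : ∀ c : F, σ c = c ^ (p ^ e)) (hN : ((p ^ e : ℕ) : ZMod r) + 1 = 0)
    (hcard : p ^ e * p ^ e = Fintype.card F ^ orderOf (Fintype.card F : ZMod r))
    (hrF : (r : F) ≠ 0) (hT : T ^ r = 1) (hB : ∀ u w, B (T u) (T w) = B u w) :
    StepData (r := r) B T ((r - 1) / orderOf (Fintype.card F : ZMod r)) := by
  intro M hM hfree hdim
  obtain ⟨f, hf, hirr, hdvd, hker⟩ := exists_factor_lt hrF hT hM hfree hdim
  set K := M ⊓ LinearMap.ker (aeval T f)
  obtain ⟨v, hv, hv0⟩ := Submodule.exists_mem_ne_zero_of_ne_bot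
    (p := K) (fun h => by rw [h, finrank_bot] at hker; omega)
  have hd := finrank_le_orth_add B K (cyc T v)
  rw [finrank_cyc hrF hf hirr hdvd hv.2 hv0] at hd
  obtain ⟨v', hv', hv'0⟩ := Submodule.exists_mem_ne_zero_of_ne_bot
    (p := K ⊓ (cyc T v).orthogonalBilin B) (fun h => by rw [h, finrank_bot] at hd; omega)
  obtain ⟨u, hu, hu0, hfu, hiso⟩ := exists_isotropic_pair hsymm p e hσ hN hcard hrF hT hB hf hirr hdvd
    hv.2 hv'.1.2 hv0 hv'0 fun x hx => hv'.2 x hx
  exact ⟨u, sup_le (cyc_le hM hv.1) (cyc_le hM hv'.1.1) hu, hu0, finrank_cyc hrF hf hirr hdvd hfu hu0, hiso⟩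

/-- Invariant totally isotropic subspaces of prescribed dimension. -/
theorem exists_isotropic {ε : F} (hsymm : ∀ u w, B w u = ε * σ (B u w)) {s : ℕ} (hstep : StepData (r := r) B T s)
    (hrF : (r : F) ≠ 0) (hT : T ^ r = 1) (hB : ∀ u w, B (T u) (T w) = B u w) {W₀ : Submodule F V}
    (hW₀ : Inv T W₀) (hfree : Fpf T W₀) {a : ℕ}
    (hdim : finrank F W₀ = a * orderOf (Fintype.card F : ZMod r)) :
    ∀ j : ℕ, (j = 0 ∨ 2 * j + s ≤ a + 1) → ∃ U : Submodule F V, U ≤ W₀ ∧ Inv T U ∧ Isotropic B U ∧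
      finrank F U = j * orderOf (Fintype.card F : ZMod r)
  | 0, _ => ⟨⊥, bot_le, fun w hw => by simp [(Submodule.mem_bot F).1 hw],
      fun u hu w _ => by simp [(Submodule.mem_bot F).1 hu], by simp⟩
  | j + 1, hj => by
    set i := orderOf (Fintype.card F : ZMod r)
    have hj' : 2 * (j + 1) + s ≤ a + 1 := hj.resolve_left (by omega)
    obtain ⟨U, hUW, hU, hiso, hdU⟩ := exists_isotropic hsymm hstep hrF hT hB hW₀ hfree hdim j (Or.inr (by omega))
    set W := W₀ ⊓ U.orthogonalBilin B
    have hUle : U ≤ W := le_inf hUW fun u hu x hx => hiso x hx u hu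
    have hW : Inv T W := inv_inf hW₀ (inv_orth hB hT hU)
    obtain ⟨M, hMW, hM, hdM, hdisj⟩ := exists_inv_compl hrF hT hU hW hUle
    have hdW := finrank_le_orth_add B W₀ U
    have hbig : s * i < finrank F M := by
      have h1 : (a - 2 * j) * i ≤ finrank F M := by
        rw [show W₀ ⊓ U.orthogonalBilin B = W from rfl, hdim, hdU] at hdW
        rw [Nat.sub_mul, mul_assoc]
        rw [hdU] at hdM
        generalize a * i = A at hdW ⊢
        generalize j * i = J at hdW hdM ⊢
        omega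
      have h2 : (s + 1) * i ≤ (a - 2 * j) * i := Nat.mul_le_mul_right _ (by omega)
      have h3 : 0 < i := ord_pos hrF
      rw [add_mul, one_mul] at h2
      omega
    obtain ⟨u, huM, hu0, hdu, huiso⟩ := hstep M hM (hfree.mono (hMW.trans inf_le_left)) hbig
    have hcle : cyc T u ≤ M := cyc_le hM huM
    have horth : ∀ x ∈ U, ∀ y ∈ cyc T u, B x y = 0 := fun x hx y hy => (hMW (hcle hy)).2 x hx
    refine ⟨U ⊔ cyc T u, sup_le hUW (hcle.trans (hMW.trans inf_le_left)), inv_sup hU (inv_cyc T u), ?_, ?_⟩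
    · intro x hx y hy
      obtain ⟨x₁, hx₁, x₂, hx₂, rfl⟩ := Submodule.mem_sup.1 hx
      obtain ⟨y₁, hy₁, y₂, hy₂, rfl⟩ := Submodule.mem_sup.1 hy
      simp [hiso x₁ hx₁ y₁ hy₁, huiso x₂ hx₂ y₂ hy₂, horth x₁ hx₁ y₂ hy₂, hsymm y₁ x₂, horth y₁ hy₁ x₂ hx₂]
    · have h := Submodule.finrank_sup_add_finrank_inf_eq U (cyc T u)
      rw [disjoint_iff.1 (hdisj.mono_right hcle), finrank_bot, add_zero, hdU, hdu] at h
      rw [h, add_mul, one_mul]

omit [Fintype F] [FiniteDimensional F V] in
/-- An invariant subspace is the sum of its fixed part and its fixed-point-free part. -/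
theorem exists_split (hrF : (r : F) ≠ 0) (hT : T ^ r = 1) {W : Submodule F V} (hW : Inv T W) {w : V}
    (hw : w ∈ W) : ∃ c ∈ W, T c = c ∧ ∃ d ∈ W, (∑ k ∈ Finset.range r, T ^ k) d = 0 ∧ c + d = w := by
  set S : Module.End F V := ∑ k ∈ Finset.range r, T ^ k
  have hS : ∀ v, v ∈ W → S v ∈ W := fun v hv => by
    simp only [S, LinearMap.sum_apply]
    exact W.sum_mem fun k _ => by rw [← aeval_X_pow (R := F) T]; exact inv_aeval hW _ hv
  have hTS : T * S = S := by
    have h := mul_geom_sum T r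
    rwa [hT, sub_self, sub_mul, one_mul, sub_eq_zero] at h
  have hTkS : ∀ k, T ^ k * S = S := fun k => by
    induction k with
    | zero => simp
    | succ k ih => rw [pow_succ', mul_assoc, ih, hTS]
  refine ⟨(r : F)⁻¹ • S w, W.smul_mem _ (hS w hw), ?_, w - (r : F)⁻¹ • S w,
    W.sub_mem hw (W.smul_mem _ (hS w hw)), ?_, add_sub_cancel _ _⟩
  · rw [map_smul, ← Module.End.mul_apply, hTS]
  · have hSS : S * S = (r : F) • S := by
      conv_lhs => rw [show S * S = (∑ k ∈ Finset.range r, T ^ k) * S from rfl, Finset.sum_mul,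
        Finset.sum_congr rfl fun k _ => hTkS k, Finset.sum_const, Finset.card_range]
      rw [Nat.cast_smul_eq_nsmul]
    rw [map_sub, map_smul, ← Module.End.mul_apply, hSS, LinearMap.smul_apply, smul_smul,
      inv_mul_cancel₀ hrF, one_smul, sub_self]

/-- Isotropic subspaces have at most half of the dimension of a nondegenerate space. -/
theorem two_mul_finrank_le (hnd : ∀ u, (∀ w, B u w = 0) → u = 0) {U : Submodule F V} (hU : Isotropic B U) :
    2 * finrank F U ≤ finrank F V := by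
  haveI : Finite V := Module.finite_of_finite F
  haveI : Finite (V ⧸ U) := Module.finite_of_finite F
  haveI : Finite ((V ⧸ U) →ₗ[F] F) := Module.finite_of_finite F
  let φ : U → ((V ⧸ U) →ₗ[F] F) := fun u => U.liftQ (B (u : V)) fun w hw => hU u u.2 w hw
  have hφ : Function.Injective φ := fun a b h => by
    refine Subtype.ext (sub_eq_zero.1 (hnd _ fun w => ?_))
    have := LinearMap.congr_fun h (Submodule.Quotient.mk w)
    rw [map_sub, LinearMap.sub_apply, sub_eq_zero]
    exact this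
  have hcard := Nat.card_le_card_of_injective φ hφ
  rw [Module.natCard_eq_pow_finrank (K := F) (V := U),
    Module.natCard_eq_pow_finrank (K := F) (V := (V ⧸ U) →ₗ[F] F), Subspace.dual_finrank_eq,
    Nat.pow_le_pow_iff_right (Nat.card_eq_fintype_card (α := F) ▸ Fintype.one_lt_card)] at hcard
  have h := U.finrank_quotient_add_finrank
  omega

end CfsgLib.PrimeFix
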