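import Mathlib
import Cfsg.Agent.Lib.PrimeFix.Grow
import Cfsg.Agent.Lib.RootCount.QuadType
import Cfsg.Agent.Lib.Classical.Quad.Model

/-!
Dimensions of totally singular subspaces of quadratic spaces over finite fields, and types of orthogonal sums.
-/

set_option autoImplicit false

namespace CfsgLib.PrimeFix.Quad

open Module QuadraticMap
open CfsgLib.Classical.Quad (NDPolar)
open CfsgLib.FormsDisc (IsHypFamily)
open CfsgLib.RootCount (IsPlus)

variable {F : Type*} [Field F] {V : Type*} [AddCommGroup V] [Module F V]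

/-- `Q` vanishes on `U`. -/
def TotSing (Q : QuadraticForm F V) (U : Submodule F V) : Prop := ∀ x ∈ U, Q x = 0

theorem TotSing.isotropic {Q : QuadraticForm F V} {U : Submodule F V} (h : TotSing Q U) :
    Isotropic (polarBilin Q) U := fun u hu w hw => by
  show polar Q u w = 0
  rw [polar, h _ (U.add_mem hu hw), h _ hu, h _ hw]; ring

theorem TotSing.mono {Q : QuadraticForm F V} {U W : Submodule F V} (h : TotSing Q U) (hW : W ≤ U) : TotSing Q W :=
  fun x hx => h x (hW hx)

theorem TotSing.sup {Q : QuadraticForm F V} {U W : Submodule F V} (h : TotSing Q U) (h' : TotSing Q W)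
    (ho : ∀ u ∈ U, ∀ w ∈ W, polar Q u w = 0) : TotSing Q (U ⊔ W) := fun x hx => by
  obtain ⟨u, hu, w, hw, rfl⟩ := Submodule.mem_sup.1 hx
  rw [QuadraticMap.map_add (⇑Q), h u hu, h' w hw, ho u hu w hw]; ring

/-- Some totally singular subspace has dimension `l`. -/
def HasSing (Q : QuadraticForm F V) (l : ℕ) : Prop := ∃ U : Submodule F V, TotSing Q U ∧ finrank F U = l

open scoped _root_.Classical in
/-- The dimension of the anisotropic kernel. -/
noncomputable def defect (Q : QuadraticForm F V) : ℕ :=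
  if Odd (finrank F V) then 1 else if IsPlus Q then 0 else 2

theorem defect_le_two (Q : QuadraticForm F V) : defect Q ≤ 2 := by
  unfold defect; split_ifs <;> omega

theorem defect_of_odd {Q : QuadraticForm F V} (h : Odd (finrank F V)) : defect Q = 1 := by
  rw [defect, if_pos h]

theorem defect_of_plus {Q : QuadraticForm F V} (h : IsPlus Q) : defect Q = 0 := by
  have he : ¬ Odd (finrank F V) := by
    obtain ⟨U, -, hU⟩ := h
    rw [← hU]; simp
  rw [defect, if_neg he, if_pos h]

theorem defect_of_not_plus {Q : QuadraticForm F V} (he : Even (finrank F V)) (h : ¬ IsPlus Q) : defect Q = 2 := by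
  rw [defect, if_neg (Nat.not_odd_iff_even.2 he), if_neg h]

/-- The restriction to a member of an orthogonal decomposition is nondegenerate. -/
theorem ndPolar_restrict {Q : QuadraticForm F V} (hnd : NDPolar Q) {C D : Submodule F V} (hc : C ⊔ D = ⊤)
    (ho : ∀ c ∈ C, ∀ d ∈ D, polar Q c d = 0) : NDPolar (Q.comp C.subtype) := fun x hx => by
  refine Subtype.ext (hnd _ fun y => ?_)
  obtain ⟨c, hc', d, hd, rfl⟩ := Submodule.mem_sup.1 (hc ▸ Submodule.mem_top : y ∈ C ⊔ D)
  rw [polar_add_right, ho _ x.2 d hd, add_zero]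
  exact hx ⟨c, hc'⟩

theorem finrank_add {C D : Submodule F V} [FiniteDimensional F V] (hc : C ⊔ D = ⊤) (hd : C ⊓ D = ⊥) :
    finrank F C + finrank F D = finrank F V := by
  have h := Submodule.finrank_sup_add_finrank_inf_eq C D
  rw [hc, hd, finrank_bot, finrank_top, add_zero] at h
  exact h.symm

theorem hasSing_map {W : Type*} [AddCommGroup W] [Module F W] (Q : QuadraticForm F V) {f : W →ₗ[F] V}
    (hf : Function.Injective f) {l : ℕ} (h : HasSing (Q.comp f) l) :
    ∃ U : Submodule F V, U ≤ LinearMap.range f ∧ TotSing Q U ∧ finrank F U = l := by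
  obtain ⟨U, hU, hd⟩ := h
  refine ⟨U.map f, LinearMap.map_le_range, ?_, ?_⟩
  · rintro _ ⟨x, hx, rfl⟩
    exact hU x hx
  · rw [← hd]
    exact (Submodule.equivMapOfInjective f hf U).finrank_eq.symm

variable [Fintype F] [FiniteDimensional F V]

/-- The dimensions of totally singular subspaces. -/
theorem hasSing_iff {Q : QuadraticForm F V} (hnd : NDPolar Q) (l : ℕ) :
    HasSing Q l ↔ 2 * l + defect Q ≤ finrank F V := by
  classical
  obtain ⟨k, s, e, f, W, hn, hs, hf, hW, hani, horth, -⟩ :=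
    CfsgLib.FormsDisc.exists_decomp (finrank F V) Q hnd rfl
  constructor
  · rintro ⟨U, hU, hd⟩
    have h2 := two_mul_finrank_le (B := polarBilin Q) hnd hU.isotropic
    unfold defect
    split_ifs with ho hp
    · obtain ⟨u, hu⟩ := ho
      omega
    · omega
    · obtain ⟨u, hu⟩ := Nat.not_odd_iff_even.1 ho
      have hne : 2 * finrank F U ≠ finrank F V := fun h => hp ⟨U, hU, h⟩
      omega
  · intro hl
    have hlk : l ≤ k := by
      unfold defect at hl
      split_ifs at hl with ho hp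
      · obtain ⟨u, hu⟩ := ho
        omega
      · by_contra hlk
        obtain rfl : s = 2 := by omega
        exact CfsgLib.RootCount.not_isPlus_of_plane Q hnd hf W hW hani horth (by omega) hp
      · omega
    have hli := (CfsgLib.FormsDisc.linearIndependent_family Q hf (κ := Fin 0) Fin.elim0
      linearIndependent_empty_type (fun c => c.elim0)).comp Sum.inl Sum.inl_injective
    have hle : LinearIndependent F (fun j : Fin l => e (Fin.castLE hlk j)) :=
      (show LinearIndependent F e from hli.comp Sum.inl Sum.inl_injective).comp _ (Fin.castLE_injective hlk)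
    refine ⟨Submodule.span F (Set.range fun j : Fin l => e (Fin.castLE hlk j)), fun x hx => ?_, ?_⟩
    · obtain ⟨c, rfl⟩ := (Submodule.mem_span_range_iff_exists_fun F).1 hx
      exact CfsgLib.RootCount.Q_sum_singular Q _ c _ (fun i => (hf.sing _).1) fun i j => (hf.iso _ _).1
    · rw [finrank_span_eq_card hle, Fintype.card_fin]

theorem defect_le {Q : QuadraticForm F V} (hnd : NDPolar Q) : defect Q ≤ finrank F V := by
  have h := (hasSing_iff hnd 0).1 ⟨⊥, fun x hx => by simp [(Submodule.mem_bot F).1 hx], finrank_bot F V⟩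
  omega

theorem isPlus_of_finrank_zero {Q : QuadraticForm F V} (h : finrank F V = 0) : IsPlus Q :=
  ⟨⊥, fun x hx => by simp [(Submodule.mem_bot F).1 hx], by rw [finrank_bot, h]⟩

/-- The two sorts of binary anisotropic spaces are opposite. -/
theorem exists_anti_iso {Q : QuadraticForm F V} {W₁ W₂ : Submodule F V} (h1 : finrank F W₁ = 2)
    (h2 : finrank F W₂ = 2) (ha1 : ∀ w ∈ W₁, Q w = 0 → w = 0) (ha2 : ∀ w ∈ W₂, Q w = 0 → w = 0)
    (hn1 : ∀ w ∈ W₁, (∀ w' ∈ W₁, polar Q w w' = 0) → w = 0)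
    (hn2 : ∀ w ∈ W₂, (∀ w' ∈ W₂, polar Q w w' = 0) → w = 0) :
    ∃ φ : W₁ →ₗ[F] W₂, ∀ w, Q (φ w : V) = - Q (w : V) := by
  classical
  obtain ⟨a, b, v, w, hab, hv, hw, hli, hQ⟩ := CfsgLib.RootCount.exists_plane_basis Q W₁ h1 ha1 hn1
  obtain ⟨a', b', v', w', hab', hv', hw', hli', hQ'⟩ := CfsgLib.RootCount.exists_plane_basis Q W₂ h2 ha2 hn2
  obtain ⟨g, hg⟩ := CfsgLib.RootCount.binary_equiv hab hab'
  obtain ⟨u, hu⟩ := CfsgLib.Classical.Quad.exists_binForm_eq (a := a) (b := b) hab (-1)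
  let L₁ : (Fin 2 → F) →ₗ[F] W₁ := Fintype.linearCombination F ![⟨v, hv⟩, ⟨w, hw⟩]
  let L₂ : (Fin 2 → F) →ₗ[F] W₂ := Fintype.linearCombination F ![⟨v', hv'⟩, ⟨w', hw'⟩]
  have hL₁ : ∀ z, (L₁ z : V) = z 0 • v + z 1 • w := fun z => by
    simp [L₁, Fintype.linearCombination_apply, Fin.sum_univ_two]
  have hL₂ : ∀ z, (L₂ z : V) = z 0 • v' + z 1 • w' := fun z => by
    simp [L₂, Fintype.linearCombination_apply, Fin.sum_univ_two]
  have hinj : Function.Injective L₁ := (injective_iff_map_eq_zero _).2 fun z hz => by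
    have h := congrArg Subtype.val hz
    rw [hL₁] at h
    obtain ⟨e0, e1⟩ := LinearIndependent.pair_iff.1 hli _ _ h
    funext x; fin_cases x <;> assumption
  let E := L₁.linearEquivOfInjective hinj (by rw [h1]; simp)
  refine ⟨L₂.comp (g.toLinearMap.comp ((CfsgLib.Classical.Quad.binMul a b u).comp E.symm.toLinearMap)), fun x => ?_⟩
  obtain ⟨z, rfl⟩ := E.surjective x
  have hz : (E z : V) = z 0 • v + z 1 • w := hL₁ z
  simp only [LinearMap.comp_apply, LinearEquiv.coe_coe, LinearEquiv.symm_apply_apply]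
  rw [hL₂, hQ', hz, hQ, hg]
  have h := CfsgLib.Classical.Quad.binForm_binMul a b u z
  rw [hu, CfsgLib.Classical.Quad.binForm_apply, CfsgLib.Classical.Quad.binForm_apply] at h
  linear_combination h

omit [Fintype F] in
theorem singular_span {Q : QuadraticForm F V} {k : ℕ} {e f : Fin k → V} (hf : IsHypFamily Q e f) :
    TotSing Q (Submodule.span F (Set.range e)) ∧ finrank F (Submodule.span F (Set.range e)) = k := by
  have hli : LinearIndependent F e := ((CfsgLib.FormsDisc.linearIndependent_family Q hf (κ := Fin 0) Fin.elim0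
    linearIndependent_empty_type (fun c => c.elim0)).comp Sum.inl Sum.inl_injective).comp Sum.inl Sum.inl_injective
  refine ⟨fun x hx => ?_, by rw [finrank_span_eq_card hli, Fintype.card_fin]⟩
  obtain ⟨c, rfl⟩ := (Submodule.mem_span_range_iff_exists_fun F).1 hx
  exact CfsgLib.RootCount.Q_sum_singular Q _ c _ (fun i => (hf.sing _).1) fun i j => (hf.iso _ _).1

theorem decomp_of_plus {Q : QuadraticForm F V} (hnd : NDPolar Q) (hp : IsPlus Q) :
    ∃ (k : ℕ) (e f : Fin k → V), IsHypFamily Q e f ∧ finrank F V = 2 * k := by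
  obtain ⟨k, s, e, f, W, hn, hs, hf, hW, hani, horth, -⟩ :=
    CfsgLib.FormsDisc.exists_decomp (finrank F V) Q hnd rfl
  obtain ⟨U, -, hU⟩ := id hp
  refine ⟨k, e, f, hf, ?_⟩
  by_contra h
  obtain rfl : s = 2 := by omega
  exact CfsgLib.RootCount.not_isPlus_of_plane Q hnd hf W hW hani horth (by omega) hp

theorem decomp_of_not_plus {Q : QuadraticForm F V} (hnd : NDPolar Q) (he : Even (finrank F V)) (hp : ¬ IsPlus Q) :
    ∃ (k : ℕ) (e f : Fin k → V) (W : Submodule F V), IsHypFamily Q e f ∧ finrank F V = 2 * k + 2 ∧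
      finrank F W = 2 ∧ (∀ w ∈ W, Q w = 0 → w = 0) ∧ (∀ w ∈ W, ∀ i, polar Q (e i) w = 0 ∧ polar Q (f i) w = 0) ∧
        (∀ w ∈ W, (∀ w' ∈ W, polar Q w w' = 0) → w = 0) := by
  obtain ⟨k, s, e, f, W, hn, hs, hf, hW, hani, horth, hndW⟩ :=
    CfsgLib.FormsDisc.exists_decomp (finrank F V) Q hnd rfl
  obtain ⟨u, hu⟩ := he
  obtain rfl : s = 2 := by
    by_contra h
    exact hp ⟨_, (singular_span hf).1, by rw [(singular_span hf).2]; omega⟩
  exact ⟨k, e, f, W, hf, hn, hW, hani, horth, hndW⟩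

omit [Fintype F] [FiniteDimensional F V] in
/-- Hyperbolic families of orthogonal subspaces combine. -/
theorem isHypFamily_append {Q : QuadraticForm F V} {k l : ℕ} {e f : Fin k → V} {e' f' : Fin l → V}
    (h : IsHypFamily Q e f) (h' : IsHypFamily Q e' f')
    (ho : ∀ i j, polar Q (e i) (e' j) = 0 ∧ polar Q (e i) (f' j) = 0 ∧ polar Q (f i) (e' j) = 0 ∧
      polar Q (f i) (f' j) = 0) : IsHypFamily Q (Fin.append e e') (Fin.append f f') := by
  refine ⟨fun i => ?_, fun i j => ?_, fun i j => ?_⟩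
  · induction i using Fin.addCases with
    | left i => simpa using h.sing i
    | right i => simpa using h'.sing i
  · induction i using Fin.addCases with
    | left i =>
      induction j using Fin.addCases with
      | left j => simpa using h.pair i j
      | right j => simp [(ho i j).2.1, Fin.ext_iff]; omega
    | right i =>
      induction j using Fin.addCases with
      | left j => simp [polar_comm Q (e' i) (f j), (ho j i).2.2.1, Fin.ext_iff]; omega
      | right j => simpa using h'.pair i j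
  · induction i using Fin.addCases with
    | left i =>
      induction j using Fin.addCases with
      | left j => simpa using h.iso i j
      | right j => simp [(ho i j).1, (ho i j).2.2.2]
    | right i =>
      induction j using Fin.addCases with
      | left j => simp [polar_comm Q (e' i) (e j), polar_comm Q (f' i) (f j), (ho j i).1, (ho j i).2.2.2]
      | right j => simpa using h'.iso i j

omit [Fintype F] [FiniteDimensional F V] in
theorem isHypFamily_map {W : Type*} [AddCommGroup W] [Module F W] {Q : QuadraticForm F V} {φ : W →ₗ[F] V} {k : ℕ}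
    {e f : Fin k → W} (h : IsHypFamily (Q.comp φ) e f) : IsHypFamily Q (fun i => φ (e i)) (fun i => φ (f i)) := by
  have hp : ∀ a b, polar Q (φ a) (φ b) = polar (Q.comp φ) a b := fun a b => by simp [polar]
  exact ⟨fun i => h.sing i, fun i j => by rw [hp]; exact h.pair i j,
    fun i j => by rw [hp, hp]; exact h.iso i j⟩

/-- A sum of two spaces of different types is not of plus type. -/
theorem not_plus_of_mixed {Q : QuadraticForm F V} (hnd : NDPolar Q) {C D : Submodule F V} (hc : C ⊔ D = ⊤)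
    (hd : C ⊓ D = ⊥) (ho : ∀ c ∈ C, ∀ d ∈ D, polar Q c d = 0) (hpC : IsPlus (Q.comp C.subtype))
    (heD : Even (finrank F D)) (hpD : ¬ IsPlus (Q.comp D.subtype)) : ¬ IsPlus Q := by
  have hndC := ndPolar_restrict hnd hc ho
  have hndD : NDPolar (Q.comp D.subtype) := ndPolar_restrict hnd (sup_comm C D ▸ hc)
    fun d hd' c hc' => by rw [polar_comm]; exact ho c hc' d hd'
  obtain ⟨k₁, e₁, f₁, hf₁, hn₁⟩ := decomp_of_plus hndC hpC
  obtain ⟨k₂, e₂, f₂, W, hf₂, hn₂, hW, hani, horth, -⟩ := decomp_of_not_plus hndD heD hpD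
  refine CfsgLib.RootCount.not_isPlus_of_plane Q hnd
    (isHypFamily_append (isHypFamily_map hf₁) (isHypFamily_map hf₂) fun i j =>
      ⟨ho _ (e₁ i).2 _ (e₂ j).2, ho _ (e₁ i).2 _ (f₂ j).2, ho _ (f₁ i).2 _ (e₂ j).2, ho _ (f₁ i).2 _ (f₂ j).2⟩)
    (W.map D.subtype) (by rw [Submodule.finrank_map_subtype_eq, hW]) ?_ ?_ ?_
  · rintro _ ⟨w, hw, rfl⟩ h
    rw [hani w hw h, map_zero]
  · rintro _ ⟨w, hw, rfl⟩ i
    induction i using Fin.addCases with
    | left i => simp [ho _ (e₁ i).2 _ w.2, ho _ (f₁ i).2 _ w.2]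
    | right i =>
      simp only [Fin.append_right]
      exact horth w hw i
  · rw [← finrank_add hc hd]; omega

/-- The type of an orthogonal sum. -/
theorem isPlus_iff_of_decomp {Q : QuadraticForm F V} (hnd : NDPolar Q) {C D : Submodule F V} (hc : C ⊔ D = ⊤)
    (hd : C ⊓ D = ⊥) (ho : ∀ c ∈ C, ∀ d ∈ D, polar Q c d = 0) (heC : Even (finrank F C))
    (heD : Even (finrank F D)) : IsPlus Q ↔ (IsPlus (Q.comp C.subtype) ↔ IsPlus (Q.comp D.subtype)) := by
  classical
  have hndC := ndPolar_restrict hnd hc ho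
  have hndD : NDPolar (Q.comp D.subtype) := ndPolar_restrict hnd (sup_comm C D ▸ hc)
    fun d hd' c hc' => by rw [polar_comm]; exact ho c hc' d hd'
  have hdim := finrank_add hc hd
  have hdisj : ∀ {A B : Submodule F V}, A ≤ C → B ≤ D → A ⊓ B = ⊥ := fun hA hB =>
    eq_bot_iff.2 (hd ▸ inf_le_inf hA hB)
  by_cases hpC : IsPlus (Q.comp C.subtype) <;> by_cases hpD : IsPlus (Q.comp D.subtype)
  · refine iff_of_true ?_ (iff_of_true hpC hpD)
    obtain ⟨k₁, e₁, f₁, hf₁, hn₁⟩ := decomp_of_plus hndC hpC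
    obtain ⟨k₂, e₂, f₂, hf₂, hn₂⟩ := decomp_of_plus hndD hpD
    obtain ⟨h1, h2⟩ := singular_span (isHypFamily_append (isHypFamily_map (φ := C.subtype) hf₁)
      (isHypFamily_map (φ := D.subtype) hf₂) fun i j =>
      ⟨ho _ (e₁ i).2 _ (e₂ j).2, ho _ (e₁ i).2 _ (f₂ j).2, ho _ (f₁ i).2 _ (e₂ j).2, ho _ (f₁ i).2 _ (f₂ j).2⟩)
    exact ⟨_, h1, by omega⟩
  · exact iff_of_false (not_plus_of_mixed hnd hc hd ho hpC heD hpD) (by tauto)
  · exact iff_of_false (not_plus_of_mixed hnd (sup_comm C D ▸ hc) (inf_comm C D ▸ hd)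
      (fun d hd' c hc' => by rw [polar_comm]; exact ho c hc' d hd') hpD heC hpC) (by tauto)
  · -- two anisotropic planes
    refine iff_of_true ?_ (iff_of_false hpC hpD)
    obtain ⟨k₁, e₁, f₁, W₁, hf₁, hn₁, hW₁, hani₁, horth₁, hndW₁⟩ := decomp_of_not_plus hndC heC hpC
    obtain ⟨k₂, e₂, f₂, W₂, hf₂, hn₂, hW₂, hani₂, horth₂, hndW₂⟩ := decomp_of_not_plus hndD heD hpD
    let X₁ := W₁.map C.subtype
    let X₂ := W₂.map D.subtype
    have hX1C : X₁ ≤ C := Submodule.map_subtype_le _ _
    have hX2D : X₂ ≤ D := Submodule.map_subtype_le _ _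
    obtain ⟨φ, hφ⟩ := exists_anti_iso (Q := Q) (W₁ := X₁) (W₂ := X₂)
      (by rw [Submodule.finrank_map_subtype_eq, hW₁]) (by rw [Submodule.finrank_map_subtype_eq, hW₂])
      (by rintro _ ⟨w, hw, rfl⟩ h; rw [hani₁ w hw h, map_zero])
      (by rintro _ ⟨w, hw, rfl⟩ h; rw [hani₂ w hw h, map_zero])
      (by rintro _ ⟨w, hw, rfl⟩ h; rw [hndW₁ w hw fun w' hw' => h _ ⟨w', hw', rfl⟩, map_zero])
      (by rintro _ ⟨w, hw, rfl⟩ h; rw [hndW₂ w hw fun w' hw' => h _ ⟨w', hw', rfl⟩, map_zero])
    let Φ : X₁ →ₗ[F] V := X₁.subtype + X₂.subtype.comp φ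
    obtain ⟨hsE, hdE⟩ := singular_span (isHypFamily_append (isHypFamily_map (φ := C.subtype) hf₁)
      (isHypFamily_map (φ := D.subtype) hf₂) fun i j =>
      ⟨ho _ (e₁ i).2 _ (e₂ j).2, ho _ (e₁ i).2 _ (f₂ j).2, ho _ (f₁ i).2 _ (e₂ j).2, ho _ (f₁ i).2 _ (f₂ j).2⟩)
    set E := Submodule.span F (Set.range (Fin.append (fun i => C.subtype (e₁ i)) fun i => D.subtype (e₂ i))) with hEdef
    have hP : TotSing Q (LinearMap.range Φ) := by
      rintro _ ⟨x, rfl⟩
      show Q ((x : V) + (φ x : V)) = 0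
      rw [QuadraticMap.map_add (⇑Q), hφ, ho _ (hX1C x.2) _ (hX2D (φ x).2)]; ring
    have hinj : Function.Injective Φ := (injective_iff_map_eq_zero _).2 fun x hx => by
      have hx' : (x : V) + (φ x : V) = 0 := hx
      refine Subtype.ext ((Submodule.eq_bot_iff _).1 (hdisj hX1C hX2D) _ ⟨x.2, ?_⟩)
      rw [eq_neg_of_add_eq_zero_left hx']
      exact X₂.neg_mem (φ x).2
    have hoP : ∀ u ∈ E, ∀ w ∈ LinearMap.range Φ, polar Q u w = 0 := by
      rintro u hu _ ⟨x, rfl⟩
      obtain ⟨x', hx', hxx⟩ := x.2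
      obtain ⟨y', hy', hyy⟩ := (φ x).2
      obtain ⟨c, rfl⟩ := (Submodule.mem_span_range_iff_exists_fun F).1 hu
      show polar Q _ ((x : V) + (φ x : V)) = 0
      rw [← polarBilin_apply_apply, map_sum, LinearMap.sum_apply]
      refine Finset.sum_eq_zero fun i _ => ?_
      rw [map_smul, LinearMap.smul_apply, polarBilin_apply_apply, ← hxx, ← hyy, polar_add_right]
      induction i using Fin.addCases with
      | left i =>
        rw [Fin.append_left, show polar Q (C.subtype (e₁ i)) (D.subtype y') = 0 from ho _ (e₁ i).2 _ y'.2, show polar Q (C.subtype (e₁ i)) (C.subtype x') = 0 from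
          (horth₁ x' hx' i).1]
        simp
      | right i =>
        rw [Fin.append_right, polar_comm Q _ (C.subtype x'), show polar Q (C.subtype x') (D.subtype (e₂ i)) = 0 from ho _ x'.2 _ (e₂ i).2,
          show polar Q (D.subtype (e₂ i)) (D.subtype y') = 0 from (horth₂ y' hy' i).1]
        simp
    refine ⟨E ⊔ LinearMap.range Φ, hsE.sup hP hoP, ?_⟩
    have h2 := Submodule.finrank_sup_add_finrank_inf_eq E (LinearMap.range Φ)
    have h0 : E ⊓ LinearMap.range Φ = ⊥ := by
      refine (Submodule.eq_bot_iff _).2 ?_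
      rintro z ⟨hz, ⟨x, rfl⟩⟩
      obtain ⟨c, hc'⟩ := (Submodule.mem_span_range_iff_exists_fun F).1 hz
      rw [Fin.sum_univ_add] at hc'
      simp only [Fin.append_left, Fin.append_right, ← map_smul, ← map_sum] at hc'
      set c₁ := ∑ i, c (Fin.castAdd k₂ i) • e₁ i with hc₁
      set c₂ := ∑ i, c (Fin.natAdd k₁ i) • e₂ i
      have hcd' : (c₁ : V) + (c₂ : V) = (x : V) + (φ x : V) := hc'
      have hcx : (c₁ : V) = (x : V) := by
        refine sub_eq_zero.1 ((Submodule.eq_bot_iff _).1 hd _ ⟨C.sub_mem c₁.2 (hX1C x.2), ?_⟩)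
        rw [show (c₁ : V) - (x : V) = (φ x : V) - (c₂ : V) by rw [sub_eq_sub_iff_add_eq_add, hcd', add_comm]]
        exact D.sub_mem (hX2D (φ x).2) c₂.2
      obtain ⟨x', hx', hxx⟩ := x.2
      rw [← hxx] at hcx
      obtain rfl : c₁ = x' := Subtype.ext hcx
      have h0' : c₁ = 0 := hani₁ c₁ hx' ((singular_span hf₁).1 c₁
        ((Submodule.mem_span_range_iff_exists_fun F).2 ⟨fun i => c (Fin.castAdd k₂ i), hc₁.symm⟩))
      have : x = 0 := Subtype.ext (by rw [← hxx, h0', map_zero]; rfl)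
      rw [this, map_zero]
    rw [h0, finrank_bot, LinearMap.finrank_range_of_inj hinj, Submodule.finrank_map_subtype_eq, hW₁, hdE] at h2
    omega

end CfsgLib.PrimeFix.Quad
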