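import Mathlib
import Cfsg.Agent.Lib.PrimeFix.Grow

/-!
Counting subspaces through tuples, and powers of an irreducible operator of prime order lying in distinct kinds.
-/

set_option autoImplicit false

namespace CfsgLib.PrimeFix

open Polynomial Module

variable {F : Type*} [Field F] [Fintype F] {r : ℕ} [hr : Fact r.Prime]

/-- Tuples spanning subspaces with a given property. -/
theorem card_tuples_eq {V : Type*} [AddCommGroup V] [Module F V] [FiniteDimensional F V] (k : ℕ)
    (P : Submodule F V → Prop) :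
    Nat.card {t : Fin k → V // LinearIndependent F t ∧ P (Submodule.span F (Set.range t))} =
      Nat.card {W : Submodule F V // finrank F W = k ∧ P W} *
        ∏ j : Fin k, (Fintype.card F ^ k - Fintype.card F ^ (j : ℕ)) := by
  classical
  haveI : Finite V := Module.finite_of_finite F
  haveI : Finite (Submodule F V) := Finite.of_injective (fun W : Submodule F V => (W : Set V)) SetLike.coe_injective
  haveI : Fintype {W : Submodule F V // finrank F W = k ∧ P W} := Fintype.ofFinite _
  have hspan : ∀ (W : Submodule F V), finrank F W = k → ∀ s : Fin k → W, LinearIndependent F s →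
      Submodule.span F (Set.range fun j => (s j : V)) = W := by
    intro W hW s hs
    refine Submodule.eq_of_le_of_finrank_eq ?_ ?_
    · rw [Submodule.span_le]; rintro _ ⟨j, rfl⟩; exact (s j).2
    · rw [finrank_span_eq_card (b := fun j => (s j : V)) (hs.map' W.subtype W.ker_subtype), Fintype.card_fin, hW]
  let φ : (Σ W : {W : Submodule F V // finrank F W = k ∧ P W}, {s : Fin k → W.1 // LinearIndependent F s}) →
      {t : Fin k → V // LinearIndependent F t ∧ P (Submodule.span F (Set.range t))} :=
    fun p => ⟨fun j => (p.2.1 j : V), p.2.2.map' p.1.1.subtype p.1.1.ker_subtype, by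
      rw [hspan p.1.1 p.1.2.1 _ p.2.2]; exact p.1.2.2⟩
  have hφ : Function.Bijective φ := by
    refine ⟨fun p p' h => ?_, fun t => ?_⟩
    · obtain ⟨⟨W, hW⟩, ⟨s, hs⟩⟩ := p
      obtain ⟨⟨W', hW'⟩, ⟨s', hs'⟩⟩ := p'
      have ht : (fun j => (s j : V)) = fun j => (s' j : V) := congrArg Subtype.val h
      obtain rfl : W = W' := by rw [← hspan W hW.1 s hs, ← hspan W' hW'.1 s' hs', ht]
      obtain rfl : s = s' := funext fun j => Subtype.ext (congrFun ht j)
      rfl
    · exact ⟨⟨⟨Submodule.span F (Set.range t.1),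
          by rw [finrank_span_eq_card t.2.1, Fintype.card_fin], t.2.2⟩,
        ⟨fun j => ⟨t.1 j, Submodule.subset_span ⟨j, rfl⟩⟩,
          LinearIndependent.of_comp (Submodule.subtype _) t.2.1⟩⟩, rfl⟩
  let e := (Equiv.ofBijective φ hφ).symm
  rw [Nat.card_congr e, Nat.card_sigma]
  have hc : ∀ W : {W : Submodule F V // finrank F W = k ∧ P W}, Nat.card {s : Fin k → W.1 // LinearIndependent F s} =
      ∏ j : Fin k, (Fintype.card F ^ k - Fintype.card F ^ (j : ℕ)) := fun W => by
    rw [card_linearIndependent (K := F) (V := W.1) (le_of_eq W.2.1.symm), W.2.1]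
  rw [Finset.sum_congr rfl (fun W _ => hc W), Finset.sum_const, Finset.card_univ, Nat.card_eq_fintype_card,
    smul_eq_mul]

/-- Representatives of pairwise different kinds. -/
theorem exists_kinds (hrF : (r : F) ≠ 0) : ∃ c : Fin ((r - 1) / orderOf (Fintype.card F : ZMod r)) → ℕ,
    (∀ a, (c a : ZMod r) ≠ 0) ∧
      ∀ a b (l : ℕ), (c a : ZMod r) = c b * (Fintype.card F : ZMod r) ^ l → a = b := by
  classical
  set Q := Units.mk0 (Fintype.card F : ZMod r) (cast_card_ne_zero hrF) with hQ
  set H := Subgroup.zpowers Q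
  have hH : Nat.card H = orderOf (Fintype.card F : ZMod r) := by
    rw [Nat.card_zpowers, ← orderOf_units, hQ, Units.val_mk0]
  have hidx : H.index = (r - 1) / orderOf (Fintype.card F : ZMod r) := by
    rw [← hH]
    refine (Nat.div_eq_of_eq_mul_left Nat.card_pos ?_).symm
    rw [H.index_mul_card, Nat.card_units, Nat.card_eq_fintype_card, ZMod.card]
  let e : Fin ((r - 1) / orderOf (Fintype.card F : ZMod r)) ≃ (ZMod r)ˣ ⧸ H :=
    (finCongr hidx.symm).trans (Finite.equivFin _).symm
  refine ⟨fun a => ((Quotient.out (e a) : (ZMod r)ˣ) : ZMod r).val, fun a => ?_, fun a b l h => e.injective ?_⟩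
  · rw [ZMod.natCast_zmod_val]; exact Units.ne_zero _
  · simp only [ZMod.natCast_zmod_val] at h
    rw [← QuotientGroup.out_eq' (e a), ← QuotientGroup.out_eq' (e b)]
    refine QuotientGroup.eq.2 ?_
    have h' : (Quotient.out (e a) : (ZMod r)ˣ) = Quotient.out (e b) * Q ^ l := Units.ext (by simpa [hQ] using h)
    rw [h', mul_inv_rev, mul_assoc, inv_mul_cancel, mul_one, inv_mem_iff]
    exact pow_mem (Subgroup.mem_zpowers Q) l

variable {V : Type*} [AddCommGroup V] [Module F V] [FiniteDimensional F V]

/-- In dimension equal to the order of `q`, a nontrivial operator of order `r` fixes no nonzero vector. -/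
theorem fpf_of_finrank_eq (hrF : (r : F) ≠ 0) {y : Module.End F V} (hy : y ^ r = 1) (hy1 : y ≠ 1)
    (hdim : finrank F V = orderOf (Fintype.card F : ZMod r)) : Fpf y ⊤ := by
  have hS : ∀ v, (∑ k ∈ Finset.range r, y ^ k) v = 0 → y v = v → v = 0 := fun v hv hfix => by
    have hk : ∀ k : ℕ, (y ^ k) v = v := fun k => by
      induction k with
      | zero => rfl
      | succ k ih => rw [pow_succ, Module.End.mul_apply, hfix, ih]
    rw [LinearMap.sum_apply, Finset.sum_congr rfl (fun k _ => hk k), Finset.sum_const, Finset.card_range,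
      ← Nat.cast_smul_eq_nsmul F, smul_eq_zero] at hv
    exact hv.resolve_left hrF
  set D := LinearMap.ker (∑ k ∈ Finset.range r, y ^ k)
  have hD : Inv y D := by
    have h : (∑ k ∈ Finset.range r, y ^ k) = aeval y (∑ k ∈ Finset.range r, (X : F[X]) ^ k) := by simp
    simp only [D, h]
    exact inv_ker_aeval _
  have hfreeD : Fpf y D := fun v hv h => hS v hv h
  obtain ⟨c, hc⟩ := ord_dvd_finrank hy hD hfreeD
  have hle := Submodule.finrank_le D
  rcases Nat.eq_zero_or_pos c with rfl | hc0
  · exfalso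
    refine hy1 (LinearMap.ext fun v => ?_)
    obtain ⟨a, -, ha, b, -, hb, rfl⟩ := exists_split (T := y) hrF hy (W := ⊤) (fun _ _ => trivial) (w := v) trivial
    rw [mul_zero, Submodule.finrank_eq_zero] at hc
    rw [(Submodule.eq_bot_iff _).1 hc b hb, add_zero, ha]; rfl
  · have htop : D = ⊤ := Submodule.eq_top_of_finrank_eq (le_antisymm hle (by rw [hc, hdim]; exact Nat.le_mul_of_pos_right _ hc0))
    exact fun v _ h => hfreeD v (htop ▸ trivial) h

/-- Powers of an irreducible operator in distinct kinds are separated by a polynomial. -/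
theorem exists_separator (hrF : (r : F) ≠ 0) {y : Module.End F V} (hy : y ^ r = 1) (hy1 : y ≠ 1)
    (hdim : finrank F V = orderOf (Fintype.card F : ZMod r)) {a : ℕ} (ha : (a : ZMod r) ≠ 0) (S : Finset ℕ)
    (hS : ∀ b ∈ S, (b : ZMod r) ≠ 0 ∧ ∀ l : ℕ, (a : ZMod r) ≠ b * (Fintype.card F : ZMod r) ^ l) :
    ∃ g : F[X], Function.Injective (aeval (y ^ a) g) ∧ ∀ b ∈ S, aeval (y ^ b) g = 0 := by
  have hfree := fpf_of_finrank_eq hrF hy hy1 hdim
  have hord : orderOf y = r := orderOf_eq_prime hy hy1
  have hpow : ∀ {k : ℕ}, (k : ZMod r) ≠ 0 → y ^ k ≠ 1 := fun hk h => hk (by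
    rw [ZMod.natCast_eq_zero_iff, ← hord]; exact orderOf_dvd_of_pow_eq_one h)
  induction S using Finset.induction with
  | empty => exact ⟨1, by simp [Function.Injective], by simp⟩
  | @insert b S hb ih =>
    obtain ⟨g, hg, hg0⟩ := ih fun b' hb' => hS b' (Finset.mem_insert_of_mem hb')
    obtain ⟨hb0, hbl⟩ := hS b (Finset.mem_insert_self b S)
    have hyb : (y ^ b) ^ r = 1 := by rw [← pow_mul, mul_comm, pow_mul, hy, one_pow]
    have hfb := fpf_of_finrank_eq hrF hyb (hpow hb0) hdim
    obtain ⟨f, hf, hirr, hdvd, hker⟩ := exists_factor_lt hrF hyb (W := ⊤) (fun _ _ => trivial) hfb (c := 0)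
      (by rw [finrank_top, hdim, mul_zero]; exact ord_pos hrF)
    obtain ⟨v, hv, hv0⟩ := Submodule.exists_mem_ne_zero_of_ne_bot (p := ⊤ ⊓ LinearMap.ker (aeval (y ^ b) f))
      (fun h => by rw [h, finrank_bot] at hker; omega)
    have hall : aeval (y ^ b) f = 0 := by
      refine LinearMap.ker_eq_top.1 (Submodule.eq_top_of_finrank_eq (le_antisymm (Submodule.finrank_le _) ?_))
      rw [hdim, ← finrank_cyc hrF hf hirr hdvd hv.2 hv0]
      exact Submodule.finrank_mono (cyc_le (inv_ker_aeval f) hv.2)
    have hinjf : Function.Injective (aeval (y ^ a) f) := by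
      rw [← LinearMap.ker_eq_bot, Submodule.eq_bot_iff]
      intro w hw
      by_contra hw0
      set m := ((a : ZMod r) * (b : ZMod r)⁻¹).val
      have hm : (m : ZMod r) * b = a := by
        rw [ZMod.natCast_zmod_val, mul_assoc, inv_mul_cancel₀ hb0, mul_one]
      have hbm : (y ^ b) ^ m = y ^ a := by
        rw [← pow_mul]
        refine pow_eq_pow_of_modEq ?_ hy
        rw [← ZMod.natCast_eq_natCast_iff, Nat.cast_mul, mul_comm, hm]
      have hTw : (y ^ b) w ≠ w := fun h => hw0 (hfb w trivial h)
      obtain ⟨l, hl⟩ := exists_exponent hf hirr (T := y ^ b) (v := w) (by rw [hall]; rfl) hw0 hyb hTw (m := m)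
        (by rw [hbm]; exact hw)
      exact hbl l (by rw [← hm, hl, mul_comm])
    refine ⟨f * g, ?_, fun b' hb' => ?_⟩
    · rw [map_mul]; exact hinjf.comp hg
    · rcases Finset.mem_insert.1 hb' with rfl | h
      · rw [map_mul, hall, zero_mul]
      · rw [map_mul, hg0 b' h, mul_zero]

end CfsgLib.PrimeFix
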