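import Mathlib
import Cfsg.Agent.Lib.PrimeFix.Quad
import Cfsg.Agent.Lib.PrimeFix.Kinds
import Cfsg.Agent.Lib.Classical.Quad.Std

/-!
The number of totally singular subspaces of a given dimension.
-/

set_option autoImplicit false

namespace CfsgLib.PrimeFix.Quad

open Module QuadraticMap
open CfsgLib.Classical.Quad (NDPolar)
open CfsgLib.RootCount (IsPlus)

variable {F : Type*} [Field F] [Fintype F] {V : Type*} [AddCommGroup V] [Module F V] [FiniteDimensional F V]

theorem even_sub_defect {Q : QuadraticForm F V} (hnd : NDPolar Q) :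
    ∃ K, finrank F V = 2 * K + defect Q := by
  have h := defect_le hnd
  by_cases ho : Odd (finrank F V)
  · obtain ⟨K, hK⟩ := ho
    exact ⟨K, by rw [defect_of_odd ⟨K, hK⟩, hK]⟩
  · obtain ⟨K, hK⟩ := Nat.not_odd_iff_even.1 ho
    by_cases hp : IsPlus Q
    · exact ⟨K, by rw [defect_of_plus hp]; omega⟩
    · rw [defect_of_not_plus ⟨K, hK⟩ hp] at h ⊢
      exact ⟨K - 1, by omega⟩

/-- The number of singular vectors. -/
theorem card_singular {Q : QuadraticForm F V} (hnd : NDPolar Q) {K : ℕ} (hK : finrank F V = 2 * K + defect Q) :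
    Nat.card {v : V // Q v = 0} =
      (Fintype.card F ^ K - 1) * (Fintype.card F ^ (K - 1) * Fintype.card F ^ defect Q) + Fintype.card F ^ K := by
  classical
  by_cases ho : Odd (finrank F V)
  · rw [defect_of_odd ho] at hK ⊢
    have h2' : (2 : F) ≠ 0 := by
      intro h2
      have := CharTwo.of_one_ne_zero_of_two_eq_zero (R := F) one_ne_zero h2
      obtain ⟨k, u, e, f, W, hn, hu, -, hW, -, -, hndW⟩ :=
        CfsgLib.FormsDisc.exists_decomp (finrank F V) Q hnd rfl
      obtain rfl : u = 1 := by omega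
      obtain ⟨⟨w, hwW⟩, hw0, hspan⟩ := (finrank_eq_one_iff' (K := F) (V := W)).1 hW
      refine hw0 (Subtype.ext (hndW w hwW fun w' hw' => ?_))
      obtain ⟨c, hc⟩ := hspan ⟨w', hw'⟩
      rw [show w' = c • w from (congrArg Subtype.val hc).symm, polar_smul_right,
        CfsgLib.Classical.Quad.polar_self', h2, zero_mul, smul_zero]
    obtain ⟨c, hc, E, hE⟩ := CfsgLib.RootCount.classify_odd h2' Q hnd hK
    rw [← Nat.card_congr (E.toEquiv.subtypeEquiv (p := fun v => CfsgLib.OrthCrit.oddForm K F v = 0)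
        (fun v => by rw [LinearEquiv.coe_toEquiv, hE]; simp [hc])),
      Nat.card_congr ((CfsgLib.Classical.Quad.oddEquiv K F).toEquiv.subtypeEquiv
        (q := fun v => CfsgLib.Classical.Quad.hypForm K (CfsgLib.Classical.Quad.lineForm F) v = 0)
        (fun v => by rw [LinearEquiv.coe_toEquiv, CfsgLib.Classical.Quad.oddEquiv_spec]; rfl)),
      CfsgLib.Classical.Quad.card_level_hypForm]
    have h1 : Nat.card {w : Unit → F // CfsgLib.Classical.Quad.lineForm F w = 0} = 1 := by
      rw [Nat.card_eq_one_iff_exists]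
      refine ⟨⟨0, QuadraticMap.map_zero _⟩, fun w => Subtype.ext (funext fun x => ?_)⟩
      have := w.2
      rw [CfsgLib.Classical.Quad.lineForm_apply] at this
      simpa using this
    rw [h1]
    simp [Nat.card_eq_fintype_card]
    ring
  · have he := Nat.not_odd_iff_even.1 ho
    obtain ⟨m, hm⟩ := he
    obtain ⟨a, c, hac⟩ := CfsgLib.RootCount.exists_aniso (F := F)
    rcases CfsgLib.RootCount.classify_even Q hnd (by omega : finrank F V = 2 * m) hac with ⟨hp, E, hE⟩ | ⟨hp, k, hk, E, hE⟩
    · rw [defect_of_plus hp] at hK ⊢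
      obtain rfl : m = K := by omega
      rw [← Nat.card_congr (E.toEquiv.subtypeEquiv (p := fun v => CfsgLib.OrthCrit.plusForm m F v = 0)
          (fun v => by rw [LinearEquiv.coe_toEquiv, hE])),
        Nat.card_congr ((CfsgLib.Classical.Quad.plusEquiv m F).toEquiv.subtypeEquiv
          (q := fun v => CfsgLib.Classical.Quad.hypForm m (CfsgLib.Classical.Quad.zeroKernel F) v = 0)
          (fun v => by rw [LinearEquiv.coe_toEquiv, CfsgLib.Classical.Quad.plusEquiv_spec]; rfl)),
        CfsgLib.Classical.Quad.card_level_hypForm, CfsgLib.Classical.Quad.card_zeros_zeroKernel]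
      simp [Nat.card_eq_fintype_card]
    · rw [defect_of_not_plus ⟨m, hm⟩ hp] at hK ⊢
      obtain rfl : k = K := by omega
      rw [← Nat.card_congr (E.toEquiv.subtypeEquiv (p := fun v => CfsgLib.OrthCrit.minusForm k F a c v = 0)
          (fun v => by rw [LinearEquiv.coe_toEquiv, hE])),
        Nat.card_congr ((CfsgLib.Classical.Quad.minusEquiv k F).toEquiv.subtypeEquiv
          (q := fun v => CfsgLib.Classical.Quad.hypForm k (CfsgLib.Classical.Quad.binForm a c) v = 0)
          (fun v => by rw [LinearEquiv.coe_toEquiv, CfsgLib.Classical.Quad.minusEquiv_spec]; rfl)),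
        CfsgLib.Classical.Quad.card_level_hypForm, CfsgLib.Classical.Quad.card_zeros_binForm hac]
      simp [Nat.card_eq_fintype_card]
      ring

/-- The singular vectors orthogonal to and outside a totally singular subspace. -/
theorem card_extensions {Q : QuadraticForm F V} (hnd : NDPolar Q) {U : Submodule F V} (hU : TotSing Q U) {K u : ℕ}
    (hK : finrank F V = 2 * K + defect Q) (hu : finrank F U = u) :
    Nat.card {v : V // Q v = 0 ∧ (∀ x ∈ U, polar Q x v = 0) ∧ v ∉ U} =
      Fintype.card F ^ u *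
        ((Fintype.card F ^ (K - u) - 1) * (Fintype.card F ^ (K - u - 1) * Fintype.card F ^ defect Q + 1)) := by
  classical
  haveI : Finite V := Module.finite_of_finite F
  have hb := (hasSing_iff hnd u).1 ⟨U, hU, hu⟩
  let P := LinearMap.BilinForm.orthogonal (polarBilin Q) U
  have hP : ∀ v, v ∈ P ↔ ∀ x ∈ U, polar Q x v = 0 := fun v => Iff.rfl
  have hUP : U ≤ P := fun y hy x hx => hU.isotropic x hx y hy
  have hdP : finrank F P = finrank F V - u := by rw [← hu]; exact CfsgLib.Orth.finrank_polar_orthogonal hnd U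
  obtain ⟨C', hC'⟩ := Submodule.exists_isCompl U
  set X := P ⊓ C'
  have hXU : X ⊓ U = ⊥ := eq_bot_iff.2 fun v hv => hC'.disjoint.le_bot ⟨hv.2, hv.1.2⟩
  have hsup : U ⊔ X = P := le_antisymm (sup_le hUP inf_le_left) fun v hv => by
    obtain ⟨a, ha, b, hb, rfl⟩ := Submodule.mem_sup.1 (hC'.sup_eq_top ▸ Submodule.mem_top : v ∈ U ⊔ C')
    exact Submodule.add_mem_sup ha ⟨(Submodule.add_mem_iff_right P (hUP ha)).1 hv, hb⟩
  have hdX : u + finrank F X = finrank F V - u := by
    have h := Submodule.finrank_sup_add_finrank_inf_eq U X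
    rw [hsup, inf_comm, hXU, finrank_bot, hdP, hu, add_zero] at h
    omega
  have hUX : ∀ x ∈ U, ∀ w ∈ X, polar Q x w = 0 := fun x hx w hw => hw.1 x hx
  have hperp2 : ∀ y, (∀ w ∈ P, polar Q w y = 0) → y ∈ U := by
    intro y hy
    have hle : U ≤ LinearMap.BilinForm.orthogonal (polarBilin Q) P := fun x hx w hw => by
      show polar Q w x = 0
      rw [polar_comm]; exact hw x hx
    have heq := Submodule.eq_of_le_of_finrank_eq hle (by
      rw [CfsgLib.Orth.finrank_polar_orthogonal hnd P, hdP, hu]; omega)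
    rw [heq]; exact hy
  -- a complement of the radical is nondegenerate
  have hndX : NDPolar (Q.comp X.subtype) := fun x hx => by
    refine Subtype.ext ((Submodule.eq_bot_iff _).1 hXU _ ⟨x.2, hperp2 _ fun w hw => ?_⟩)
    rw [← hsup] at hw
    obtain ⟨a, ha, b, hb, rfl⟩ := Submodule.mem_sup.1 hw
    rw [polar_add_left, hUX a ha _ x.2, zero_add, polar_comm]
    exact hx ⟨b, hb⟩
  -- the orthogonal space of the complement is hyperbolic
  let Y := LinearMap.BilinForm.orthogonal (polarBilin Q) X
  have hUY : U ≤ Y := fun y hy x hx => by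
    show polar Q x y = 0
    rw [polar_comm]; exact hUX y hy x hx
  have hdY : finrank F Y = 2 * u := by rw [CfsgLib.Orth.finrank_polar_orthogonal hnd X]; omega
  have hXY : X ⊓ Y = ⊥ := (Submodule.eq_bot_iff _).2 fun v hv => by
    have := hndX ⟨v, hv.1⟩ fun w => by
      show polar Q v (w : V) = 0
      rw [polar_comm]; exact hv.2 w w.2
    exact congrArg Subtype.val this
  have hXYtop : X ⊔ Y = ⊤ := Submodule.eq_top_of_finrank_eq (by
    have h := Submodule.finrank_sup_add_finrank_inf_eq X Y
    rw [hXY, finrank_bot, hdY] at h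
    omega)
  have hdefect : defect (Q.comp X.subtype) = defect Q := by
    unfold defect
    have hpar : finrank F V = finrank F X + 2 * u := by omega
    by_cases ho : Odd (finrank F V)
    · rw [if_pos ho, if_pos (by rw [hpar, Nat.odd_add] at ho; exact ho.2 (even_two_mul u))]
    · have he := Nat.not_odd_iff_even.1 ho
      have heX : Even (finrank F X) := by rw [hpar, Nat.even_add] at he; exact he.2 (even_two_mul u)
      rw [if_neg ho, if_neg (Nat.not_odd_iff_even.2 heX)]
      have hYp : IsPlus (Q.comp Y.subtype) := ⟨U.comap Y.subtype, fun x hx => hU _ hx, by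
        rw [(Submodule.comapSubtypeEquivOfLe hUY).finrank_eq, hu, hdY]⟩
      have h := isPlus_iff_of_decomp hnd hXYtop hXY (fun c hc d hd => hd c hc) heX (hdY ▸ even_two_mul u)
      rw [iff_true_intro hYp, iff_true] at h
      by_cases hp : IsPlus Q
      · rw [if_pos (h.1 hp), if_pos hp]
      · rw [if_neg (fun h' => hp (h.2 h')), if_neg hp]
  have hKX : finrank F X = 2 * (K - u) + defect (Q.comp X.subtype) := by rw [hdefect]; omega
  -- the vectors
  have hA : Nat.card {v : V // Q v = 0 ∧ ∀ x ∈ U, polar Q x v = 0} =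
      Fintype.card F ^ u * Nat.card {w : X // Q.comp X.subtype w = 0} := by
    have hQadd : ∀ (a : U) (b : X), Q ((a : V) + b) = Q (b : V) := fun a b => by
      rw [QuadraticMap.map_add (⇑Q), hU _ a.2, hUX _ a.2 _ b.2]; ring
    let φ : U × {w : X // Q.comp X.subtype w = 0} → {v : V // Q v = 0 ∧ ∀ x ∈ U, polar Q x v = 0} :=
      fun p => ⟨(p.1 : V) + (p.2.1 : V), by rw [hQadd]; exact p.2.2,
        fun x hx => P.add_mem (hUP p.1.2) p.2.1.2.1 x hx⟩
    have hφ : Function.Bijective φ := by
      refine ⟨fun p p' h => ?_, fun v => ?_⟩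
      · have h0 : (p.1 : V) + (p.2.1 : V) = (p'.1 : V) + (p'.2.1 : V) := congrArg Subtype.val h
        have h1 : (p.2.1 : V) - (p'.2.1 : V) = (p'.1 : V) - (p.1 : V) := by
          rw [sub_eq_sub_iff_add_eq_add, add_comm, h0]
        have h2 : (p.2.1 : V) - (p'.2.1 : V) = 0 := (Submodule.eq_bot_iff _).1 hXU _
          ⟨X.sub_mem p.2.1.2 p'.2.1.2, h1 ▸ U.sub_mem p'.1.2 p.1.2⟩
        rw [h2] at h1
        exact Prod.ext (Subtype.ext (sub_eq_zero.1 h1.symm).symm) (Subtype.ext (Subtype.ext (sub_eq_zero.1 h2)))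
      · obtain ⟨a, ha, b, hb, hab⟩ := Submodule.mem_sup.1 (hsup ▸ (v.2.2 : v.1 ∈ P) : v.1 ∈ U ⊔ X)
        exact ⟨(⟨a, ha⟩, ⟨⟨b, hb⟩, by
          show Q b = 0
          rw [← hQadd ⟨a, ha⟩ ⟨b, hb⟩, hab]; exact v.2.1⟩), Subtype.ext hab⟩
    rw [← Nat.card_congr (Equiv.ofBijective φ hφ), Nat.card_prod, Module.natCard_eq_pow_finrank (K := F) (V := U),
      hu, Nat.card_eq_fintype_card (α := F)]
  have hsplit : Nat.card {v : V // Q v = 0 ∧ ∀ x ∈ U, polar Q x v = 0} =
      Nat.card U + Nat.card {v : V // Q v = 0 ∧ (∀ x ∈ U, polar Q x v = 0) ∧ v ∉ U} := by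
    let S : Set V := {v | Q v = 0 ∧ ∀ x ∈ U, polar Q x v = 0}
    have hUS : (U : Set V) ⊆ S := fun y hy => ⟨hU y hy, fun x hx => hU.isotropic x hx y hy⟩
    have h := Set.ncard_sdiff_add_ncard_of_subset hUS (Set.toFinite _)
    rw [← Nat.card_coe_set_eq, ← Nat.card_coe_set_eq, ← Nat.card_coe_set_eq] at h
    have he : Nat.card ↥(S \ (U : Set V)) =
        Nat.card {v : V // Q v = 0 ∧ (∀ x ∈ U, polar Q x v = 0) ∧ v ∉ U} :=
      Nat.card_congr (Equiv.subtypeEquivRight fun v => by simp [S, and_assoc])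
    rw [he] at h
    exact (add_comm _ _).trans h |>.symm
  rw [hA, card_singular hndX hKX, hdefect, Module.natCard_eq_pow_finrank (K := F) (V := U), hu,
    Nat.card_eq_fintype_card (α := F)] at hsplit
  generalize Nat.card {v : V // Q v = 0 ∧ (∀ x ∈ U, polar Q x v = 0) ∧ v ∉ U} = N at hsplit ⊢
  obtain ⟨y, hy⟩ : ∃ y, Fintype.card F ^ (K - u) = y + 1 :=
    ⟨Fintype.card F ^ (K - u) - 1, (Nat.sub_add_cancel (Nat.one_le_pow _ _ Fintype.card_pos)).symm⟩
  rw [hy, Nat.add_sub_cancel] at hsplit ⊢
  linarith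

omit [FiniteDimensional F V] [Fintype F] in
theorem totSing_span_cons {Q : QuadraticForm F V} {k : ℕ} {t : Fin k → V} {v : V} :
    TotSing Q (Submodule.span F (Set.range (Fin.cons v t))) ↔
      TotSing Q (Submodule.span F (Set.range t)) ∧ Q v = 0 ∧
        ∀ x ∈ Submodule.span F (Set.range t), polar Q x v = 0 := by
  rw [Fin.range_cons, Submodule.span_insert]
  refine ⟨fun h => ⟨h.mono le_sup_right, h v (Submodule.mem_sup_left (Submodule.mem_span_singleton_self v)),
    fun x hx => h.isotropic x (Submodule.mem_sup_right hx) v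
      (Submodule.mem_sup_left (Submodule.mem_span_singleton_self v))⟩, fun ⟨h1, h2, h3⟩ => ?_⟩
  refine TotSing.sup (fun x hx => ?_) h1 fun a ha x hx => ?_
  · obtain ⟨c, rfl⟩ := Submodule.mem_span_singleton.1 hx
    rw [QuadraticMap.map_smul, h2, smul_zero]
  · obtain ⟨c, rfl⟩ := Submodule.mem_span_singleton.1 ha
    rw [polar_smul_left, polar_comm, h3 x hx, smul_zero]

/-- Independent tuples spanning totally singular subspaces. -/
theorem card_tuples {Q : QuadraticForm F V} (hnd : NDPolar Q) {K : ℕ} (hK : finrank F V = 2 * K + defect Q) :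
    ∀ m : ℕ, m ≤ K →
    Nat.card {t : Fin m → V // LinearIndependent F t ∧ TotSing Q (Submodule.span F (Set.range t))} =
      ∏ s ∈ Finset.range m, Fintype.card F ^ s *
        ((Fintype.card F ^ (K - s) - 1) * (Fintype.card F ^ (K - s - 1) * Fintype.card F ^ defect Q + 1))
  | 0, _ => by
    rw [Finset.prod_range_zero, Nat.card_eq_one_iff_unique]
    exact ⟨⟨fun t t' => Subtype.ext (Subsingleton.elim _ _)⟩,
      ⟨⟨Fin.elim0, linearIndependent_empty_type, fun x hx => by
        simp at hx
        simp [hx]⟩⟩⟩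
  | m + 1, hm => by
    classical
    haveI : Finite V := Module.finite_of_finite F
    have ih := card_tuples hnd hK m (by omega)
    let e : {t : Fin (m + 1) → V // LinearIndependent F t ∧ TotSing Q (Submodule.span F (Set.range t))} ≃
        Σ t : {t : Fin m → V // LinearIndependent F t ∧ TotSing Q (Submodule.span F (Set.range t))},
          {v : V // Q v = 0 ∧ (∀ x ∈ Submodule.span F (Set.range t.1), polar Q x v = 0) ∧
            v ∉ Submodule.span F (Set.range t.1)} :=
      { toFun := fun t => ⟨⟨Fin.tail t.1, by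
            have h := t.2.1
            rw [← Fin.cons_self_tail t.1, linearIndependent_finCons] at h
            exact h.1, by
            have h := t.2.2
            rw [← Fin.cons_self_tail t.1, totSing_span_cons] at h
            exact h.1⟩, ⟨t.1 0, by
            have h := t.2.2
            have h' := t.2.1
            rw [← Fin.cons_self_tail t.1, totSing_span_cons] at h
            rw [← Fin.cons_self_tail t.1, linearIndependent_finCons] at h'
            exact ⟨h.2.1, h.2.2, h'.2⟩⟩⟩
        invFun := fun p => ⟨Fin.cons p.2.1 p.1.1, linearIndependent_finCons.2 ⟨p.1.2.1, p.2.2.2.2⟩,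
          totSing_span_cons.2 ⟨p.1.2.2, p.2.2.1, p.2.2.2.1⟩⟩
        left_inv := fun t => Subtype.ext (Fin.cons_self_tail t.1)
        right_inv := fun p => rfl }
    haveI : Fintype {t : Fin m → V // LinearIndependent F t ∧ TotSing Q (Submodule.span F (Set.range t))} :=
      Fintype.ofFinite _
    rw [Nat.card_congr e, Nat.card_sigma,
      Finset.sum_congr rfl (fun t _ => card_extensions hnd t.2.2 hK
        ((finrank_span_eq_card t.2.1).trans (Fintype.card_fin m))),
      Finset.sum_const, Finset.card_univ, ← Nat.card_eq_fintype_card, smul_eq_mul, ih, Finset.prod_range_succ]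

/-- The number of totally singular subspaces, times a product. -/
theorem card_count_eq {Q : QuadraticForm F V} (hnd : NDPolar Q) {K m : ℕ}
    (hK : finrank F V = 2 * K + defect Q) (hm : m ≤ K) :
    Nat.card {W : Submodule F V // finrank F ↥W = m ∧ TotSing Q W} *
        ∏ j ∈ Finset.range m, (Fintype.card F ^ (m - j) - 1) =
      ∏ s ∈ Finset.range m,
        ((Fintype.card F ^ (K - s) - 1) * (Fintype.card F ^ (K - s - 1) * Fintype.card F ^ defect Q + 1)) := by
  have h := card_tuples_eq (F := F) m (fun W : Submodule F V => TotSing Q W)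
  rw [card_tuples hnd hK m hm, Finset.prod_mul_distrib,
    Fin.prod_univ_eq_prod_range (fun j => Fintype.card F ^ m - Fintype.card F ^ j) m] at h
  have h2 : ∀ j ∈ Finset.range m, Fintype.card F ^ m - Fintype.card F ^ j =
      Fintype.card F ^ j * (Fintype.card F ^ (m - j) - 1) := fun j hj => by
    have := Finset.mem_range.1 hj
    rw [Nat.mul_sub, mul_one, ← pow_add, show j + (m - j) = m by omega]
  rw [Finset.prod_congr rfl h2, Finset.prod_mul_distrib] at h
  refine Nat.eq_of_mul_eq_mul_left (Finset.prod_pos fun j _ => pow_pos (Fintype.card_pos (α := F)) j :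
    0 < ∏ j ∈ Finset.range m, Fintype.card F ^ j) ?_
  simp only [Finset.prod_mul_distrib] at h ⊢
  linear_combination -h

variable {r : ℕ} [hr : Fact r.Prime]

omit hr in
/-- The characteristic does not divide the number of totally singular subspaces. -/
theorem not_char_dvd {p : ℕ} [Fact p.Prime] [CharP F p] {Q : QuadraticForm F V} (hnd : NDPolar Q) {K m : ℕ}
    (hK : finrank F V = 2 * K + defect Q) (hm : m ≤ K) (hδ : m < K ∨ defect Q ≠ 0) :
    ¬ p ∣ Nat.card {W : Submodule F V // finrank F ↥W = m ∧ TotSing Q W} := by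
  intro hdvd
  have h := dvd_mul_of_dvd_left hdvd (∏ j ∈ Finset.range m, (Fintype.card F ^ (m - j) - 1))
  rw [card_count_eq hnd hK hm, (Fact.out : p.Prime).prime.dvd_finset_prod_iff] at h
  obtain ⟨s, hs, hj⟩ := h
  rw [Finset.mem_range] at hs
  obtain ⟨n, hp, hn⟩ := FiniteField.card F p
  have hq : ∀ e, 0 < e → p ∣ Fintype.card F ^ e := fun e he => by
    rw [hn]
    exact dvd_pow (dvd_pow_self p n.ne_zero) (by omega)
  rcases (Fact.out : p.Prime).dvd_mul.1 hj with hj | hj
  · have h1 : 1 ≤ Fintype.card F ^ (K - s) := Nat.one_le_pow _ _ Fintype.card_pos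
    have := Nat.dvd_sub (hq (K - s) (by omega)) hj
    rw [Nat.sub_sub_self h1] at this
    exact hp.ne_one (Nat.dvd_one.1 this)
  · rw [← pow_add] at hj
    exact hp.ne_one (Nat.dvd_one.1 ((Nat.dvd_add_right (hq _ (by omega))).1 hj))

/-- A prime dividing the number of totally singular subspaces. -/
theorem exists_pow_eq {Q : QuadraticForm F V} (hnd : NDPolar Q) {K m : ℕ}
    (hK : finrank F V = 2 * K + defect Q) (hm : m ≤ K)
    (h : r ∣ Nat.card {W : Submodule F V // finrank F ↥W = m ∧ TotSing Q W}) :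
    ∃ s < m, (Fintype.card F : ZMod r) ^ (K - s) = 1 ∨
      (Fintype.card F : ZMod r) ^ (K - s - 1 + defect Q) = -1 := by
  have h' := dvd_mul_of_dvd_left h (∏ j ∈ Finset.range m, (Fintype.card F ^ (m - j) - 1))
  rw [card_count_eq hnd hK hm, hr.out.prime.dvd_finset_prod_iff] at h'
  obtain ⟨s, hs, hj⟩ := h'
  refine ⟨s, Finset.mem_range.1 hs, ?_⟩
  rcases hr.out.dvd_mul.1 hj with hj | hj
  · left
    rw [← ZMod.natCast_eq_zero_iff, Nat.cast_sub (Nat.one_le_pow _ _ Fintype.card_pos), Nat.cast_pow, Nat.cast_one,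
      sub_eq_zero] at hj
    exact hj
  · right
    rw [← ZMod.natCast_eq_zero_iff, Nat.cast_add, Nat.cast_mul, Nat.cast_pow, Nat.cast_pow, Nat.cast_one] at hj
    rw [pow_add]
    exact eq_neg_of_add_eq_zero_left hj

end CfsgLib.PrimeFix.Quad
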