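import Mathlib
import Cfsg.Agent.Lib.PrimeFix.Quad
import Cfsg.Agent.Lib.RootCount.Orth

/-!
Quadratic spaces of prescribed dimension and defect, and similitudes between them.
-/

set_option autoImplicit false

namespace CfsgLib.PrimeFix.Quad

open Module QuadraticMap
open CfsgLib.Classical.Quad (NDPolar)
open CfsgLib.RootCount (IsPlus)
open CfsgLib.OrthCrit (plusForm minusForm oddForm)

variable {F : Type*} [Field F] [Fintype F]
variable {V : Type*} [AddCommGroup V] [Module F V] [FiniteDimensional F V]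
variable {W : Type*} [AddCommGroup W] [Module F W] [FiniteDimensional F W]

omit [Fintype F] in
theorem defect_congr {Q : QuadraticForm F V} {Q' : QuadraticForm F W} (E : V ≃ₗ[F] W) (hE : ∀ x, Q' (E x) = Q x) :
    defect Q' = defect Q := by
  unfold defect
  rw [E.finrank_eq.symm]
  by_cases hp : IsPlus Q
  · rw [if_pos hp, if_pos (CfsgLib.RootCount.isPlus_congr Q Q' E hE hp)]
  · have hp' : ¬ IsPlus Q' := fun h => hp (CfsgLib.RootCount.isPlus_congr Q' Q E.symm
      (fun x => by rw [← hE (E.symm x), E.apply_symm_apply]) h)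
    rw [if_neg hp, if_neg hp']

omit [Fintype F] [FiniteDimensional F V] [FiniteDimensional F W] in
theorem ndPolar_congr {Q : QuadraticForm F V} (hnd : NDPolar Q) (E : W ≃ₗ[F] V) : NDPolar (Q.comp E.toLinearMap) :=
  fun x hx => E.map_eq_zero_iff.1 (hnd _ fun y => by
    have h := hx (E.symm y)
    simpa [polar] using h)

/-- There is a space of every admissible dimension and defect. -/
theorem exists_space {n K δ : ℕ} (hn : n = 2 * K + δ) (hδ : δ ≤ 2) (h2 : δ = 1 → (2 : F) ≠ 0) :
    ∃ Q : QuadraticForm F (Fin n → F), NDPolar Q ∧ defect Q = δ := by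
  have key : ∀ (ι : Type) [Fintype ι], Fintype.card ι = n → ∀ R : QuadraticForm F (ι → F), NDPolar R →
      defect R = δ → ∃ Q : QuadraticForm F (Fin n → F), NDPolar Q ∧ defect Q = δ := by
    intro ι _ hι R hR hd
    let E : (Fin n → F) ≃ₗ[F] (ι → F) := LinearEquiv.funCongrLeft F F (Fintype.equivFinOfCardEq hι)
    exact ⟨R.comp E.toLinearMap, ndPolar_congr hR E,
      (defect_congr (Q' := R) E fun x => rfl).symm.trans hd⟩
  rcases (by omega : δ = 0 ∨ δ = 1 ∨ δ = 2) with rfl | rfl | rfl
  · refine key (Fin K ⊕ Fin K) (by simp; omega) (plusForm K F) (CfsgLib.OrthCrit.ndPolar_plusForm K) ?_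
    exact defect_of_plus ⟨CfsgLib.OrthCrit.halfSpace F K, CfsgLib.OrthCrit.halfSpace_singular, by
      rw [CfsgLib.OrthCrit.finrank_halfSpace]; simp; ring⟩
  · refine key (Unit ⊕ (Fin K ⊕ Fin K)) (by simp; omega) (oddForm K F)
      (CfsgLib.OrthCrit.ndPolar_oddForm (h2 rfl) K) (defect_of_odd ⟨K, by simp; omega⟩)
  · obtain ⟨a, b, hab⟩ := CfsgLib.RootCount.exists_aniso (F := F)
    exact key ((Fin K ⊕ Fin K) ⊕ Fin 2) (by simp; omega) (minusForm K F a b)
      (CfsgLib.OrthCrit.ndPolar_minusForm K a b hab (CfsgLib.OrthCrit.a_ne_zero_of_anisotropic hab))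
      (defect_of_not_plus ⟨K + 1, by simp; omega⟩ (CfsgLib.RootCount.not_isPlus_minus hab K))

/-- Spaces with equal dimension and defect are similar. -/
theorem exists_similitude {Q : QuadraticForm F V} {Q' : QuadraticForm F W} (hQ : NDPolar Q) (hQ' : NDPolar Q')
    (h2 : Odd (finrank F V) → (2 : F) ≠ 0) (hdim : finrank F W = finrank F V) (hd : defect Q' = defect Q) :
    ∃ (c : F) (E : V ≃ₗ[F] W), c ≠ 0 ∧ ∀ x, Q' (E x) = c * Q x := by
  rcases Nat.even_or_odd (finrank F V) with he | ho
  · obtain ⟨m, hm⟩ := he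
    obtain ⟨E, hE⟩ := CfsgLib.RootCount.exists_isometry_even Q Q' hQ hQ' (m := m) (by omega) (by omega) (by
      constructor
      · intro hp
        by_contra hp'
        rw [defect_of_plus hp, defect_of_not_plus ⟨m, by omega⟩ hp'] at hd
        omega
      · intro hp'
        by_contra hp
        rw [defect_of_plus hp', defect_of_not_plus ⟨m, by omega⟩ hp] at hd
        omega)
    exact ⟨1, E, one_ne_zero, fun x => by rw [hE, one_mul]⟩
  · obtain ⟨m, hm⟩ := ho
    have h2' := h2 ⟨m, hm⟩
    obtain ⟨c, hc, E, hE⟩ := CfsgLib.RootCount.classify_odd h2' Q hQ hm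
    obtain ⟨c', hc', E', hE'⟩ := CfsgLib.RootCount.classify_odd h2' Q' hQ' (hdim.trans hm)
    refine ⟨c' * c⁻¹, E.symm.trans E', mul_ne_zero hc' (inv_ne_zero hc), fun x => ?_⟩
    rw [LinearEquiv.trans_apply, hE']
    conv_rhs => rw [← E.apply_symm_apply x, hE]
    field_simp

end CfsgLib.PrimeFix.Quad
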