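import Mathlib
import Cfsg.Agent.Lib.PrimeFix.Quad
import Cfsg.Agent.Lib.RootCount.QuadInv

/-!
Invariant totally singular subspaces of an isometry of odd prime order.
-/

set_option autoImplicit false

namespace CfsgLib.PrimeFix.Quad

open Module QuadraticMap Polynomial
open CfsgLib.Classical.Quad (NDPolar)
open CfsgLib.RootCount (IsPlus)

variable {F : Type*} [Field F] [Fintype F] {r : ℕ} [hr : Fact r.Prime]
variable {V : Type*} [AddCommGroup V] [Module F V] [FiniteDimensional F V]

open scoped _root_.Classical in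
/-- The defect of the fixed space of an element whose moving space has dimension `a i`. -/
noncomputable def fixDefect (Q : QuadraticForm F V) (i a : ℕ) : ℕ :=
  if Odd (finrank F V) then 1 else if Odd i then defect Q else if (IsPlus Q ↔ Even a) then 0 else 2

omit [Fintype F] in
theorem totSing_of_isotropic {Q : QuadraticForm F V} {T : Module.End F V} (hT : ∀ v, Q (T v) = Q v)
    {U : Submodule F V} (hU : Inv T U) (hfree : Fpf T U) (hiso : Isotropic (polarBilin Q) U) : TotSing Q U := by
  let R : U →ₗ[F] U := ((T - 1).restrict fun u hu => U.sub_mem (hU u hu) hu)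
  have hsur : Function.Surjective R := LinearMap.injective_iff_surjective.1
    ((injective_iff_map_eq_zero R).2 fun u hu => Subtype.ext (hfree u u.2 (sub_eq_zero.1 (congrArg Subtype.val hu :))))
  intro x hx
  obtain ⟨u, hu⟩ := hsur ⟨x, hx⟩
  have hx' : T u - (u : V) = x := congrArg Subtype.val hu
  have h1 : polar Q (T u) (u : V) = 0 := hiso _ (hU _ u.2) _ u.2
  have h2 : polar Q (u : V) (u : V) = 0 := hiso _ u.2 _ u.2
  rw [CfsgLib.Classical.Quad.polar_self'] at h2
  rw [← hx', sub_eq_add_neg, QuadraticMap.map_add (⇑Q), QuadraticMap.map_neg, hT, polar_neg_right, h1]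
  linear_combination h2

/-- Invariant totally singular subspaces for an isometry of odd prime order. -/
theorem exists_inv_singular {p : ℕ} [Fact p.Prime] [CharP F p] (hrp : r ≠ p) (hr2 : r ≠ 2)
    {Q : QuadraticForm F V} (hnd : NDPolar Q) (T : Module.End F V) (hT : ∀ v, Q (T v) = Q v) (hTr : T ^ r = 1)
    {m i : ℕ} (hi : i = orderOf (Fintype.card F : ZMod r))
    (H : ∀ a, a * i + fixDefect Q i a ≤ finrank F V → (Odd i → Even a) →
      ∃ j, j * i ≤ m ∧ (j = 0 ∨ 2 * j + (if Even i then (r - 1) / i else 0) ≤ a + 1) ∧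
        2 * (m - j * i) + fixDefect Q i a + a * i ≤ finrank F V) :
    ∃ W : Submodule F V, finrank F W = m ∧ TotSing Q W ∧ ∀ w ∈ W, T w ∈ W := by
  classical
  have hrF : (r : F) ≠ 0 := CfsgLib.LinFix.natCast_ne_zero_of_ne hrp
  haveI : NeZero (r : F) := ⟨hrF⟩
  have hipos : 0 < i := hi ▸ ord_pos hrF
  haveI : ExpChar F p := ExpChar.prime Fact.out
  set C := LinearMap.ker (T - 1)
  set D := LinearMap.ker (∑ k ∈ Finset.range r, T ^ k)
  have hC : ∀ v ∈ C, T v = v := fun v hv => sub_eq_zero.1 hv
  have hDinv : Inv T D := by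
    have h : (∑ k ∈ Finset.range r, T ^ k) = aeval T (∑ k ∈ Finset.range r, (X : F[X]) ^ k) := by simp
    simp only [D, h]
    exact inv_ker_aeval _
  have hfix : ∀ v, T v = v → ∀ k : ℕ, (T ^ k) v = v := fun v hv k => by
    induction k with
    | zero => rfl
    | succ k ih => rw [pow_succ, Module.End.mul_apply, hv, ih]
  have hfree : Fpf T D := fun v hv h => by
    have h0 : (∑ k ∈ Finset.range r, T ^ k) v = 0 := hv
    rw [LinearMap.sum_apply, Finset.sum_congr rfl (fun k _ => hfix v h k), Finset.sum_const, Finset.card_range,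
      ← Nat.cast_smul_eq_nsmul F, smul_eq_zero] at h0
    exact h0.resolve_left hrF
  have hTk : ∀ (k : ℕ) u, Q ((T ^ k) u) = Q u := fun k => by
    induction k with
    | zero => simp
    | succ k ih => intro u; rw [pow_succ', Module.End.mul_apply, hT, ih]
  have hpolk : ∀ (k : ℕ) u w, polar Q ((T ^ k) u) ((T ^ k) w) = polar Q u w := fun k u w => by
    simp only [polar, ← map_add, hTk]
  have hCD : ∀ u ∈ C, ∀ w ∈ D, polar Q u w = 0 := fun u hu w hw => by
    have h0 : polarBilin Q u ((∑ k ∈ Finset.range r, T ^ k) w) = 0 := by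
      rw [show (∑ k ∈ Finset.range r, T ^ k) w = 0 from hw, map_zero]
    rw [LinearMap.sum_apply, map_sum, Finset.sum_congr rfl (g := fun _ => polar Q u w) (fun k _ => by
      rw [polarBilin_apply_apply]
      conv_lhs => rw [← hfix u (hC u hu) k]
      exact hpolk k u w), Finset.sum_const, Finset.card_range,
      ← Nat.cast_smul_eq_nsmul F, smul_eq_mul, mul_eq_zero] at h0
    exact h0.resolve_left hrF
  have hsum : C ⊔ D = ⊤ := eq_top_iff.2 fun v _ => by
    obtain ⟨a, -, ha, b, -, hb, rfl⟩ := exists_split (T := T) hrF hTr (W := ⊤) (fun _ _ => trivial) (w := v) trivial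
    exact Submodule.add_mem_sup (sub_eq_zero.2 ha) hb
  have hdisj : C ⊓ D = ⊥ := (Submodule.eq_bot_iff _).2 fun v hv => hfree v hv.2 (hC v hv.1)
  have hdim := finrank_add hsum hdisj
  have hndC := ndPolar_restrict hnd hsum hCD
  have hndD : NDPolar (Q.comp D.subtype) := ndPolar_restrict hnd (sup_comm C D ▸ hsum)
    fun d hd c hc => by rw [polar_comm]; exact hCD c hc d hd
  obtain ⟨a, ha⟩ := ord_dvd_finrank hTr hDinv hfree
  rw [← hi] at ha
  -- the type of the moving space
  let R : D →ₗ[F] D := T.restrict hDinv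
  have hRinj : Function.Injective R := (injective_iff_map_eq_zero R).2 fun u hu => by
    have h0 : T (u : V) = 0 := congrArg Subtype.val hu
    refine Subtype.ext ?_
    calc (u : V) = (T ^ r) (u : V) := by rw [hTr]; rfl
      _ = 0 := by rw [← Nat.sub_add_cancel hr.out.one_le, pow_succ, Module.End.mul_apply, h0, map_zero]
  let A : D ≃ₗ[F] D := LinearEquiv.ofInjectiveEndo R hRinj
  have hA : ∀ u : D, (A u : V) = T u := fun u => rfl
  have hAfree : ∀ u, A u = u → u = 0 := fun u hu => Subtype.ext (hfree u u.2 (by rw [← hA, hu]))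
  have hApow : ∀ (k : ℕ) (u : D), (((⇑A)^[k]) u : V) = (T ^ k) u := fun k => by
    induction k with
    | zero => intro u; rfl
    | succ k ih => intro u; rw [Function.iterate_succ_apply', hA, ih, pow_succ', Module.End.mul_apply]
  have hAr : ∀ u, (⇑A)^[r] u = u := fun u => Subtype.ext (by rw [hApow, hTr]; rfl)
  have hQA : ∀ u, Q.comp D.subtype (A u) = Q.comp D.subtype u := fun u => hT u
  have hodd : Odd i → IsPlus (Q.comp D.subtype) := fun ho =>
    CfsgLib.RootCount.isPlus_of_odd_order A hr2 (hi ▸ ho) hAfree hAr _ hndD hQA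
  have heven : Even i → (IsPlus (Q.comp D.subtype) ↔ Even a) := by
    rintro ⟨h, hh⟩
    rcases Nat.eq_zero_or_pos a with rfl | hapos
    · exact iff_of_true (isPlus_of_finrank_zero (by rw [ha, mul_zero])) ⟨0, rfl⟩
    · exact CfsgLib.RootCount.type_of_even_order A (i' := h) (b := a) (m := h * a) hr2 (by rw [← hi, hh, two_mul])
        (by omega) (Nat.mul_pos (by omega) hapos) (by rw [ha, hh]; ring) rfl hAfree hAr _ hndD hQA
  have hevD : Even (finrank F D) := by
    rcases Nat.even_or_odd i with he | ho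
    · rw [ha]; exact he.mul_right a
    · obtain ⟨U, -, hU⟩ := hodd ho
      exact ⟨finrank F U, by omega⟩
  have hdefect : defect (Q.comp C.subtype) = fixDefect Q i a := by
    unfold fixDefect
    by_cases hn : Odd (finrank F V)
    · rw [if_pos hn]
      refine defect_of_odd ?_
      rw [← hdim, Nat.odd_add] at hn
      exact hn.2 hevD
    · have hevV := Nat.not_odd_iff_even.1 hn
      have hevC : Even (finrank F C) := by
        rw [← hdim, Nat.even_add] at hevV
        exact hevV.2 hevD
      have hsumtype := isPlus_iff_of_decomp hnd hsum hdisj hCD hevC hevD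
      rw [if_neg hn]
      by_cases ho : Odd i
      · rw [if_pos ho]
        have hDp := hodd ho
        unfold defect
        rw [if_neg (Nat.not_odd_iff_even.2 hevC), if_neg hn]
        simp only [iff_true, hDp] at hsumtype
        simp [hsumtype]
      · rw [if_neg ho]
        rw [heven (Nat.not_odd_iff_even.1 ho)] at hsumtype
        by_cases hpC : IsPlus (Q.comp C.subtype)
        · rw [defect_of_plus hpC, if_pos (by rw [hsumtype]; tauto)]
        · rw [defect_of_not_plus hevC hpC, if_neg (by rw [hsumtype]; tauto)]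
  have hCle := defect_le hndC
  have hevenA : Odd i → Even a := fun ho => by
    rw [ha] at hevD
    exact (Nat.even_mul.1 hevD).resolve_left (Nat.not_even_iff_odd.2 ho)
  obtain ⟨j, hjm, hjp, hjn⟩ := H a (by rw [← hdefect, mul_comm]; omega) hevenA
  obtain ⟨U, hUD, hUinv, hUiso, hdU⟩ : ∃ U : Submodule F V, U ≤ D ∧ Inv T U ∧ Isotropic (polarBilin Q) U ∧
      finrank F U = j * i := by
    have hsymm : ∀ u w, polarBilin Q w u = (1 : F) * (RingHom.id F) (polarBilin Q u w) := fun u w => by
      rw [one_mul, RingHom.id_apply, polarBilin_apply_apply, polarBilin_apply_apply, polar_comm]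
    have hB : ∀ u w, polarBilin Q (T u) (T w) = polarBilin Q u w := fun u w => by
      simpa using hpolk 1 u w
    rcases Nat.even_or_odd i with he | ho
    · obtain ⟨h, hh⟩ := he
      obtain ⟨n, hp, hq⟩ := FiniteField.card F p
      have hN : ((p ^ ((n : ℕ) * h) : ℕ) : ZMod r) + 1 = 0 := by
        rw [pow_mul, ← hq, Nat.cast_pow]
        have hsq : ((Fintype.card F : ZMod r) ^ h) * ((Fintype.card F : ZMod r) ^ h) = 1 := by
          rw [← pow_add, ← hh, hi, pow_orderOf_eq_one]
        rcases mul_self_eq_one_iff.1 hsq with h1 | h1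
        · have := Nat.le_of_dvd (by omega) (orderOf_dvd_of_pow_eq_one h1)
          omega
        · rw [h1, neg_add_cancel]
      have hstep := stepData_paired (r := r) (B := polarBilin Q) (T := T) hsymm p ((n : ℕ) * h)
        (fun c => by rw [RingHom.id_apply, pow_mul, ← hq, FiniteField.pow_card_pow]) hN
        (by rw [← pow_add, ← hi, hh, hq, ← pow_mul, mul_add]) hrF hTr hB
      rw [if_pos ⟨h, hh⟩] at hjp
      obtain ⟨U, h1, h2, h3, h4⟩ := exists_isotropic hsymm hstep hrF hTr hB hDinv hfree
        (a := a) (by rw [ha, ← hi, mul_comm]) j (by rw [← hi]; exact hjp)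
      exact ⟨U, h1, h2, h3, by rw [h4, ← hi]⟩
    · have hstep := stepData_unpaired (r := r) (B := polarBilin Q) (T := T) p 0
        (fun c => by simp) hrF (by simp) hTr hB (fun l h => by
          rw [pow_zero, Nat.cast_one, one_mul, add_eq_zero_iff_eq_neg] at h
          have hq1 : (Fintype.card F : ZMod r) ^ (2 * l) = 1 := by rw [mul_comm, pow_mul, h, neg_one_sq]
          have hdvd : i ∣ l := (Nat.Coprime.dvd_mul_left ho.coprime_two_right).1 (hi ▸ orderOf_dvd_of_pow_eq_one hq1)
          rw [orderOf_dvd_iff_pow_eq_one.1 (hi ▸ hdvd)] at h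
          have : Fact (2 < r) := ⟨lt_of_le_of_ne hr.out.two_le (Ne.symm hr2)⟩
          exact ZMod.neg_one_ne_one h.symm)
      rw [if_neg (Nat.not_even_iff_odd.2 ho)] at hjp
      obtain ⟨U, h1, h2, h3, h4⟩ := exists_isotropic hsymm hstep hrF hTr hB hDinv hfree
        (a := a) (by rw [ha, ← hi, mul_comm]) j hjp
      exact ⟨U, h1, h2, h3, by rw [h4, ← hi]⟩
  obtain ⟨U', hU'C, hU', hdU'⟩ := hasSing_map Q C.injective_subtype ((hasSing_iff hndC (m - j * i)).2 (by
    rw [hdefect]; rw [mul_comm a i] at hjn; omega))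
  rw [Submodule.range_subtype] at hU'C
  have hUsing := totSing_of_isotropic hT hUinv (hfree.mono hUD) hUiso
  refine ⟨U ⊔ U', ?_, hUsing.sup hU' fun u hu w hw => by rw [polar_comm]; exact hCD w (hU'C hw) u (hUD hu),
    fun w hw => ?_⟩
  · have h := Submodule.finrank_sup_add_finrank_inf_eq U U'
    rw [(Submodule.eq_bot_iff (U ⊓ U')).2 (fun v hv => hfree v (hUD hv.1) (hC v (hU'C hv.2))), finrank_bot, hdU,
      hdU'] at h
    omega
  · obtain ⟨u, hu, u', hu', rfl⟩ := Submodule.mem_sup.1 hw
    rw [map_add, hC u' (hU'C hu')]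
    exact Submodule.add_mem_sup (hUinv u hu) hu'

end CfsgLib.PrimeFix.Quad
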