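import Mathlib
import Cfsg.Agent.Lib.PrimeFix.QuadFix
import Cfsg.Agent.Lib.PrimeFix.OrthSpaces

/-!
Nondegenerate invariant subspaces of an isometry of odd prime order.
-/

set_option autoImplicit false

namespace CfsgLib.PrimeFix.Quad

open Module QuadraticMap Polynomial
open CfsgLib.Classical.Quad (NDPolar)
open CfsgLib.RootCount (IsPlus)

variable {F : Type*} [Field F] {V : Type*} [AddCommGroup V] [Module F V]

theorem isPlus_sub_iff [FiniteDimensional F V] {Q : QuadraticForm F V} {X W : Submodule F V} (hX : X ≤ W) :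
    IsPlus (V := ↥(X.comap W.subtype)) ((Q.comp W.subtype).comp (X.comap W.subtype).subtype) ↔
      IsPlus (V := ↥X) (Q.comp X.subtype) :=
  ⟨CfsgLib.RootCount.isPlus_congr _ _ (Submodule.comapSubtypeEquivOfLe hX) fun _ => rfl,
    CfsgLib.RootCount.isPlus_congr _ _ (Submodule.comapSubtypeEquivOfLe hX).symm fun _ => rfl⟩

/-- The orthogonal complement inside `W` of a nondegenerate subspace. -/
theorem exists_orth_compl [FiniteDimensional F V] {Q : QuadraticForm F V} {U W : Submodule F V} (hUW : U ≤ W)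
    (hU : NDPolar (Q.comp U.subtype)) (hW : NDPolar (Q.comp W.subtype)) :
    NDPolar (Q.comp (W ⊓ U.orthogonalBilin (polarBilin Q)).subtype) ∧
      U ⊔ (W ⊓ U.orthogonalBilin (polarBilin Q)) = W ∧ U ⊓ (W ⊓ U.orthogonalBilin (polarBilin Q)) = ⊥ ∧
      finrank F U + finrank F ↥(W ⊓ U.orthogonalBilin (polarBilin Q)) = finrank F W := by
  set M := W ⊓ U.orthogonalBilin (polarBilin Q)
  have hdisj : U ⊓ M = ⊥ := (Submodule.eq_bot_iff _).2 fun x hx =>
    congrArg Subtype.val (hU ⟨x, hx.1⟩ fun w => by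
      show polar Q x (w : V) = 0
      rw [polar_comm]; exact hx.2.2 w w.2)
  have h1 : finrank F W ≤ finrank F M + finrank F U := finrank_le_orth_add (polarBilin Q) W U
  have h2 := Submodule.finrank_sup_add_finrank_inf_eq U M
  rw [hdisj, finrank_bot, add_zero] at h2
  have hle : U ⊔ M ≤ W := sup_le hUW inf_le_left
  have h3 := Submodule.finrank_mono hle
  have hsup : U ⊔ M = W := Submodule.eq_of_le_of_finrank_eq hle (by omega)
  refine ⟨fun x hx => Subtype.ext (congrArg Subtype.val (hW ⟨x, (x.2 : (x : V) ∈ M).1⟩ fun w => ?_) :), hsup, hdisj, by omega⟩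
  show polar Q (x : V) (w : V) = 0
  obtain ⟨u, hu, y, hy, huy⟩ := Submodule.mem_sup.1 ((by rw [hsup]; exact w.2) : (w : V) ∈ U ⊔ M)
  rw [← huy, polar_add_right, polar_comm Q (x : V) u, show polar Q u (x : V) = 0 from (x.2 : (x : V) ∈ M).2 u hu, zero_add]
  exact hx ⟨y, hy⟩

variable [Fintype F] {r : ℕ} [hr : Fact r.Prime] [FiniteDimensional F V]

omit [Fintype F] in
theorem inv_pow_apply {T : Module.End F V} {W : Submodule F V} (hW : Inv T W) (k : ℕ) {w : V} (hw : w ∈ W) :
    (T ^ k) w ∈ W := by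
  rw [← aeval_X_pow (R := F) T]; exact inv_aeval hW _ hw

/-- The type of a fixed-point-free nondegenerate invariant subspace. -/
theorem fpf_type {p : ℕ} [Fact p.Prime] [CharP F p] (hrp : r ≠ p) (hr2 : r ≠ 2) {Q : QuadraticForm F V}
    {T : Module.End F V} (hT : ∀ v, Q (T v) = Q v) (hTr : T ^ r = 1) {D : Submodule F V}
    (hnd : NDPolar (Q.comp D.subtype)) (hDinv : Inv T D) (hfree : Fpf T D) {a i : ℕ}
    (hi : i = orderOf (Fintype.card F : ZMod r)) (ha : finrank F D = i * a) :
    (Odd i → Even a ∧ IsPlus (Q.comp D.subtype)) ∧ (Even i → (IsPlus (Q.comp D.subtype) ↔ Even a)) := by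
  have hrF : (r : F) ≠ 0 := CfsgLib.LinFix.natCast_ne_zero_of_ne hrp
  haveI : NeZero (r : F) := ⟨hrF⟩
  have hipos : 0 < i := hi ▸ ord_pos hrF
  let R : D →ₗ[F] D := T.restrict hDinv
  have hRinj : Function.Injective R := (injective_iff_map_eq_zero R).2 fun u hu => by
    have h0 : T (u : V) = 0 := congrArg Subtype.val hu
    refine Subtype.ext ?_
    calc (u : V) = (T ^ r) (u : V) := by rw [hTr]; rfl
      _ = 0 := by rw [← Nat.sub_add_cancel hr.out.one_le, pow_succ, Module.End.mul_apply, h0, map_zero]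
  let A : D ≃ₗ[F] D := LinearEquiv.ofInjectiveEndo R hRinj
  have hA : ∀ u : D, (A u : V) = T u := fun u => rfl
  have hAfree : ∀ u, A u = u → u = 0 := fun u hu => Subtype.ext (hfree u u.2 (by rw [← hA, hu]))
  have hApow : ∀ (k : ℕ) (u : D), (((⇑A)^[k]) u : V) = (T ^ k) u := fun k => by
    induction k with
    | zero => intro u; rfl
    | succ k ih => intro u; rw [Function.iterate_succ_apply', hA, ih, pow_succ', Module.End.mul_apply]
  have hAr : ∀ u, (⇑A)^[r] u = u := fun u => Subtype.ext (by rw [hApow, hTr]; rfl)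
  have hQA : ∀ u, Q.comp D.subtype (A u) = Q.comp D.subtype u := fun u => hT u
  refine ⟨fun ho => ?_, fun he => ?_⟩
  · have hp := CfsgLib.RootCount.isPlus_of_odd_order A hr2 (hi ▸ ho) hAfree hAr _ hnd hQA
    refine ⟨?_, hp⟩
    obtain ⟨U, -, hU⟩ := hp
    have hev : Even (i * a) := ⟨finrank F U, by omega⟩
    exact (Nat.even_mul.1 hev).resolve_left (Nat.not_even_iff_odd.2 ho)
  · obtain ⟨h, hh⟩ := he
    rcases Nat.eq_zero_or_pos a with rfl | hapos
    · exact iff_of_true (isPlus_of_finrank_zero (by rw [ha, mul_zero])) ⟨0, rfl⟩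
    · exact CfsgLib.RootCount.type_of_even_order A (i' := h) (b := a) (m := h * a) hr2 (by rw [← hi, hh, two_mul])
        (by omega) (Nat.mul_pos (by omega) hapos) (by rw [ha, hh]; ring) rfl hAfree hAr _ hnd hQA

/-- The splitting into fixed space and moving space. -/
theorem fixed_data {p : ℕ} [Fact p.Prime] [CharP F p] (hrp : r ≠ p) {Q : QuadraticForm F V} (hnd : NDPolar Q)
    {T : Module.End F V} (hT : ∀ v, Q (T v) = Q v) (hTr : T ^ r = 1) :
    ∃ (D : Submodule F V) (a : ℕ), Inv T D ∧ Fpf T D ∧ LinearMap.ker (T - 1) ⊔ D = ⊤ ∧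
      LinearMap.ker (T - 1) ⊓ D = ⊥ ∧ (∀ u ∈ LinearMap.ker (T - 1), ∀ w ∈ D, polar Q u w = 0) ∧
      NDPolar (Q.comp (LinearMap.ker (T - 1)).subtype) ∧ NDPolar (Q.comp D.subtype) ∧
      finrank F D = orderOf (Fintype.card F : ZMod r) * a ∧
      finrank F (LinearMap.ker (T - 1)) + finrank F D = finrank F V := by
  have hrF : (r : F) ≠ 0 := CfsgLib.LinFix.natCast_ne_zero_of_ne hrp
  set C := LinearMap.ker (T - 1)
  set D := LinearMap.ker (∑ k ∈ Finset.range r, T ^ k)
  have hC : ∀ v ∈ C, T v = v := fun v hv => sub_eq_zero.1 hv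
  have hDinv : Inv T D := by
    have h : (∑ k ∈ Finset.range r, T ^ k) = aeval T (∑ k ∈ Finset.range r, (X : F[X]) ^ k) := by simp
    simp only [D, h]
    exact inv_ker_aeval _
  have hfix : ∀ v, T v = v → ∀ k : ℕ, (T ^ k) v = v := fun v hv k => by
    induction k with
    | zero => rfl
    | succ k ih => rw [pow_succ, Module.End.mul_apply, hv, ih]
  have hfree : Fpf T D := fun v hv h => by
    have h0 : (∑ k ∈ Finset.range r, T ^ k) v = 0 := hv
    rw [LinearMap.sum_apply, Finset.sum_congr rfl (fun k _ => hfix v h k), Finset.sum_const, Finset.card_range,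
      ← Nat.cast_smul_eq_nsmul F, smul_eq_zero] at h0
    exact h0.resolve_left hrF
  have hTk : ∀ (k : ℕ) u, Q ((T ^ k) u) = Q u := fun k => by
    induction k with
    | zero => simp
    | succ k ih => intro u; rw [pow_succ', Module.End.mul_apply, hT, ih]
  have hpolk : ∀ (k : ℕ) u w, polar Q ((T ^ k) u) ((T ^ k) w) = polar Q u w := fun k u w => by
    simp only [polar, ← map_add, hTk]
  have hCD : ∀ u ∈ C, ∀ w ∈ D, polar Q u w = 0 := fun u hu w hw => by
    have h0 : polarBilin Q u ((∑ k ∈ Finset.range r, T ^ k) w) = 0 := by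
      rw [show (∑ k ∈ Finset.range r, T ^ k) w = 0 from hw, map_zero]
    rw [LinearMap.sum_apply, map_sum, Finset.sum_congr rfl (g := fun _ => polar Q u w) (fun k _ => by
      rw [polarBilin_apply_apply]
      conv_lhs => rw [← hfix u (hC u hu) k]
      exact hpolk k u w), Finset.sum_const, Finset.card_range,
      ← Nat.cast_smul_eq_nsmul F, smul_eq_mul, mul_eq_zero] at h0
    exact h0.resolve_left hrF
  have hsum : C ⊔ D = ⊤ := eq_top_iff.2 fun v _ => by
    obtain ⟨a, -, ha, b, -, hb, rfl⟩ := exists_split (T := T) hrF hTr (W := ⊤) (fun _ _ => trivial) (w := v) trivial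
    exact Submodule.add_mem_sup (sub_eq_zero.2 ha) hb
  have hdisj : C ⊓ D = ⊥ := (Submodule.eq_bot_iff _).2 fun v hv => hfree v hv.2 (hC v hv.1)
  obtain ⟨a, ha⟩ := ord_dvd_finrank hTr hDinv hfree
  exact ⟨D, a, hDinv, hfree, hsum, hdisj, hCD, ndPolar_restrict hnd hsum hCD,
    ndPolar_restrict hnd (sup_comm C D ▸ hsum) (fun d hd c hc => by rw [polar_comm]; exact hCD c hc d hd), ha,
    finrank_add hsum hdisj⟩

omit hr [FiniteDimensional F V] in
theorem aeval_pow_card {T : Module.End F V} {f : F[X]} {v : V} (hf : aeval T f v = 0) :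
    ∀ k : ℕ, aeval (T ^ Fintype.card F ^ k) f v = 0
  | 0 => by rwa [pow_zero, pow_one]
  | k + 1 => by
    have ih := aeval_pow_card hf k
    obtain ⟨c, hc⟩ : ∃ c, Fintype.card F = c + 1 := ⟨Fintype.card F - 1, by have := Fintype.card_pos (α := F); omega⟩
    rw [pow_succ (Fintype.card F) k, pow_mul, aeval_pow_eq (T ^ Fintype.card F ^ k), ← expand_eq_comp_X_pow,
      FiniteField.expand_card, map_pow, hc, pow_succ, Module.End.mul_apply]
    rw [hc] at ih
    rw [ih, map_zero]

/-- A nonzero fixed-point-free nondegenerate invariant subspace has a smallest nondegenerate invariant block. -/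
theorem exists_nd_block {p : ℕ} [Fact p.Prime] [CharP F p] (hrp : r ≠ p) (hr2 : r ≠ 2) {Q : QuadraticForm F V}
    {T : Module.End F V} (hT : ∀ v, Q (T v) = Q v) (hTr : T ^ r = 1) {D : Submodule F V}
    (hnd : NDPolar (Q.comp D.subtype)) (hDinv : Inv T D) (hfree : Fpf T D) (hpos : 0 < finrank F D) {i : ℕ}
    (hi : i = orderOf (Fintype.card F : ZMod r)) :
    ∃ U : Submodule F V, U ≤ D ∧ Inv T U ∧ NDPolar (Q.comp U.subtype) ∧
      finrank F U = if Even i then i else 2 * i := by
  classical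
  have hrF : (r : F) ≠ 0 := CfsgLib.LinFix.natCast_ne_zero_of_ne hrp
  have hipos : 0 < i := hi ▸ ord_pos hrF
  have hB : ∀ u w, polar Q (T u) (T w) = polar Q u w := fun u w => by simp only [polar, ← map_add, hT]
  have hr1 : r - 1 + 1 = r := Nat.sub_add_cancel hr.out.one_le
  have hN : T ^ (r - 1 + 1) = 1 := by rw [hr1, hTr]
  -- the radical of an irreducible invariant subspace
  have hirred : ∀ u ∈ D, u ≠ 0 → finrank F (cyc T u) = i →
      NDPolar (Q.comp (cyc T u).subtype) ∨ Isotropic (polarBilin Q) (cyc T u) := by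
    intro u hu hu0 hdu
    set U := cyc T u
    let K := U ⊓ U.orthogonalBilin (polarBilin Q)
    have hK : Inv T K := inv_inf (inv_cyc T u) (inv_orth (B := polarBilin Q) hB hTr (inv_cyc T u))
    obtain ⟨c, hc⟩ := ord_dvd_finrank hTr hK (hfree.mono (inf_le_left.trans (cyc_le hDinv hu)))
    have hle := Submodule.finrank_mono (show K ≤ U from inf_le_left)
    rw [hdu, hc, ← hi] at hle
    rcases Nat.eq_zero_or_pos c with rfl | hcpos
    · rw [mul_zero, Submodule.finrank_eq_zero] at hc
      refine Or.inl fun x hx => Subtype.ext ((Submodule.eq_bot_iff _).1 hc _ ⟨x.2, fun y hy => ?_⟩)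
      show polar Q y (x : V) = 0
      rw [polar_comm]; exact hx ⟨y, hy⟩
    · have hKU : K = U := Submodule.eq_of_le_of_finrank_eq inf_le_left (by
        rw [hdu, hc, ← hi]
        exact le_antisymm hle (Nat.le_mul_of_pos_right i hcpos))
      exact Or.inr fun x hx y hy => (hKU.symm ▸ hy : y ∈ K).2 x hx
  -- when a nondegenerate irreducible subspace exists
  have hdone : ∀ U : Submodule F V, U ≤ D → Inv T U → NDPolar (Q.comp U.subtype) → finrank F U = i →
      ∃ U : Submodule F V, U ≤ D ∧ Inv T U ∧ NDPolar (Q.comp U.subtype) ∧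
        finrank F U = if Even i then i else 2 * i := by
    intro U h1 h2 h3 h4
    rcases Nat.even_or_odd i with he | ho
    · exact ⟨U, h1, h2, h3, by rw [h4, if_pos he]⟩
    · exact absurd ((fpf_type (p := p) hrp hr2 hT hTr h3 h2 (hfree.mono h1) hi (a := 1) (by rw [h4, mul_one])).1 ho).1
        (by decide)
  obtain ⟨f, hf, hirr, hdvd, hker⟩ := exists_factor_lt hrF hTr hDinv hfree (c := 0) (by omega)
  obtain ⟨v, hv, hv0⟩ := Submodule.exists_mem_ne_zero_of_ne_bot (p := D ⊓ LinearMap.ker (aeval T f))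
    (fun h => by rw [h, finrank_bot] at hker; omega)
  have hdv := finrank_cyc hrF hf hirr hdvd hv.2 hv0
  rw [← hi] at hdv
  rcases hirred v hv.1 hv0 hdv with hnv | hiso
  · exact hdone _ (cyc_le hDinv hv.1) (inv_cyc T v) hnv hdv
  set U := cyc T v
  -- the space pairing with `U`
  have hUD : U ≤ D := cyc_le hDinv hv.1
  set K := D ⊓ U.orthogonalBilin (polarBilin Q)
  have hKinv : Inv T K := inv_inf hDinv (inv_orth (B := polarBilin Q) hB hTr (inv_cyc T v))
  obtain ⟨M, hMD, hMinv, hdM, hdisjM⟩ := exists_inv_compl hrF hTr hKinv hDinv inf_le_left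
  have hMfree := hfree.mono hMD
  have hdK : finrank F K + i = finrank F D := by
    have h1 := finrank_le_orth_add (polarBilin Q) D U
    rw [hdv] at h1
    have h2 : finrank F K + finrank F U ≤ finrank F D := by
      have hKD : finrank F K = finrank F (K.comap D.subtype) :=
        (Submodule.comapSubtypeEquivOfLe inf_le_left).finrank_eq.symm
      have hUD' : finrank F U = finrank F (U.comap D.subtype) :=
        (Submodule.comapSubtypeEquivOfLe hUD).finrank_eq.symm
      have hle : K.comap D.subtype ≤ LinearMap.BilinForm.orthogonal (polarBilin (Q.comp D.subtype)) (U.comap D.subtype) :=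
        fun x hx y hy => hx.2 (y : V) hy
      have h := Submodule.finrank_mono hle
      rw [CfsgLib.Orth.finrank_polar_orthogonal hnd] at h
      have := Submodule.finrank_le (U.comap D.subtype)
      omega
    rw [hdv] at h2
    exact le_antisymm h2 h1
  have hdM' : finrank F M = i := by omega
  obtain ⟨f', hf', hirr', hdvd', hker'⟩ := exists_factor_lt hrF hTr hMinv hMfree (c := 0) (by omega)
  obtain ⟨w, hw, hw0⟩ := Submodule.exists_mem_ne_zero_of_ne_bot (p := M ⊓ LinearMap.ker (aeval T f'))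
    (fun h => by rw [h, finrank_bot] at hker'; omega)
  have hdw := finrank_cyc hrF hf' hirr' hdvd' hw.2 hw0
  rw [← hi] at hdw
  have hMw : cyc T w = M := Submodule.eq_of_le_of_finrank_eq (cyc_le hMinv hw.1) (by rw [hdw, hdM'])
  rcases hirred w (hMD hw.1) hw0 hdw with hnw | hisow
  · exact hdone _ (cyc_le hDinv (hMD hw.1)) (inv_cyc T w) hnw hdw
  rw [hMw] at hisow
  -- the sum of the two is nondegenerate
  have hright : ∀ m ∈ M, (∀ u ∈ U, polar Q u m = 0) → m = 0 := fun m hm h =>
    (Submodule.disjoint_def.1 hdisjM) m ⟨hMD hm, fun u hu => h u hu⟩ hm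
  have hUM : U ⊓ M = ⊥ := (Submodule.eq_bot_iff _).2 fun x hx => hright x hx.2 fun u hu => hiso u hu x hx.1
  have hleft : ∀ u ∈ U, (∀ m ∈ M, polar Q u m = 0) → u = 0 := fun u hu h => by
    refine congrArg Subtype.val (hnd ⟨u, hUD hu⟩ fun d => ?_)
    show polar Q u (d : V) = 0
    have htop : K ⊔ M = D := Submodule.eq_of_le_of_finrank_eq (sup_le inf_le_left hMD) (by
      have := Submodule.finrank_sup_add_finrank_inf_eq K M
      rw [disjoint_iff.1 hdisjM, finrank_bot] at this
      omega)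
    obtain ⟨k, hk, m, hm, hkm⟩ := Submodule.mem_sup.1 ((by rw [htop]; exact d.2) : (d : V) ∈ K ⊔ M)
    rw [← hkm, polar_add_right, show polar Q u k = 0 from hk.2 u hu, h m hm, add_zero]
  set P := U ⊔ M
  have hP : NDPolar (Q.comp P.subtype) := fun x hx => by
    obtain ⟨u, hu, m, hm, hum⟩ := Submodule.mem_sup.1 x.2
    have hm0 : m = 0 := hright m hm fun u' hu' => by
      have h : polar Q (x : V) u' = 0 := hx ⟨u', Submodule.mem_sup_left hu'⟩
      rw [← hum, polar_add_left, show polar Q u u' = 0 from hiso u hu u' hu', zero_add, polar_comm] at h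
      exact h
    have hu0 : u = 0 := hleft u hu fun m' hm' => by
      have h : polar Q (x : V) m' = 0 := hx ⟨m', Submodule.mem_sup_right hm'⟩
      rwa [← hum, hm0, add_zero] at h
    exact Subtype.ext (by rw [← hum, hm0, hu0, add_zero]; rfl)
  have hPD : P ≤ D := sup_le hUD hMD
  have hPinv : Inv T P := inv_sup (inv_cyc T v) hMinv
  have hdP : finrank F P = 2 * i := by
    have h : finrank F P + finrank F ↥(U ⊓ M) = finrank F U + finrank F M :=
      Submodule.finrank_sup_add_finrank_inf_eq U M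
    rw [hUM, finrank_bot, hdv, hdM'] at h
    omega
  rcases Nat.even_or_odd i with he | ho
  swap
  · exact ⟨P, hPD, hPinv, hP, by rw [hdP, if_neg (Nat.not_even_iff_odd.2 ho)]⟩
  -- for even order both are killed by one self-reciprocal factor
  obtain ⟨h, hh⟩ := he
  have hhalf : ((Fintype.card F ^ h : ℕ) : ZMod r) = ((r - 1 : ℕ) : ZMod r) := by
    have hsq : ((Fintype.card F : ZMod r) ^ h) * ((Fintype.card F : ZMod r) ^ h) = 1 := by
      rw [← pow_add, ← hh, hi, pow_orderOf_eq_one]
    rw [Nat.cast_sub hr.out.one_le, ZMod.natCast_self, Nat.cast_one, zero_sub, Nat.cast_pow]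
    rcases mul_self_eq_one_iff.1 hsq with h1 | h1
    · have := Nat.le_of_dvd (by omega) (orderOf_dvd_of_pow_eq_one h1); omega
    · exact h1
  have hqr : ∀ {S : Module.End F V}, S ^ r = 1 → S ^ Fintype.card F ^ h = S ^ (r - 1) := fun hS =>
    pow_eq_pow_of_modEq ((ZMod.natCast_eq_natCast_iff _ _ _).1 hhalf) hS
  have hUf : ∀ u ∈ U, aeval T f u = 0 := fun u hu =>
    (cyc_le (inv_ker_aeval (T := T) f) hv.2 hu : u ∈ LinearMap.ker (aeval T f))
  have hMf : ∀ m ∈ M, aeval T f m = 0 := fun m hm => by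
    have h1 : aeval (T ^ (r - 1)) f m = 0 := by
      refine hright _ ?_ fun u hu => ?_
      · rw [aeval_pow_eq]; exact inv_aeval hMinv _ hm
      · have h := aeval_adjoint (B := polarBilin Q) (σ := RingHom.id F) (N := r - 1) hB hN f u m
        rw [hUf u hu, map_zero, LinearMap.zero_apply, Polynomial.map_id] at h
        exact h.symm
    have hr' : (T ^ (r - 1)) ^ r = 1 := by rw [← pow_mul, mul_comm, pow_mul, hTr, one_pow]
    have h2 := aeval_pow_card h1 h
    rw [hqr hr', ← pow_mul] at h2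
    have : T ^ ((r - 1) * (r - 1)) = T := by
      conv_rhs => rw [← pow_one T]
      refine pow_eq_pow_of_modEq ?_ hTr
      rw [← ZMod.natCast_eq_natCast_iff, Nat.cast_mul, Nat.cast_sub hr.out.one_le, ZMod.natCast_self]
      simp
    rwa [this] at h2
  have hPf : ∀ x ∈ P, aeval T f x = 0 := fun x hx => by
    obtain ⟨u, hu, m, hm, rfl⟩ := Submodule.mem_sup.1 hx
    rw [map_add, hUf u hu, hMf m hm, add_zero]
  -- not every irreducible subspace can be totally isotropic
  by_cases hex : ∃ x ∈ P, x ≠ 0 ∧ NDPolar (Q.comp (cyc T x).subtype)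
  · obtain ⟨x, hx, hx0, hnx⟩ := hex
    exact hdone _ ((cyc_le hPinv hx).trans hPD) (inv_cyc T x) hnx
      (by rw [finrank_cyc hrF hf hirr hdvd (hPf x hx) hx0, hi])
  exfalso
  push Not at hex
  have hall : ∀ x ∈ P, ∀ k : ℕ, polar Q x ((T ^ k) x) = 0 := fun x hx k => by
    by_cases hx0 : x = 0
    · rw [hx0, polar_zero_left]
    · have hi' := (hirred x (hPD hx) hx0 (by rw [finrank_cyc hrF hf hirr hdvd (hPf x hx) hx0, hi])).resolve_left
        (hex x hx hx0)
      exact hi' x (self_mem_cyc T x) _ (inv_pow_apply (inv_cyc T x) k (self_mem_cyc T x))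
  have hzero : ∀ x ∈ P, ∀ y ∈ P, polar Q x (T y) + polar Q x ((T ^ (r - 1)) y) = 0 := fun x hx y hy => by
    have h := hall (x + y) (P.add_mem hx hy) 1
    have hx' := hall x hx 1
    have hy' := hall y hy 1
    rw [pow_one] at h hx' hy'
    rw [map_add, polar_add_left, polar_add_right, polar_add_right, hx', hy', zero_add, add_zero,
      polar_comm Q y (T x)] at h
    have e : polar Q (T x) y = polar Q x ((T ^ (r - 1)) y) := by
      conv_lhs => rw [show y = T ((T ^ (r - 1)) y) by rw [← Module.End.mul_apply, ← pow_succ', hr1, hTr]; rfl]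
      exact hB _ _
    rw [e] at h
    exact h
  obtain ⟨x, hx, hx0⟩ : ∃ x ∈ P, x ≠ 0 := ⟨v, Submodule.mem_sup_left (self_mem_cyc T v), hv0⟩
  have hsum : T x + (T ^ (r - 1)) x = 0 := by
    have hmem : T x + (T ^ (r - 1)) x ∈ P := P.add_mem (hPinv x hx) (inv_pow_apply hPinv _ hx)
    have := hP ⟨_, hmem⟩ fun y => by
      show polar Q (T x + (T ^ (r - 1)) x) (y : V) = 0
      rw [polar_comm, polar_add_right]; exact hzero y y.2 x hx
    exact congrArg Subtype.val this
  have h2x : (T ^ 2) x = -x := by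
    have h := congrArg T hsum
    rw [map_add, map_zero, ← Module.End.mul_apply, ← pow_two, ← Module.End.mul_apply, ← pow_succ', hr1, hTr] at h
    exact eq_neg_of_add_eq_zero_left h
  have h4x : ∀ k : ℕ, (T ^ (4 * k)) x = x := fun k => by
    induction k with
    | zero => rfl
    | succ k ih =>
      rw [mul_add, mul_one, pow_add, Module.End.mul_apply, show (4 : ℕ) = 2 + 2 from rfl, pow_add,
        Module.End.mul_apply, h2x, map_neg, h2x, neg_neg]
      exact ih
  refine hx0 (hfree x (hPD hx) ?_)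
  obtain ⟨k, hk⟩ := hr.out.odd_of_ne_two hr2
  have hcong : T ^ (4 * (((4 : ZMod r)⁻¹).val)) = T := by
    conv_rhs => rw [← pow_one T]
    refine pow_eq_pow_of_modEq ?_ hTr
    rw [← ZMod.natCast_eq_natCast_iff, Nat.cast_mul, ZMod.natCast_zmod_val, Nat.cast_ofNat, Nat.cast_one]
    refine mul_inv_cancel₀ fun h4 => ?_
    have h4' : ((4 : ℕ) : ZMod r) = 0 := by exact_mod_cast h4
    rw [ZMod.natCast_eq_zero_iff] at h4'
    exact hr2 ((Nat.prime_dvd_prime_iff_eq hr.out Nat.prime_two).1 (hr.out.dvd_of_dvd_pow (show r ∣ 2 ^ 2 from h4')))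
  have := h4x ((4 : ZMod r)⁻¹).val
  rwa [hcong] at this

/-- Nondegenerate invariant subspaces of every admissible dimension. -/
theorem exists_nd_inv {p : ℕ} [Fact p.Prime] [CharP F p] (hrp : r ≠ p) (hr2 : r ≠ 2) {Q : QuadraticForm F V}
    {T : Module.End F V} (hT : ∀ v, Q (T v) = Q v) (hTr : T ^ r = 1) {D : Submodule F V}
    (hnd : NDPolar (Q.comp D.subtype)) (hDinv : Inv T D) (hfree : Fpf T D) {i : ℕ}
    (hi : i = orderOf (Fintype.card F : ZMod r)) :
    ∀ u : ℕ, u * (if Even i then i else 2 * i) ≤ finrank F D → ∃ U : Submodule F V, U ≤ D ∧ Inv T U ∧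
      NDPolar (Q.comp U.subtype) ∧ finrank F U = u * (if Even i then i else 2 * i)
  | 0, _ => ⟨⊥, bot_le, fun w hw => by simp [(Submodule.mem_bot F).1 hw],
      fun x _ => Subtype.ext ((Submodule.mem_bot F).1 x.2), by rw [finrank_bot, zero_mul]⟩
  | u + 1, hu => by
    have hrF : (r : F) ≠ 0 := CfsgLib.LinFix.natCast_ne_zero_of_ne hrp
    have hcpos : 0 < (if Even i then i else 2 * i) := by
      have : 0 < i := hi ▸ ord_pos hrF
      split_ifs <;> omega
    rw [add_mul, one_mul] at hu
    obtain ⟨U, hUD, hUinv, hUnd, hdU⟩ := exists_nd_inv hrp hr2 hT hTr hnd hDinv hfree hi u (by omega)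
    obtain ⟨hMnd, hsup, hdisj, hdim⟩ := exists_orth_compl hUD hUnd hnd
    set M := D ⊓ U.orthogonalBilin (polarBilin Q)
    have hB : ∀ x y, polar Q (T x) (T y) = polar Q x y := fun x y => by simp only [polar, ← map_add, hT]
    have hMinv : Inv T M := inv_inf hDinv (inv_orth (B := polarBilin Q) hB hTr hUinv)
    obtain ⟨U', hU'M, hU'inv, hU'nd, hdU'⟩ := exists_nd_block (p := p) hrp hr2 hT hTr hMnd hMinv
      (hfree.mono inf_le_left) (by omega) hi
    have hU'D : U' ≤ D := hU'M.trans inf_le_left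
    have horth : ∀ x ∈ U, ∀ y ∈ U', polar Q x y = 0 := fun x hx y hy => (hU'M hy).2 x hx
    refine ⟨U ⊔ U', sup_le hUD hU'D, inv_sup hUinv hU'inv, fun x hx => ?_, ?_⟩
    · obtain ⟨a, ha, b, hb, hab⟩ := Submodule.mem_sup.1 x.2
      have ha0 : a = 0 := congrArg Subtype.val (hUnd ⟨a, ha⟩ fun w => by
        show polar Q a (w : V) = 0
        have h : polar Q (x : V) (w : V) = 0 := hx ⟨w, Submodule.mem_sup_left w.2⟩
        rwa [← hab, polar_add_left, polar_comm Q b, horth _ w.2 b hb, add_zero] at h)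
      have hb0 : b = 0 := congrArg Subtype.val (hU'nd ⟨b, hb⟩ fun w => by
        show polar Q b (w : V) = 0
        have h : polar Q (x : V) (w : V) = 0 := hx ⟨w, Submodule.mem_sup_right w.2⟩
        rwa [← hab, polar_add_left, horth a ha _ w.2, zero_add] at h)
      exact Subtype.ext (by rw [← hab, ha0, hb0, add_zero]; rfl)
    · have h := Submodule.finrank_sup_add_finrank_inf_eq U U'
      rw [show U ⊓ U' = ⊥ from eq_bot_iff.2 (hdisj ▸ inf_le_inf le_rfl hU'M), finrank_bot, hdU, hdU'] at h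
      rw [add_mul, one_mul]
      omega

/-- A nondegenerate subspace of prescribed dimension and type. -/
theorem exists_nd_sub {Q : QuadraticForm F V} (hnd : NDPolar Q) (hev : Even (finrank F V)) {e δ : ℕ} (hδ : δ = 0 ∨ δ = 2)
    (he : Even e) (hδe : δ ≤ e) (hlt : e < finrank F V ∨ (e = finrank F V ∧ defect Q = δ)) :
    ∃ U : Submodule F V, NDPolar (Q.comp U.subtype) ∧ finrank F U = e ∧ defect (Q.comp U.subtype) = δ := by
  classical
  rcases hlt with hlt | ⟨rfl, hd⟩
  swap
  · let E : V ≃ₗ[F] (⊤ : Submodule F V) := Submodule.topEquiv.symm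
    exact ⟨⊤, fun x hx => Subtype.ext (hnd _ fun y => hx ⟨y, Submodule.mem_top⟩), finrank_top F V,
      (defect_congr (Q' := Q.comp (⊤ : Submodule F V).subtype) E fun x => rfl).trans hd⟩
  set n := finrank F V
  obtain ⟨u, hu⟩ := he
  obtain ⟨N, hN⟩ := hev
  obtain ⟨δ', hδa, hδb⟩ : ∃ δ' : ℕ, (defect Q = δ → δ' = 0) ∧ (defect Q ≠ δ → δ' = 2) := by
    by_cases h : defect Q = δ
    · exact ⟨0, fun _ => rfl, fun h' => absurd h h'⟩
    · exact ⟨2, fun h' => absurd h' h, fun _ => rfl⟩
  have hδ2 : δ' = 0 ∨ δ' = 2 := by omega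
  have hdQ : defect Q = 0 ∨ defect Q = 2 := by
    by_cases hp : IsPlus Q
    · exact Or.inl (defect_of_plus hp)
    · exact Or.inr (defect_of_not_plus ⟨N, hN⟩ hp)
  obtain ⟨Q₁, hQ₁, hd₁⟩ := exists_space (F := F) (n := e) (K := (e - δ) / 2) (δ := δ) (by omega) (by omega)
    (fun h => absurd h (by omega))
  obtain ⟨Q₂, hQ₂, hd₂⟩ := exists_space (F := F) (n := n - e) (K := (n - e - δ') / 2) (δ := δ')
    (by omega) (by omega) (fun h => absurd h (by omega))
  let Z := (Fin e → F) × (Fin (n - e) → F)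
  let P : QuadraticForm F Z := QuadraticMap.prod Q₁ Q₂
  have hP : ∀ p, P p = Q₁ p.1 + Q₂ p.2 := fun p => QuadraticMap.prod_apply _ _ p
  have hpolP : ∀ p p', polar P p p' = polar Q₁ p.1 p'.1 + polar Q₂ p.2 p'.2 := fun p p' => by
    simp only [polar, hP]
    show Q₁ (p.1 + p'.1) + Q₂ (p.2 + p'.2) - _ - _ = _
    ring
  have hPnd : NDPolar P := fun p hp => Prod.ext
    (hQ₁ _ fun u => by have h := hp (u, 0); simpa [hpolP] using h)
    (hQ₂ _ fun u => by have h := hp (0, u); simpa [hpolP] using h)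
  have hdX : finrank F Z = n := by simp [Z]; omega
  let C := LinearMap.range (LinearMap.inl F (Fin e → F) (Fin (n - e) → F))
  let D := LinearMap.range (LinearMap.inr F (Fin e → F) (Fin (n - e) → F))
  let EC : (Fin e → F) ≃ₗ[F] C := LinearEquiv.ofInjective _ LinearMap.inl_injective
  let ED : (Fin (n - e) → F) ≃ₗ[F] D := LinearEquiv.ofInjective _ LinearMap.inr_injective
  have hC : finrank F C = e := by rw [← EC.finrank_eq]; simp
  have hD : finrank F D = n - e := by rw [← ED.finrank_eq]; simp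
  have hdC : defect (P.comp C.subtype) = δ := hd₁ ▸ defect_congr EC fun x => by
    show P (LinearMap.inl F _ _ x) = Q₁ x
    simp [hP]
  have hdD : defect (P.comp D.subtype) = δ' := hd₂ ▸ defect_congr ED fun x => by
    show P (LinearMap.inr F _ _ x) = Q₂ x
    simp [hP]
  have hevC : Even (finrank F C) := ⟨u, by omega⟩
  have hevD : Even (finrank F D) := ⟨N - u, by omega⟩
  have hsup : C ⊔ D = ⊤ := by
    rw [← LinearMap.range_coprod]
    exact LinearMap.range_eq_top.2 fun p => ⟨p, by simp⟩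
  have hiff := isPlus_iff_of_decomp (C := C) (D := D) hPnd hsup
    (disjoint_iff.1 (LinearMap.isCompl_range_inl_inr.disjoint))
    (by rintro _ ⟨u, rfl⟩ _ ⟨v, rfl⟩; simp [hpolP]) hevC hevD
  have hdP : defect P = defect Q := by
    have hC0 : IsPlus (P.comp C.subtype) ↔ δ = 0 := ⟨fun h => hdC ▸ defect_of_plus h, fun h => by
      by_contra hc; rw [defect_of_not_plus hevC hc] at hdC; omega⟩
    have hD0 : IsPlus (P.comp D.subtype) ↔ δ' = 0 := ⟨fun h => hdD ▸ defect_of_plus h, fun h => by
      by_contra hc; rw [defect_of_not_plus hevD hc] at hdD; omega⟩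
    rw [hC0, hD0] at hiff
    by_cases hpP : IsPlus P
    · rw [defect_of_plus hpP]
      have := hiff.1 hpP
      omega
    · rw [defect_of_not_plus ⟨N, by omega⟩ hpP]
      rcases hdQ with h | h
      · exfalso; apply hpP; apply hiff.2; omega
      · omega
  obtain ⟨cs, E, -, hE⟩ := exists_similitude hPnd hnd (fun h => absurd h (by rw [hdX, Nat.odd_iff]; omega))
    hdX.symm hdP.symm
  have hcs : cs ≠ 0 → defect (Q.comp (C.map E.toLinearMap).subtype) = δ := fun hcs => by
    have hevU : Even (finrank F ↥(C.map E.toLinearMap)) := by rw [LinearEquiv.finrank_map_eq, hC]; exact ⟨u, hu⟩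
    unfold defect at hdC ⊢
    rw [if_neg (Nat.not_odd_iff_even.2 hevC)] at hdC
    rw [if_neg (Nat.not_odd_iff_even.2 hevU)]
    have hiff' : IsPlus (Q.comp (C.map E.toLinearMap).subtype) ↔ IsPlus (P.comp C.subtype) := by
      let EE : C ≃ₗ[F] (C.map E.toLinearMap : Submodule F V) := E.submoduleMap C
      have hEE : ∀ x, Q (EE x : V) = cs * P (x : Z) := fun x => hE x
      constructor
      · rintro ⟨U, hU, hdU⟩
        refine ⟨U.map EE.symm.toLinearMap, ?_, by rw [LinearEquiv.finrank_map_eq, hdU, EE.finrank_eq]⟩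
        rintro _ ⟨y, hy, rfl⟩
        show P ((EE.symm y : C) : Z) = 0
        have h := hEE (EE.symm y)
        rw [EE.apply_symm_apply, show Q (y : V) = 0 from hU y hy] at h
        exact (mul_eq_zero.1 h.symm).resolve_left hcs
      · rintro ⟨U, hU, hdU⟩
        refine ⟨U.map EE.toLinearMap, ?_, by rw [LinearEquiv.finrank_map_eq, hdU, EE.finrank_eq]⟩
        rintro _ ⟨y, hy, rfl⟩
        show Q (EE y : V) = 0
        rw [hEE, show P (y : Z) = 0 from hU y hy, mul_zero]
    simp only [hiff']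
    exact hdC
  have hcs0 : cs ≠ 0 := by
    intro h0
    by_cases hV : n = 0
    · omega
    · haveI : Nontrivial V := Module.nontrivial_of_finrank_pos (R := F) (by omega)
      obtain ⟨v, hv⟩ := exists_ne (0 : V)
      exact hv (hnd v fun w => by
        obtain ⟨x, rfl⟩ := E.surjective v
        obtain ⟨y, rfl⟩ := E.surjective w
        simp [polar, ← map_add, hE, h0])
  refine ⟨C.map E.toLinearMap, fun x hx => ?_, by rw [LinearEquiv.finrank_map_eq, hC], hcs hcs0⟩
  obtain ⟨c, hc, hcx⟩ := x.2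
  refine Subtype.ext ?_
  show (x : V) = 0
  rw [← hcx]
  refine hnd _ fun y => ?_
  obtain ⟨p, rfl⟩ := E.surjective y
  obtain ⟨c', hc', d', hd', rfl⟩ := Submodule.mem_sup.1 (hsup ▸ Submodule.mem_top : p ∈ C ⊔ D)
  rw [map_add E, polar_add_right]
  have h1 : polar Q (E.toLinearMap c) (E c') = 0 := by
    rw [hcx]; exact hx ⟨E c', ⟨c', hc', rfl⟩⟩
  have h2 : polar Q (E.toLinearMap c) (E d') = 0 := by
    obtain ⟨a, rfl⟩ := hc
    obtain ⟨b, rfl⟩ := hd'
    simp only [LinearEquiv.coe_coe, polar, ← map_add, hE]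
    rw [← mul_sub, ← mul_sub]
    show cs * polar P _ _ = 0
    simp [hpolP]
  rw [h1, h2, add_zero]

end CfsgLib.PrimeFix.Quad
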