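import Mathlib
import Cfsg.Agent.Lib.PrimeFix.OrthCount
import Cfsg.Agent.Lib.PrimeFix.QuadSplit

/-!
The number of hyperbolic subspaces of a given dimension.
-/

set_option autoImplicit false

universe u v

namespace CfsgLib.PrimeFix.Quad

open Module QuadraticMap
open CfsgLib.Classical.Quad (NDPolar)
open CfsgLib.FormsDisc (IsHypFamily)
open CfsgLib.RootCount (IsPlus)

variable {F : Type u} [Field F] {V : Type v} [AddCommGroup V] [Module F V]

/-- `W` is a hyperbolic subspace of dimension `m`. -/
def IsHypSub (Q : QuadraticForm F V) (m : ℕ) (W : Submodule F V) : Prop :=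
  finrank F W = m ∧ (∀ u ∈ W, u ≠ 0 → ∃ v ∈ W, polar Q u v ≠ 0) ∧
    ∃ U : Submodule F V, U ≤ W ∧ 2 * finrank F U = m ∧ ∀ u ∈ U, Q u = 0

theorem isHypSub_iff [FiniteDimensional F V] {Q : QuadraticForm F V} {m : ℕ} {W : Submodule F V} :
    IsHypSub Q m W ↔ finrank F W = m ∧ NDPolar (Q.comp W.subtype) ∧ IsPlus (Q.comp W.subtype) := by
  constructor
  · rintro ⟨hd, hn, U, hUW, hdU, hU⟩
    refine ⟨hd, fun x hx => Subtype.ext (by_contra fun h0 => ?_), U.comap W.subtype, fun x hx => hU _ hx, ?_⟩
    · obtain ⟨v, hv, hne⟩ := hn x x.2 h0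
      exact hne (hx ⟨v, hv⟩)
    · rw [(Submodule.comapSubtypeEquivOfLe hUW).finrank_eq, hdU, hd]
  · rintro ⟨hd, hn, U, hU, hdU⟩
    refine ⟨hd, fun u hu hu0 => ?_, U.map W.subtype, Submodule.map_subtype_le _ _, ?_, ?_⟩
    · by_contra h
      push Not at h
      exact hu0 (congrArg Subtype.val (hn ⟨u, hu⟩ fun w => h w w.2))
    · rw [Submodule.finrank_map_subtype_eq, hdU, hd]
    · rintro _ ⟨x, hx, rfl⟩
      exact hU x hx

/-- Families of hyperbolic pairs. -/
abbrev HypTuple (Q : QuadraticForm F V) (k : ℕ) : Type v :=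
  {t : (Fin k → V) × (Fin k → V) // IsHypFamily Q t.1 t.2}

/-- The number of families of hyperbolic pairs in a space of plus type. -/
def hypCount (q d k : ℕ) : ℕ :=
  ∏ s ∈ Finset.range k, (q ^ (d - s) - 1) * (q ^ (d - s - 1) + 1) * q ^ (2 * (d - s - 1))

variable [Fintype F] [FiniteDimensional F V]

theorem card_first_pair {Q : QuadraticForm F V} (hnd : NDPolar Q) {d : ℕ} (hd : finrank F V = 2 * d)
    (hd0 : 0 < d) (hp : IsPlus Q) :
    Nat.card {p : V × V // Q p.1 = 0 ∧ Q p.2 = 0 ∧ polar Q p.1 p.2 = 1} =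
      (Fintype.card F ^ d - 1) * (Fintype.card F ^ (d - 1) + 1) * Fintype.card F ^ (2 * (d - 1)) := by
  classical
  haveI : Finite V := Module.finite_of_finite F
  haveI := Fintype.ofFinite V
  let e : {p : V × V // Q p.1 = 0 ∧ Q p.2 = 0 ∧ polar Q p.1 p.2 = 1} ≃
      Σ u : {u : V // Q u = 0 ∧ u ≠ 0}, {z : V // Q z = 0 ∧ polar Q u.1 z = 1} :=
    { toFun := fun p => ⟨⟨p.1.1, p.2.1, fun h => by simpa [h] using p.2.2.2⟩, ⟨p.1.2, p.2.2⟩⟩
      invFun := fun s => ⟨(s.1.1, s.2.1), s.1.2.1, s.2.2.1, s.2.2.2⟩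
      left_inv := fun _ => rfl
      right_inv := fun _ => rfl }
  have hz : ∀ u : {u : V // Q u = 0 ∧ u ≠ 0},
      Nat.card {z : V // Q z = 0 ∧ polar Q u.1 z = 1} = Fintype.card F ^ (2 * (d - 1)) := by
    rintro ⟨u, hu, hu0⟩
    obtain ⟨z₀, hz₀⟩ := CfsgLib.Classical.Quad.exists_polar_one hnd hu0
    have huu := CfsgLib.Classical.Quad.polar_singular_self hu
    have hcomb : ∀ (z : V) (c : F), Q (z + c • u) = Q z + c * polar Q u z := fun z c => by
      rw [QuadraticMap.map_add (⇑Q), QuadraticMap.map_smul, hu, polar_smul_right, polar_comm Q z u, smul_eq_mul,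
        smul_eq_mul]
      ring
    let φ : {z : V // Q z = 0 ∧ polar Q u z = 1} × F → {y : V // polar Q u y = 1} := fun p =>
      ⟨p.1.1 + p.2 • u, by rw [polar_add_right, polar_smul_right, huu, p.1.2.2, smul_zero, add_zero]⟩
    have hφ : Function.Bijective φ := by
      refine ⟨fun p p' h => ?_, fun y => ?_⟩
      · have h0 : p.1.1 + p.2 • u = p'.1.1 + p'.2 • u := congrArg Subtype.val h
        have h1 := congrArg Q h0
        rw [hcomb, hcomb, p.1.2.1, p.1.2.2, p'.1.2.1, p'.1.2.2, zero_add, zero_add, mul_one, mul_one] at h1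
        rw [h1] at h0
        exact Prod.ext (Subtype.ext (add_right_cancel h0)) h1
      · refine ⟨(⟨y.1 + (-Q y.1) • u, ?_, ?_⟩, Q y.1), Subtype.ext ?_⟩
        · rw [hcomb, y.2, mul_one, add_neg_cancel]
        · rw [polar_add_right, polar_smul_right, huu, y.2, smul_zero, add_zero]
        · show y.1 + (-Q y.1) • u + Q y.1 • u = y.1
          rw [add_assoc, ← add_smul, neg_add_cancel, zero_smul, add_zero]
    let eK : {y : V // polar Q u y = 1} ≃ LinearMap.ker (polarBilin Q u) :=
      (Equiv.addRight (-z₀)).subtypeEquiv fun y => by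
        rw [LinearMap.mem_ker, Equiv.coe_addRight, map_add, map_neg, polarBilin_apply_apply, polarBilin_apply_apply,
          hz₀, ← sub_eq_add_neg, sub_eq_zero]
    have hker : finrank F (LinearMap.ker (polarBilin Q u)) = 2 * d - 1 := by
      have h := (polarBilin Q u).finrank_range_add_finrank_ker
      have hr : LinearMap.range (polarBilin Q u) = ⊤ := LinearMap.range_eq_top.2 fun c => ⟨c • z₀, by simp [hz₀]⟩
      rw [hr, finrank_top, finrank_self, hd] at h
      omega
    have h := Nat.card_congr ((Equiv.ofBijective φ hφ).trans eK)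
    rw [Nat.card_prod, Module.natCard_eq_pow_finrank (K := F) (V := LinearMap.ker (polarBilin Q u)), hker,
      Nat.card_eq_fintype_card (α := F), show 2 * d - 1 = 2 * (d - 1) + 1 by omega, pow_succ] at h
    exact Nat.eq_of_mul_eq_mul_right Fintype.card_pos h
  have hsing : Nat.card {u : V // Q u = 0 ∧ u ≠ 0} = (Fintype.card F ^ d - 1) * (Fintype.card F ^ (d - 1) + 1) := by
    have h := card_singular hnd (K := d) (by rw [defect_of_plus hp, hd, add_zero])
    rw [defect_of_plus hp, pow_zero, mul_one] at h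
    have hsplit : Nat.card {u : V // Q u = 0} = Nat.card {u : V // Q u = 0 ∧ u ≠ 0} + 1 := by
      rw [Nat.card_eq_fintype_card, Nat.card_eq_fintype_card, Fintype.card_subtype, Fintype.card_subtype]
      rw [← Finset.card_erase_add_one (show (0 : V) ∈ Finset.univ.filter (fun u : V => Q u = 0) by simp)]
      congr 2
      ext u
      simp [and_comm]
    obtain ⟨y, hy⟩ : ∃ y, Fintype.card F ^ d = y + 1 :=
      ⟨Fintype.card F ^ d - 1, (Nat.sub_add_cancel (Nat.one_le_pow _ _ Fintype.card_pos)).symm⟩
    rw [hy, Nat.add_sub_cancel] at h ⊢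
    linarith
  rw [Nat.card_congr e, Nat.card_sigma, Finset.sum_congr rfl (fun u _ => hz u), Finset.sum_const, Finset.card_univ,
    smul_eq_mul, ← Nat.card_eq_fintype_card, hsing]

/-- Counting families of hyperbolic pairs. -/
theorem card_hypTuple : ∀ (k : ℕ) {V : Type v} [AddCommGroup V] [Module F V] [FiniteDimensional F V]
    {Q : QuadraticForm F V}, NDPolar Q → IsPlus Q → ∀ {d : ℕ}, finrank F V = 2 * d → k ≤ d →
    Nat.card (HypTuple Q k) = hypCount (Fintype.card F) d k := by
  intro k
  induction k with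
  | zero =>
    intro V _ _ _ Q _ _ d _ _
    rw [hypCount, Finset.prod_range_zero, Nat.card_eq_one_iff_unique]
    exact ⟨⟨fun t t' => Subtype.ext (Prod.ext (Subsingleton.elim _ _) (Subsingleton.elim _ _))⟩,
      ⟨⟨(Fin.elim0, Fin.elim0), ⟨fun i => i.elim0, fun i => i.elim0, fun i => i.elim0⟩⟩⟩⟩
  | succ k ih =>
    intro V _ _ _ Q hnd hp d hd hk
    classical
    haveI : Finite V := Module.finite_of_finite F
    let S := {p : V × V // Q p.1 = 0 ∧ Q p.2 = 0 ∧ polar Q p.1 p.2 = 1}
    let W : S → Submodule F V := fun p =>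
      (⊤ : Submodule F V) ⊓ (Submodule.span F {p.1.1, p.1.2}).orthogonalBilin (polarBilin Q)
    have hmem : ∀ (p : S) (x : V), x ∈ W p ↔ polar Q p.1.1 x = 0 ∧ polar Q p.1.2 x = 0 := fun p x => by
      refine ⟨fun h => ⟨h.2 _ (Submodule.mem_span_of_mem (by simp)), h.2 _ (Submodule.mem_span_of_mem (by simp))⟩,
        fun h => ⟨trivial, fun y hy => ?_⟩⟩
      obtain ⟨a, b, rfl⟩ := Submodule.mem_span_pair.1 hy
      show polar Q (a • p.1.1 + b • p.1.2) x = 0
      rw [polar_add_left, polar_smul_left, polar_smul_left, h.1, h.2, smul_zero, smul_zero, add_zero]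
    -- each first pair leaves a space of plus type
    have hW : ∀ p : S, NDPolar (Q.comp (W p).subtype) ∧ IsPlus (Q.comp (W p).subtype) ∧
        finrank F (W p) = 2 * (d - 1) := by
      rintro ⟨⟨u, z⟩, hu, hz, huz⟩
      have huu := CfsgLib.Classical.Quad.polar_singular_self hu
      have hzz := CfsgLib.Classical.Quad.polar_singular_self hz
      set P := Submodule.span F ({u, z} : Set V) with hPdef
      have hcoef : ∀ a b : F, polar Q u (a • u + b • z) = b ∧ polar Q z (a • u + b • z) = a := fun a b => by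
        simp [polar_add_right, polar_smul_right, huu, hzz, huz, polar_comm Q z u]
      have hPnd : NDPolar (Q.comp P.subtype) := fun x hx => by
        obtain ⟨a, b, hab⟩ := Submodule.mem_span_pair.1 x.2
        have h1 : polar Q u (x : V) = 0 := by
          rw [polar_comm]; exact hx ⟨u, Submodule.mem_span_of_mem (by simp)⟩
        have h2 : polar Q z (x : V) = 0 := by
          rw [polar_comm]; exact hx ⟨z, Submodule.mem_span_of_mem (by simp)⟩
        rw [← hab, (hcoef a b).1] at h1
        rw [← hab, (hcoef a b).2] at h2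
        exact Subtype.ext (by rw [← hab, h1, h2]; simp)
      have hli : LinearIndependent F ![u, z] := LinearIndependent.pair_iff.2 fun a b h => by
        have h1 := (hcoef a b).1
        have h2 := (hcoef a b).2
        rw [h, polar_zero_right] at h1 h2
        exact ⟨h2.symm, h1.symm⟩
      have hdP : finrank F P = 2 := by
        rw [hPdef, ← Matrix.range_cons_cons_empty u z ![], finrank_span_eq_card hli, Fintype.card_fin]
      obtain ⟨hMnd, hsup, hdisj, hdim⟩ := exists_orth_compl (W := (⊤ : Submodule F V)) (le_top (a := P)) hPnd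
        (fun x hx => Subtype.ext (hnd _ fun y => hx ⟨y, Submodule.mem_top⟩))
      rw [finrank_top, hd, hdP] at hdim
      refine ⟨hMnd, ?_, by show finrank F ↥((⊤ : Submodule F V) ⊓ P.orthogonalBilin (polarBilin Q)) = _; omega⟩
      have hPplus : IsPlus (Q.comp P.subtype) := by
        refine ⟨F ∙ (⟨u, Submodule.mem_span_of_mem (by simp)⟩ : P), fun x hx => ?_, ?_⟩
        · obtain ⟨c, rfl⟩ := Submodule.mem_span_singleton.1 hx
          show Q (c • u) = 0
          rw [QuadraticMap.map_smul, hu, smul_zero]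
        · rw [finrank_span_singleton fun h => hli.ne_zero 0 (congrArg Subtype.val h), hdP]
      exact ((isPlus_iff_of_decomp hnd hsup hdisj (fun c hc x hx => hx.2 c hc) (by rw [hdP]; decide)
        ⟨d - 1, by omega⟩).1 hp).1 hPplus
    let e : HypTuple Q (k + 1) ≃ Σ p : S, HypTuple (Q.comp (W p).subtype) k :=
      { toFun := fun t => ⟨⟨(t.1.1 0, t.1.2 0), (t.2.sing 0).1, (t.2.sing 0).2, by simpa using t.2.pair 0 0⟩,
          ⟨(fun j => ⟨t.1.1 j.succ, (hmem _ _).2 ⟨(t.2.iso 0 j.succ).1, by
              show polar Q (t.1.2 0) (t.1.1 j.succ) = 0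
              rw [polar_comm, t.2.pair]; simp [Fin.succ_ne_zero]⟩⟩,
            fun j => ⟨t.1.2 j.succ, (hmem _ _).2 ⟨by
              show polar Q (t.1.1 0) (t.1.2 j.succ) = 0
              rw [t.2.pair]; simp [(Fin.succ_ne_zero j).symm], (t.2.iso 0 j.succ).2⟩⟩),
           ⟨fun j => t.2.sing j.succ, fun i j => by
              show polar Q (t.1.1 i.succ) (t.1.2 j.succ) = _
              rw [t.2.pair]; simp [Fin.succ_inj],
            fun i j => ⟨(t.2.iso i.succ j.succ).1, (t.2.iso i.succ j.succ).2⟩⟩⟩⟩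
        invFun := fun s => ⟨(Fin.cons s.1.1.1 fun j => (s.2.1.1 j : V), Fin.cons s.1.1.2 fun j => (s.2.1.2 j : V)), by
          obtain ⟨⟨⟨u, z⟩, hu, hz, huz⟩, ⟨⟨e, f⟩, hs, hp', hi⟩⟩ := s
          have he := fun j => (hmem _ _).1 (e j).2
          have hf := fun j => (hmem _ _).1 (f j).2
          have huu := CfsgLib.Classical.Quad.polar_singular_self hu
          have hzz := CfsgLib.Classical.Quad.polar_singular_self hz
          refine ⟨fun i => ?_, fun i j => ?_, fun i j => ?_⟩
          · refine Fin.cases ?_ (fun i => ?_) i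
            · exact ⟨hu, hz⟩
            · exact hs i
          · refine Fin.cases ?_ (fun i => ?_) i <;> refine Fin.cases ?_ (fun j => ?_) j
            · simpa using huz
            · simpa [(Fin.succ_ne_zero j).symm] using (hf j).1
            · simpa [Fin.succ_ne_zero i, polar_comm Q _ z] using (he i).2
            · have h := hp' i j
              change polar Q (e i : V) (f j) = _ at h
              simpa using h
          · refine Fin.cases ?_ (fun i => ?_) i <;> refine Fin.cases ?_ (fun j => ?_) j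
            · exact ⟨huu, hzz⟩
            · exact ⟨(he j).1, (hf j).2⟩
            · simp only [Fin.cons_succ, Fin.cons_zero]
              rw [polar_comm Q (e i : V), polar_comm Q (f i : V)]
              exact ⟨(he i).1, (hf i).2⟩
            · exact hi i j⟩
        left_inv := fun t => Subtype.ext (Prod.ext (Fin.cons_self_tail t.1.1) (Fin.cons_self_tail t.1.2))
        right_inv := fun s => rfl }
    haveI : Fintype S := Fintype.ofFinite S
    rw [Nat.card_congr e, Nat.card_sigma,
      Finset.sum_congr rfl (fun p _ => ih (hW p).1 (hW p).2.1 (hW p).2.2 (by omega)), Finset.sum_const,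
      Finset.card_univ, smul_eq_mul, ← Nat.card_eq_fintype_card, card_first_pair hnd hd (by omega) hp]
    rw [hypCount, hypCount, Finset.prod_range_succ', Nat.sub_zero, mul_comm]
    congr 1
    refine Finset.prod_congr rfl fun s _ => ?_
    rw [show d - (s + 1) = d - 1 - s by omega]

/-- Families of pairs are grouped by the hyperbolic subspace they span. -/
theorem card_hypSub_mul {Q : QuadraticForm F V} (hnd : NDPolar Q) (hp : IsPlus Q) {d μ : ℕ}
    (hd : finrank F V = 2 * d) (hμ : μ ≤ d) :
    Nat.card {W : Submodule F V // IsHypSub Q (2 * μ) W} * hypCount (Fintype.card F) μ μ =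
      hypCount (Fintype.card F) d μ := by
  classical
  haveI : Finite V := Module.finite_of_finite F
  haveI : Finite (Submodule F V) := Finite.of_injective (fun W : Submodule F V => (W : Set V)) SetLike.coe_injective
  rw [← card_hypTuple μ hnd hp hd hμ]
  let span' : HypTuple Q μ → Submodule F V := fun t => Submodule.span F (Set.range (Sum.elim t.1.1 t.1.2))
  have hli : ∀ {X : Type v} [AddCommGroup X] [Module F X] {R : QuadraticForm F X} {e f : Fin μ → X},
      IsHypFamily R e f → LinearIndependent F (Sum.elim e f) := fun {X} _ _ {R e f} h =>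
    (CfsgLib.FormsDisc.linearIndependent_family R h (κ := Fin 0) Fin.elim0
      linearIndependent_empty_type (fun c => c.elim0)).comp Sum.inl Sum.inl_injective
  have hspan : ∀ t : HypTuple Q μ, IsHypSub Q (2 * μ) (span' t) := by
    rintro ⟨⟨e, f⟩, ht⟩
    have hl := hli ht
    have hdim : finrank F (Submodule.span F (Set.range (Sum.elim e f))) = 2 * μ := by
      rw [finrank_span_eq_card hl]; simp; ring
    refine ⟨hdim, fun u hu hu0 => ?_, Submodule.span F (Set.range e), Submodule.span_mono ?_, ?_, (singular_span ht).1⟩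
    · obtain ⟨c, rfl⟩ := (Submodule.mem_span_range_iff_exists_fun F).1 hu
      by_contra hall
      push Not at hall
      refine hu0 (Finset.sum_eq_zero fun x _ => ?_)
      have hfe : ∀ i j, polar Q (f i) (e j) = if i = j then 1 else 0 := fun i j => by
        rw [polar_comm, ht.pair]; simp [eq_comm]
      rcases x with j | j
      · have h := hall (f j) (Submodule.subset_span ⟨.inr j, rfl⟩)
        rw [polar_comm, ← polarBilin_apply_apply, map_sum, Fintype.sum_sum_type] at h
        simp [hfe, (ht.iso _ _).2] at h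
        simp [h]
      · have h := hall (e j) (Submodule.subset_span ⟨.inl j, rfl⟩)
        rw [polar_comm, ← polarBilin_apply_apply, map_sum, Fintype.sum_sum_type] at h
        simp [ht.pair, (ht.iso _ _).1] at h
        simp [h]
    · rw [Set.Sum.elim_range]; exact Set.subset_union_left
    · rw [(singular_span ht).2]
  let φ : HypTuple Q μ → Σ W : {W : Submodule F V // IsHypSub Q (2 * μ) W}, HypTuple (Q.comp W.1.subtype) μ :=
    fun t => ⟨⟨span' t, hspan t⟩, ⟨(fun j => ⟨t.1.1 j, Submodule.subset_span ⟨.inl j, rfl⟩⟩,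
      fun j => ⟨t.1.2 j, Submodule.subset_span ⟨.inr j, rfl⟩⟩),
      ⟨fun j => t.2.sing j, fun i j => t.2.pair i j, fun i j => t.2.iso i j⟩⟩⟩
  have hφ : Function.Bijective φ := by
    refine ⟨fun t t' h => ?_, fun s => ?_⟩
    · have h1 := congrArg (fun s : Σ W : {W : Submodule F V // IsHypSub Q (2 * μ) W}, HypTuple (Q.comp W.1.subtype) μ =>
        ((fun j => ((s.2.1.1 j : s.1.1) : V)), (fun j => ((s.2.1.2 j : s.1.1) : V)))) h
      exact Subtype.ext h1
    · obtain ⟨⟨W, hW⟩, ⟨⟨e, f⟩, ht⟩⟩ := s
      refine ⟨⟨(fun j => (e j : V), fun j => (f j : V)),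
        ⟨fun j => ht.sing j, fun i j => ht.pair i j, fun i j => ht.iso i j⟩⟩, ?_⟩
      have hWeq : Submodule.span F (Set.range (Sum.elim (fun j => (e j : V)) fun j => (f j : V))) = W := by
        refine Submodule.eq_of_le_of_finrank_eq ?_ ?_
        · rw [Submodule.span_le]
          rintro _ ⟨x, rfl⟩
          rcases x with j | j
          · exact (e j).2
          · exact (f j).2
        · have hl := (hli ht).map' W.subtype W.ker_subtype
          have e1 : Sum.elim (fun j => (e j : V)) (fun j => (f j : V)) = W.subtype ∘ Sum.elim e f := by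
            funext x; rcases x with j | j <;> rfl
          rw [e1, finrank_span_eq_card hl, hW.1]; simp; ring
      have key : ∀ (W' : Submodule F V) (h' : IsHypSub Q (2 * μ) W') (e' f' : Fin μ → W')
          (ht' : IsHypFamily (Q.comp W'.subtype) e' f'), W' = W → (∀ j, (e' j : V) = e j) → (∀ j, (f' j : V) = f j) →
          (⟨⟨W', h'⟩, ⟨(e', f'), ht'⟩⟩ :
            Σ W : {W : Submodule F V // IsHypSub Q (2 * μ) W}, HypTuple (Q.comp W.1.subtype) μ) =
          ⟨⟨W, hW⟩, ⟨(e, f), ht⟩⟩ := by
        intro W' h' e' f' ht' hWW he hf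
        subst hWW
        obtain rfl : e' = e := funext fun j => Subtype.ext (he j)
        obtain rfl : f' = f := funext fun j => Subtype.ext (hf j)
        rfl
      exact key _ _ _ _ _ hWeq (fun _ => rfl) (fun _ => rfl)
  haveI : Fintype {W : Submodule F V // IsHypSub Q (2 * μ) W} := Fintype.ofFinite _
  rw [Nat.card_congr (Equiv.ofBijective φ hφ), Nat.card_sigma]
  rw [Finset.sum_congr rfl (fun W _ => card_hypTuple μ (isHypSub_iff.1 W.2).2.1 (isHypSub_iff.1 W.2).2.2
    (d := μ) (isHypSub_iff.1 W.2).1 le_rfl), Finset.sum_const, Finset.card_univ, smul_eq_mul,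
    ← Nat.card_eq_fintype_card (α := {W : Submodule F V // IsHypSub Q (2 * μ) W})]

/-- A prime dividing the number of hyperbolic subspaces. -/
theorem exists_pow_eq_hyp {r : ℕ} [hr : Fact r.Prime] (hrq : ¬ r ∣ Fintype.card F) {Q : QuadraticForm F V}
    (hnd : NDPolar Q) (hp : IsPlus Q) {d μ : ℕ} (hd : finrank F V = 2 * d) (hμ : μ ≤ d)
    (h : r ∣ Nat.card {W : Submodule F V // IsHypSub Q (2 * μ) W}) :
    ∃ s < μ, (Fintype.card F : ZMod r) ^ (d - s) = 1 ∨ (Fintype.card F : ZMod r) ^ (d - s - 1) = -1 := by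
  have h' := dvd_mul_of_dvd_left h (hypCount (Fintype.card F) μ μ)
  rw [card_hypSub_mul hnd hp hd hμ, hypCount, hr.out.prime.dvd_finset_prod_iff] at h'
  obtain ⟨s, hs, hj⟩ := h'
  refine ⟨s, Finset.mem_range.1 hs, ?_⟩
  rcases hr.out.dvd_mul.1 hj with hj | hj
  · rcases hr.out.dvd_mul.1 hj with hj | hj
    · left
      rw [← ZMod.natCast_eq_zero_iff, Nat.cast_sub (Nat.one_le_pow _ _ Fintype.card_pos), Nat.cast_pow, Nat.cast_one,
        sub_eq_zero] at hj
      exact hj
    · right
      rw [← ZMod.natCast_eq_zero_iff, Nat.cast_add, Nat.cast_pow, Nat.cast_one] at hj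
      exact eq_neg_of_add_eq_zero_left hj
  · exact absurd (hr.out.dvd_of_dvd_pow hj) hrq

end CfsgLib.PrimeFix.Quad
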