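import Mathlib
import Cfsg.Agent.Lib.PrimeFix.Kinds
import Cfsg.Agent.Lib.SympGeom.Basic

/-!
Symplectic tools: isotropic subspaces of nondegenerate subspaces, invariant ones of a complex structure, the
divisors of the number of totally isotropic subspaces, and block elements of prime order.
-/

set_option autoImplicit false

namespace CfsgLib.PrimeFix.Symp

open Module Cfsg CfsgLib.Linear.Symp CfsgLib.SympGeom

section Alt

variable {F : Type*} [Field F] {V : Type*} [AddCommGroup V] [Module F V] [FiniteDimensional F V]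
variable {B : LinearMap.BilinForm F V}

/-- Isotropic subspaces of a nondegenerate subspace. -/
theorem exists_isotropic_alt (hA : B.IsAlt) (W : Submodule F V)
    (hnd : ∀ u ∈ W, (∀ w ∈ W, B u w = 0) → u = 0) :
    Even (finrank F W) ∧ ∀ l, 2 * l ≤ finrank F W →
      ∃ U : Submodule F V, U ≤ W ∧ Isotropic B U ∧ finrank F U = l := by
  obtain ⟨m, k, b, hd, hspan, -, h11, -, hrad⟩ := Forms.exists_symplectic_family B hA _ W rfl
  have hmem : ∀ x, b x ∈ W := fun x => hspan ▸ Submodule.subset_span ⟨x, rfl⟩
  have hli : LinearIndependent F b := by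
    rw [linearIndependent_iff_card_eq_finrank_span, Set.finrank, hspan]
    simp; omega
  have hk : k = 0 := by
    by_contra hk
    exact hli.ne_zero (.inr ⟨0, by omega⟩) (hnd _ (hmem _) (hrad _))
  refine ⟨⟨m, by omega⟩, fun l hl => ?_⟩
  have hlm : l ≤ m := by omega
  let t : Fin l → V := fun j => b (.inl (.inl (Fin.castLE hlm j)))
  have ht : LinearIndependent F t :=
    hli.comp _ (fun a c h => Fin.castLE_injective hlm (Sum.inl_injective (Sum.inl_injective h)))
  refine ⟨Submodule.span F (Set.range t), ?_, ?_, by rw [finrank_span_eq_card ht, Fintype.card_fin]⟩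
  · rw [Submodule.span_le]; rintro _ ⟨j, rfl⟩; exact hmem _
  · intro u hu w hw
    induction hu using Submodule.span_induction with
    | mem z hz =>
      obtain ⟨i, rfl⟩ := hz
      induction hw using Submodule.span_induction with
      | mem z hz => obtain ⟨j, rfl⟩ := hz; exact h11 _ _
      | zero => simp
      | add a c _ _ ha hc => rw [map_add, ha, hc, add_zero]
      | smul c a _ ha => rw [map_smul, ha, smul_zero]
    | zero => simp
    | add a c _ _ ha hc => rw [map_add, LinearMap.add_apply, ha, hc, add_zero]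
    | smul c a _ ha => rw [map_smul, LinearMap.smul_apply, ha, smul_zero]

/-- A map squaring to a nonsquare scalar and preserving the form has invariant isotropic subspaces of every even
dimension up to half. -/
theorem exists_complex_isotropic [Fintype F] (h2 : ringChar F ≠ 2) (hA : B.IsAlt) {z : F} (hz : ¬ IsSquare z)
    (hzz : z * z = 1) {J : Module.End F V} (hJ : ∀ v, J (J v) = z • v) (hB : ∀ u w, B (J u) (J w) = B u w) :
    ∀ j, 4 * j ≤ finrank F V → ∃ U : Submodule F V, (∀ u ∈ U, J u ∈ U) ∧ Isotropic B U ∧ finrank F U = 2 * j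
  | 0, _ => ⟨⊥, fun u hu => by simp [(Submodule.mem_bot F).1 hu],
      fun u hu w _ => by simp [(Submodule.mem_bot F).1 hu], by simp⟩
  | j + 1, hj => by
    obtain ⟨U, hJU, hiso, hdU⟩ := exists_complex_isotropic h2 hA hz hzz hJ hB j (by omega)
    set W := U.orthogonalBilin B
    have hdW : finrank F V ≤ finrank F W + finrank F U := by
      have := finrank_le_orth_add B ⊤ U
      rwa [finrank_top, top_inf_eq] at this
    obtain ⟨C, hC⟩ := Submodule.exists_isCompl U
    have hdC : 3 ≤ finrank F ↥(W ⊓ C) := by
      have h1 := Submodule.finrank_sup_add_finrank_inf_eq W C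
      have h2 := Submodule.finrank_le (W ⊔ C)
      have h3 := Submodule.finrank_sup_add_finrank_inf_eq U C
      rw [hC.sup_eq_top, hC.inf_eq_bot, finrank_bot, finrank_top] at h3
      omega
    have hskew : ∀ a b, B b a = -B a b := fun a b => by
      have h := hA (a + b)
      simp only [map_add, LinearMap.add_apply, hA a, hA b, zero_add, add_zero] at h
      linear_combination h
    have hz1 : z = -1 := by
      rcases mul_self_eq_one_iff.1 hzz with h | h
      · exact absurd ⟨1, by rw [h, one_mul]⟩ hz
      · exact h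
    let φ : LinearMap.BilinForm F ↥(W ⊓ C) := (B.compl₂ J).domRestrict₁₂ _ _
    have hφ : ∀ a b, φ a b = φ b a := fun a b => by
      show B (a : V) (J b) = B (b : V) (J a)
      rw [← hB (a : V) (J b), hJ, map_smul, hskew (b : V) (J a), hskew (J a) b, hz1, neg_neg]
      simp [hskew (J a) b]
    have hiso0 : ∃ v : ↥(W ⊓ C), v ≠ 0 ∧ φ v v = 0 := by
      obtain ⟨v, hv⟩ : ∃ v : ↥(W ⊓ C), v ≠ 0 := by
        haveI : Nontrivial ↥(W ⊓ C) := Module.nontrivial_of_finrank_pos (R := F) (by omega)
        exact exists_ne 0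
      by_cases hvv : φ v v = 0
      · exact ⟨v, hv, hvv⟩
      set S₁ := LinearMap.ker (φ v)
      have hd1 : 2 ≤ finrank F S₁ := by
        show 2 ≤ finrank F (LinearMap.ker (φ v))
        have h := (φ v).finrank_range_add_finrank_ker
        have h' := Submodule.finrank_le (LinearMap.range (φ v))
        rw [Module.finrank_self] at h'
        omega
      obtain ⟨w, hw, hw0⟩ := Submodule.exists_mem_ne_zero_of_ne_bot (p := S₁) (fun h => by rw [h, finrank_bot] at hd1; omega)
      by_cases hww : φ w w = 0
      · exact ⟨w, hw0, hww⟩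
      set S₂ := S₁ ⊓ LinearMap.ker (φ w)
      have hd2 : 1 ≤ finrank F S₂ := by
        have h := ((φ w).comp S₁.subtype).finrank_range_add_finrank_ker
        have h' := Submodule.finrank_le (LinearMap.range ((φ w).comp S₁.subtype))
        rw [Module.finrank_self] at h'
        have h'' : finrank F (LinearMap.ker ((φ w).comp S₁.subtype)) ≤ finrank F S₂ := by
          rw [← Submodule.finrank_map_subtype_eq]
          refine Submodule.finrank_mono ?_
          rintro x ⟨s, hs, rfl⟩
          exact ⟨s.2, hs⟩
        omega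
      obtain ⟨u, hu, hu0⟩ := Submodule.exists_mem_ne_zero_of_ne_bot (p := S₂) (fun h => by rw [h, finrank_bot] at hd2; omega)
      obtain ⟨a, b, hab⟩ := FiniteField.exists_root_sum_quadratic
        (f := Polynomial.C (φ v v) * Polynomial.X ^ 2) (g := Polynomial.C (φ w w) * Polynomial.X ^ 2 + Polynomial.C (φ u u))
        (by rw [Polynomial.degree_C_mul_X_pow 2 hvv]; rfl)
        (by rw [Polynomial.degree_add_C (by rw [Polynomial.degree_C_mul_X_pow 2 hww]; decide),
              Polynomial.degree_C_mul_X_pow 2 hww]; rfl)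
        (FiniteField.odd_card_of_char_ne_two h2)
      simp at hab
      have hvw : φ v w = 0 := hw
      have hvu : φ v u = 0 := hu.1
      have hwu : φ w u = 0 := hu.2
      refine ⟨a • v + b • w + u, fun h => hu0 ?_, ?_⟩
      · have h1 := congrArg (φ v) h
        have h2' := congrArg (φ w) h
        simp [hvw, hvu, hwu, hφ w v, hvv, hww] at h1 h2'
        simpa [h1, h2'] using h
      · simp [hvw, hvu, hwu, hφ w v, hφ u v, hφ u w]
        linear_combination hab
    obtain ⟨⟨v, hvW, hvC⟩, hv0, hvv⟩ := hiso0
    have hvv' : B v (J v) = 0 := hvv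
    have hJWmem : ∀ x ∈ W, J x ∈ W := fun x hx u hu => by
      show B u (J x) = 0
      have h : u = J (z • J u) := by rw [map_smul, hJ, smul_smul, hzz, one_smul]
      rw [h, hB]
      exact hx _ (U.smul_mem _ (hJU u hu))
    have hvne : v ≠ 0 := fun h => hv0 (Subtype.ext h)
    have hvU : v ∉ U := fun h => hvne ((Submodule.disjoint_def.1 hC.disjoint) v h hvC)
    have hli : LinearIndependent F ![v, J v] := by
      rw [LinearIndependent.pair_iff' hvne]
      intro a ha
      refine hz ⟨a, smul_left_injective F hvne ?_⟩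
      show z • v = (a * a) • v
      rw [← hJ, ← ha, map_smul, ← ha, smul_smul]
    set P := Submodule.span F (Set.range ![v, J v])
    have hPmem : ∀ x ∈ P, ∃ a b : F, x = a • v + b • J v := fun x hx => by
      obtain ⟨c, rfl⟩ := (Submodule.mem_span_range_iff_exists_fun F).1 hx
      exact ⟨c 0, c 1, by simp⟩
    have hdisj : U ⊓ P = ⊥ := (Submodule.eq_bot_iff _).2 fun x hx => by
      obtain ⟨a, b, rfl⟩ := hPmem x hx.2
      have h1 : J (a • v + b • J v) ∈ U := hJU _ hx.1
      rw [map_add, map_smul, map_smul, hJ] at h1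
      have h2' : (a * a - z * (b * b)) • v ∈ U := by
        have h := U.sub_mem (U.smul_mem a hx.1) (U.smul_mem b h1)
        convert h using 1
        simp only [smul_add, smul_smul]
        module
      have h3 : a * a - z * (b * b) = 0 := by
        by_contra hne
        exact hvU ((U.smul_mem_iff hne).1 h2')
      rcases eq_or_ne b 0 with rfl | hb
      · obtain rfl : a = 0 := by simpa using h3
        simp
      · exact absurd ⟨a / b, by field_simp; linear_combination -h3⟩ hz
    refine ⟨U ⊔ P, fun x hx => ?_, ?_, ?_⟩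
    · obtain ⟨u, hu, w, hw, rfl⟩ := Submodule.mem_sup.1 hx
      obtain ⟨a, b, rfl⟩ := hPmem w hw
      rw [map_add]
      refine Submodule.add_mem_sup (hJU u hu) ?_
      rw [map_add, map_smul, map_smul, hJ, smul_smul, add_comm]
      exact P.add_mem (P.smul_mem _ (Submodule.subset_span ⟨0, rfl⟩)) (P.smul_mem _ (Submodule.subset_span ⟨1, rfl⟩))
    · intro x hx y hy
      obtain ⟨u, hu, w, hw, rfl⟩ := Submodule.mem_sup.1 hx
      obtain ⟨u', hu', w', hw', rfl⟩ := Submodule.mem_sup.1 hy
      obtain ⟨a, b, rfl⟩ := hPmem w hw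
      obtain ⟨a', b', rfl⟩ := hPmem w' hw'
      have e1 : ∀ x ∈ U, B x v = 0 := fun x hx => hvW x hx
      have e2 : ∀ x ∈ U, B x (J v) = 0 := fun x hx => hJWmem v hvW x hx
      have e3 : B (J v) v = 0 := by rw [hskew, hvv', neg_zero]
      simp [hiso u hu u' hu', e1 u hu, e2 u hu, hskew u' v, hskew u' (J v), e1 u' hu', e2 u' hu', hA v, hA (J v),
        hvv', e3]
    · have h := Submodule.finrank_sup_add_finrank_inf_eq U P
      rw [hdisj, finrank_bot, add_zero, hdU, finrank_span_eq_card hli, Fintype.card_fin] at h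
      omega

end Alt

variable {F : Type*} [Field F] [Fintype F] {d : ℕ}

/-- The number of totally isotropic subspaces, times a product. -/
theorem card_count_eq {m : ℕ} (hm : m ≤ d) :
    Nat.card {W : Submodule F (Fin d ⊕ Fin d → F) // finrank F ↥W = m ∧ (∀ u ∈ W, ∀ v ∈ W, sympForm d F u v = 0)} *
        ∏ j : Fin m, (Fintype.card F ^ (m - j) - 1) =
      ∏ j : Fin m, (Fintype.card F ^ (2 * (d - j)) - 1) := by
  have h := card_tuples_eq (F := F) m
    (fun W : Submodule F (Fin d ⊕ Fin d → F) => ∀ u ∈ W, ∀ v ∈ W, sympForm d F u v = 0)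
  have hiso : Nat.card (IsoTuple d F m) = Nat.card {t : Fin m → (Fin d ⊕ Fin d → F) // LinearIndependent F t ∧
      ∀ u ∈ Submodule.span F (Set.range t), ∀ v ∈ Submodule.span F (Set.range t), sympForm d F u v = 0} := by
    refine Nat.card_congr (Equiv.subtypeEquivRight fun t => and_congr_right fun _ => ?_)
    constructor
    · intro hp u hu v hv
      rw [← sympBilin_apply]
      induction hu using Submodule.span_induction with
      | mem z hz =>
        obtain ⟨i, rfl⟩ := hz
        induction hv using Submodule.span_induction with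
        | mem z hz => obtain ⟨j, rfl⟩ := hz; exact hp i j
        | zero => simp [form_zero_right]
        | add a c _ _ ha hc => rw [map_add, ha, hc, add_zero]
        | smul c a _ ha => rw [map_smul, ha, smul_zero]
      | zero => simp [form_zero_left]
      | add a c _ _ ha hc => rw [map_add, LinearMap.add_apply, ha, hc, add_zero]
      | smul c a _ ha => rw [map_smul, LinearMap.smul_apply, ha, smul_zero]
    · exact fun hp i j => hp _ (Submodule.subset_span ⟨i, rfl⟩) _ (Submodule.subset_span ⟨j, rfl⟩)
  rw [← hiso, card_isoTuple hm, Finset.prod_range] at h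
  have h1 : ∀ j : Fin m, Fintype.card F ^ (2 * d - (j : ℕ)) - Fintype.card F ^ (j : ℕ) =
      Fintype.card F ^ (j : ℕ) * (Fintype.card F ^ (2 * (d - j)) - 1) := fun j => by
    have := j.2
    rw [Nat.mul_sub, mul_one, ← pow_add, show (j : ℕ) + 2 * (d - j) = 2 * d - j by omega]
  have h2 : ∀ j : Fin m, Fintype.card F ^ m - Fintype.card F ^ (j : ℕ) =
      Fintype.card F ^ (j : ℕ) * (Fintype.card F ^ (m - j) - 1) := fun j => by
    have := j.2
    rw [Nat.mul_sub, mul_one, ← pow_add, show (j : ℕ) + (m - j) = m by omega]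
  simp only [h1, h2, Finset.prod_mul_distrib] at h
  rw [mul_left_comm] at h
  exact (Nat.eq_of_mul_eq_mul_left (Finset.prod_pos fun j _ => pow_pos Fintype.card_pos _) h).symm

/-- The characteristic does not divide the number of totally isotropic subspaces. -/
theorem not_char_dvd {p : ℕ} [Fact p.Prime] [CharP F p] {m : ℕ} (hm : m ≤ d) :
    ¬ p ∣ Nat.card {W : Submodule F (Fin d ⊕ Fin d → F) // finrank F ↥W = m ∧ (∀ u ∈ W, ∀ v ∈ W, sympForm d F u v = 0)} := by
  intro hdvd
  have h := dvd_mul_of_dvd_left hdvd (∏ j : Fin m, (Fintype.card F ^ (m - j) - 1))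
  rw [card_count_eq hm, (Fact.out : p.Prime).prime.dvd_finset_prod_iff] at h
  obtain ⟨j, -, hj⟩ := h
  obtain ⟨n, hp, hn⟩ := FiniteField.card F p
  have h1 : 1 ≤ Fintype.card F ^ (2 * (d - j)) := Nat.one_le_pow _ _ Fintype.card_pos
  have h2 : p ∣ Fintype.card F ^ (2 * (d - (j : ℕ))) := by
    rw [hn]
    exact dvd_pow (dvd_pow_self p n.ne_zero) (by have := j.2; omega)
  have := Nat.dvd_sub h2 hj
  rw [Nat.sub_sub_self h1] at this
  exact hp.ne_one (Nat.dvd_one.1 this)

variable {r : ℕ} [hr : Fact r.Prime]

/-- A prime dividing the number of totally isotropic subspaces has small order. -/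
theorem exists_ord_dvd {m : ℕ} (hm : m ≤ d)
    (h : r ∣ Nat.card {W : Submodule F (Fin d ⊕ Fin d → F) // finrank F ↥W = m ∧ (∀ u ∈ W, ∀ v ∈ W, sympForm d F u v = 0)}) :
    ∃ j < m, orderOf (Fintype.card F : ZMod r) ∣ 2 * (d - j) := by
  have h' := dvd_mul_of_dvd_left h (∏ j : Fin m, (Fintype.card F ^ (m - j) - 1))
  rw [card_count_eq hm, hr.out.prime.dvd_finset_prod_iff] at h'
  obtain ⟨j, -, hj⟩ := h'
  exact ⟨j, j.2, (LinFix.dvd_pow_sub_one_iff Fintype.card_pos _).1 hj⟩

end CfsgLib.PrimeFix.Symp
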