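import Mathlib
import Cfsg.Agent.Lib.PrimeFix.Symp

/-!
Block symplectic elements of prime order with few invariant totally isotropic subspaces.
-/

set_option autoImplicit false

namespace CfsgLib.PrimeFix.Symp

open Module Cfsg CfsgLib.Linear.Symp CfsgLib.SympGeom Polynomial

variable {F : Type*} [Field F] [Fintype F] {r : ℕ} [hr : Fact r.Prime]

theorem fpf_pow {V : Type*} [AddCommGroup V] [Module F V] {y : Module.End F V} (hy : y ^ r = 1) (hfree : Fpf y ⊤)
    {e : ℕ} (he : (e : ZMod r) ≠ 0) : Fpf (y ^ e) ⊤ := by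
  intro w _ hw
  refine hfree w trivial ?_
  have hm : (y ^ e) ^ ((e : ZMod r)⁻¹).val = y := by
    rw [← pow_mul]
    conv_rhs => rw [← pow_one y]
    refine pow_eq_pow_of_modEq ?_ hy
    rw [← ZMod.natCast_eq_natCast_iff, Nat.cast_mul, ZMod.natCast_zmod_val, mul_inv_cancel₀ he, Nat.cast_one]
  have hk : ∀ k : ℕ, ((y ^ e) ^ k) w = w := fun k => by
    induction k with
    | zero => rfl
    | succ k ih => rw [pow_succ, Module.End.mul_apply, hw, ih]
  conv_lhs => rw [← hm]
  exact hk _

/-- An irreducible symplectic block. -/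
theorem exists_block_even (hrF : (r : F) ≠ 0) {h : ℕ} (hi : orderOf (Fintype.card F : ZMod r) = 2 * h) :
    ∃ y : Module.End F (Fin h ⊕ Fin h → F), (∀ u w, sympForm h F (y u) (y w) = sympForm h F u w) ∧ y ^ r = 1 ∧
      y ≠ 1 ∧ Fpf y ⊤ := by
  have hpos : 0 < h := by have := ord_pos (F := F) hrF; omega
  haveI : Finite (Matrix.symplecticGroup (Fin h) F) := inferInstance
  obtain ⟨A, hA⟩ := exists_prime_orderOf_dvd_card' (G := Matrix.symplecticGroup (Fin h) F) r (by
    rw [card_symplectic]
    refine dvd_mul_of_dvd_right (dvd_trans ?_ (Finset.dvd_prod_of_mem _ (Finset.mem_range.2 (show h - 1 < h by omega)))) _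
    refine (LinFix.dvd_pow_sub_one_iff Fintype.card_pos _).2 ?_
    rw [hi, show h - 1 + 1 = h by omega])
  have hy1 : Matrix.toLin' A.1 ≠ 1 := fun h1 => hr.out.ne_one (by
    rw [← hA, orderOf_eq_one_iff]
    exact Subtype.ext (Matrix.toLin'.injective (h1.trans (Matrix.toLin'_one).symm)))
  have hyr : Matrix.toLin' A.1 ^ r = 1 := by
    rw [← Matrix.toLin'_pow, ← SubmonoidClass.coe_pow, ← hA, pow_orderOf_eq_one]
    exact Matrix.toLin'_one
  exact ⟨Matrix.toLin' A.1, fun u w => by simp only [Matrix.toLin'_apply]; exact form_mulVec A.2 u w, hyr, hy1,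
    fpf_of_finrank_eq hrF hyr hy1 (by rw [finrank_space, hi])⟩

/-- A hyperbolic block for odd order. -/
theorem exists_block_odd (hrF : (r : F) ≠ 0) {h : ℕ} (hi : orderOf (Fintype.card F : ZMod r) = h) :
    ∃ y : Module.End F (Fin h ⊕ Fin h → F), (∀ u w, sympForm h F (y u) (y w) = sympForm h F u w) ∧ y ^ r = 1 ∧
      y ≠ 1 ∧ Fpf y ⊤ := by
  have hpos : 0 < h := hi ▸ ord_pos hrF
  obtain ⟨M, hM⟩ := exists_prime_orderOf_dvd_card' (G := GL (Fin h) F) r (by
    rw [Matrix.card_GL_field]
    refine dvd_trans ?_ (Finset.dvd_prod_of_mem _ (Finset.mem_univ (⟨0, hpos⟩ : Fin h)))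
    simpa using (LinFix.dvd_pow_sub_one_iff Fintype.card_pos h).2 hi.dvd)
  set N : Matrix (Fin h) (Fin h) F := ((M⁻¹ : GL (Fin h) F) : Matrix (Fin h) (Fin h) F).transpose with hN
  let A : Matrix (Fin h ⊕ Fin h) (Fin h ⊕ Fin h) F := Matrix.fromBlocks (M : Matrix (Fin h) (Fin h) F) 0 0 N
  have hpres : ∀ u w : Fin h → F, (N.mulVec u) ⬝ᵥ ((M : Matrix (Fin h) (Fin h) F).mulVec w) = u ⬝ᵥ w := fun u w => by
    rw [hN, Matrix.mulVec_transpose, ← Matrix.dotProduct_mulVec, Matrix.mulVec_mulVec, ← Units.val_mul,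
      inv_mul_cancel, Units.val_one, Matrix.one_mulVec]
  have hform : ∀ u w, sympForm h F (Matrix.toLin' A u) (Matrix.toLin' A w) = sympForm h F u w := fun u w => by
    simp only [Matrix.toLin'_apply, sympForm_eq_sum, Finset.sum_sub_distrib, A, Matrix.fromBlocks_mulVec,
      Sum.elim_inl, Sum.elim_inr, Matrix.zero_mulVec, add_zero, zero_add]
    change (N.mulVec _ ⬝ᵥ (M : Matrix (Fin h) (Fin h) F).mulVec _) -
      ((M : Matrix (Fin h) (Fin h) F).mulVec _ ⬝ᵥ N.mulVec _) = _
    rw [hpres, dotProduct_comm ((M : Matrix (Fin h) (Fin h) F).mulVec _), hpres]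
    simp [dotProduct, mul_comm]
  have hpow : ∀ k, A ^ k = Matrix.fromBlocks ((M ^ k : GL (Fin h) F) : Matrix (Fin h) (Fin h) F) 0 0
      ((((M ^ k)⁻¹ : GL (Fin h) F) : Matrix (Fin h) (Fin h) F).transpose) := fun k => by
    induction k with
    | zero => simp [Matrix.fromBlocks_one]
    | succ k ih =>
      rw [pow_succ, ih, Matrix.fromBlocks_multiply]
      simp [hN, pow_succ, ← Matrix.transpose_mul, mul_inv_rev]
  have hfree : ∀ (B : Matrix (Fin h) (Fin h) F), B ^ r = 1 → B ≠ 1 → Fpf (Matrix.toLin' B) ⊤ := fun B hB hB1 =>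
    fpf_of_finrank_eq hrF (by rw [← Matrix.toLin'_pow, hB]; exact Matrix.toLin'_one)
      (fun h1 => hB1 (Matrix.toLin'.injective (h1.trans Matrix.toLin'_one.symm)))
      (by rw [Module.finrank_fintype_fun_eq_card, Fintype.card_fin, hi])
  have hM1 : (M : Matrix (Fin h) (Fin h) F) ≠ 1 := fun h1 => hr.out.ne_one (by
    rw [← hM, orderOf_eq_one_iff]; exact Units.ext h1)
  have hMr : M ^ r = 1 := hM ▸ pow_orderOf_eq_one M
  refine ⟨Matrix.toLin' A, hform, ?_, fun h1 => hM1 ?_, fun v _ hv => ?_⟩
  · rw [← Matrix.toLin'_pow, hpow, hMr]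
    simp [Matrix.fromBlocks_one, Module.End.one_eq_id]
  · have := Matrix.toLin'.injective (h1.trans Matrix.toLin'_one.symm)
    exact (Matrix.fromBlocks_inj.1 (this.trans Matrix.fromBlocks_one.symm)).1
  · rw [Matrix.toLin'_apply, Matrix.fromBlocks_mulVec] at hv
    have hl := congrArg (fun f => f ∘ Sum.inl) hv
    have hrr := congrArg (fun f => f ∘ Sum.inr) hv
    simp only [Sum.elim_comp_inl, Sum.elim_comp_inr, Matrix.zero_mulVec, add_zero, zero_add] at hl hrr
    have e1 := hfree _ (by rw [← Units.val_pow_eq_pow_val, hMr]; rfl) hM1 (v ∘ Sum.inl) trivial hl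
    have e2 := hfree N (by rw [hN, ← Matrix.transpose_pow, ← Units.val_pow_eq_pow_val, inv_pow, hMr]; simp)
      (fun h1 => hM1 (by
        rw [hN] at h1
        have := congrArg Matrix.transpose h1
        rw [Matrix.transpose_transpose, Matrix.transpose_one] at this
        calc (M : Matrix (Fin h) (Fin h) F) = (M : Matrix (Fin h) (Fin h) F) * ((M⁻¹ : GL (Fin h) F) : Matrix (Fin h) (Fin h) F) := by
              rw [this, mul_one]
          _ = 1 := by rw [← Units.val_mul, mul_inv_cancel]; rfl))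
      (v ∘ Sum.inr) trivial hrr
    funext x
    rcases x with x | x
    · exact congrFun e1 x
    · exact congrFun e2 x

/-- A block element whose invariant totally isotropic subspaces are small. -/
theorem exists_bad (hrF : (r : F) ≠ 0) (hr2 : r ≠ 2) {d k₀ h a : ℕ} (hd : k₀ + a * h = d) (ha : 0 < a)
    {y : Module.End F (Fin h ⊕ Fin h → F)} (hy : ∀ u w, sympForm h F (y u) (y w) = sympForm h F u w)
    (hyr : y ^ r = 1) (hy1 : y ≠ 1) (hfree : Fpf y ⊤) (e : Fin a → ℕ) (he : ∀ l, (e l : ZMod r) ≠ 0)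
    (L : Finset (Fin a))
    (hL : ∀ l ∈ L, orderOf (Fintype.card F : ZMod r) = 2 * h ∧
      ∀ l', l' ≠ l → ∀ n : ℕ, (e l : ZMod r) ≠ e l' * (Fintype.card F : ZMod r) ^ n) :
    ∃ T : Module.End F (Fin d ⊕ Fin d → F), (∀ u w, sympForm d F (T u) (T w) = sympForm d F u w) ∧ T ^ r = 1 ∧
      (∀ c : F, ∃ v, T v ≠ c • v) ∧ ∀ W : Submodule F (Fin d ⊕ Fin d → F), (∀ w ∈ W, T w ∈ W) →
        (∀ u ∈ W, ∀ w ∈ W, sympForm d F u w = 0) →
        ∃ c j : ℕ, finrank F W = c + j * orderOf (Fintype.card F : ZMod r) ∧ c ≤ k₀ ∧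
          j * orderOf (Fintype.card F : ZMod r) ≤ (a - L.card) * h := by
  classical
  let e₀ : Fin k₀ ⊕ Fin a × Fin h ≃ Fin d :=
    ((Equiv.refl _).sumCongr finProdFinEquiv).trans (finSumFinEquiv.trans (finCongr hd))
  let E : ((Fin k₀ ⊕ Fin k₀ → F) × (Fin a → Fin h ⊕ Fin h → F)) ≃ₗ[F] (Fin d ⊕ Fin d → F) :=
    { toFun := fun p => Sum.elim
        (fun n => Sum.elim (fun k => p.1 (.inl k)) (fun q => p.2 q.1 (.inl q.2)) (e₀.symm n))
        (fun n => Sum.elim (fun k => p.1 (.inr k)) (fun q => p.2 q.1 (.inr q.2)) (e₀.symm n))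
      map_add' := fun p p' => funext fun x => by
        rcases x with n | n <;> rcases hn : e₀.symm n with k | q <;> simp [hn]
      map_smul' := fun c p => funext fun x => by
        rcases x with n | n <;> rcases hn : e₀.symm n with k | q <;> simp [hn]
      invFun := fun v => (Sum.elim (fun k => v (.inl (e₀ (.inl k)))) (fun k => v (.inr (e₀ (.inl k)))),
        fun l => Sum.elim (fun t => v (.inl (e₀ (.inr (l, t))))) (fun t => v (.inr (e₀ (.inr (l, t))))))
      left_inv := fun p => by
        refine Prod.ext (funext fun x => ?_) (funext fun l => funext fun x => ?_) <;> rcases x with k | k <;> simp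
      right_inv := fun v => funext fun x => by
        rcases x with n | n <;> obtain ⟨z, rfl⟩ := e₀.surjective n <;> rcases z with k | ⟨l, t⟩ <;> simp }
  have hE : ∀ p p', sympForm d F (E p) (E p') = sympForm k₀ F p.1 p'.1 + ∑ l, sympForm h F (p.2 l) (p'.2 l) := by
    intro p p'
    simp only [sympForm_eq_sum]
    rw [← e₀.sum_comp, Fintype.sum_sum_type, Fintype.sum_prod_type]
    simp [E]
  let S : Module.End F ((Fin k₀ ⊕ Fin k₀ → F) × (Fin a → Fin h ⊕ Fin h → F)) :=
    LinearMap.prodMap LinearMap.id (LinearMap.pi fun l => (y ^ e l).comp (LinearMap.proj l))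
  let T : Module.End F (Fin d ⊕ Fin d → F) := E.toLinearMap.comp (S.comp E.symm.toLinearMap)
  have hTE : ∀ p, T (E p) = E (p.1, fun l => (y ^ e l) (p.2 l)) := fun p => by simp [T, S]; rfl
  have hTk : ∀ (k : ℕ) p, (T ^ k) (E p) = E (p.1, fun l => ((y ^ e l) ^ k) (p.2 l)) := fun k => by
    induction k with
    | zero => intro p; simp
    | succ k ih => intro p; rw [pow_succ, Module.End.mul_apply, hTE, ih]; simp [pow_succ, Module.End.mul_apply]
  have hye : ∀ l u w, sympForm h F ((y ^ e l) u) ((y ^ e l) w) = sympForm h F u w := fun l => by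
    induction e l with
    | zero => simp
    | succ k ih => intro u w; rw [pow_succ', Module.End.mul_apply, Module.End.mul_apply, hy, ih]
  have hyer : ∀ l, (y ^ e l) ^ r = 1 := fun l => by rw [← pow_mul, mul_comm, pow_mul, hyr, one_pow]
  have hye1 : ∀ l, Fpf (y ^ e l) ⊤ := fun l => fpf_pow hyr hfree (he l)
  have hTr : T ^ r = 1 := LinearMap.ext fun v => by
    obtain ⟨p, rfl⟩ := E.surjective v
    rw [hTk]
    simp [hyer]
  have hTform : ∀ u w, sympForm d F (T u) (T w) = sympForm d F u w := fun u w => by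
    obtain ⟨p, rfl⟩ := E.surjective u
    obtain ⟨p', rfl⟩ := E.surjective w
    rw [hTE, hTE, hE, hE]
    simp [hye]
  refine ⟨T, hTform, hTr, fun c => ?_, fun W hW hiso => ?_⟩
  · by_contra hc
    push Not at hc
    obtain ⟨u, hu⟩ : ∃ u, y u ≠ u := by
      by_contra hh
      push Not at hh
      exact hy1 (LinearMap.ext hh)
    set l : Fin a := ⟨0, ha⟩
    obtain ⟨w, hw⟩ : ∃ w, (y ^ e l) w ≠ w := ⟨u, fun hh => hu (by
      rw [hye1 l u trivial hh]; simp)⟩
    have hwne : w ≠ 0 := fun h0 => hw (by rw [h0, map_zero])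
    have hcr : c ^ r = 1 := by
      have hk : ∀ k : ℕ, (T ^ k) (E (0, Pi.single l w)) = c ^ k • E (0, Pi.single l w) := fun k => by
        induction k with
        | zero => simp
        | succ k ih => rw [pow_succ, Module.End.mul_apply, hc, map_smul, ih, smul_smul, pow_succ']
      have := hk r
      rw [hTr, Module.End.one_apply, ← map_smul, E.injective.eq_iff] at this
      have h2 := congrFun (congrArg Prod.snd this) l
      simp at h2
      exact smul_left_injective F hwne (show c ^ r • w = (1 : F) • w by rw [one_smul]; exact h2.symm)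
    obtain ⟨u', hu'⟩ : ∃ u', sympForm h F w u' ≠ 0 := by
      by_contra hh
      push Not at hh
      exact hwne (eq_zero_of_forall_form hh)
    have hc2 : c ^ 2 = 1 := by
      have h0 := hTform (E (0, Pi.single l w)) (E (0, Pi.single l u'))
      rw [hc, hc, form_smul_left, form_smul_right, hE, Finset.sum_eq_single l
        (fun l' _ hne => by simp [hne, form_zero_left]) (by simp)] at h0
      simp [form_zero_left] at h0
      exact mul_right_cancel₀ hu' (by rw [one_mul]; linear_combination h0)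
    have hc1 : c = 1 := by
      obtain ⟨k, hk⟩ := hr.out.odd_of_ne_two hr2
      rwa [hk, pow_succ, pow_mul, hc2, one_pow, one_mul] at hcr
    have h3 := hc (E (0, Pi.single l w))
    rw [hTE, ← map_smul, E.injective.eq_iff, hc1] at h3
    have h4 := congrFun (congrArg Prod.snd h3) l
    simp at h4
    exact hw h4
  · have hWinv : Inv T W := hW
    let C₁ := W ⊓ LinearMap.ker (T - 1)
    let D₁ := W ⊓ LinearMap.ker (∑ k ∈ Finset.range r, T ^ k)
    have hC₁ : ∀ p, E p ∈ C₁ → p.2 = 0 := fun p hp => by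
      have h0 : T (E p) = E p := sub_eq_zero.1 hp.2
      rw [hTE, E.injective.eq_iff] at h0
      funext l
      exact hye1 l _ trivial (congrFun (congrArg Prod.snd h0) l)
    have hD₁ : ∀ p, E p ∈ D₁ → p.1 = 0 ∧ ∀ l, (∑ k ∈ Finset.range r, (y ^ e l) ^ k) (p.2 l) = 0 := fun p hp => by
      have h0 : (∑ k ∈ Finset.range r, T ^ k) (E p) = 0 := hp.2
      rw [LinearMap.sum_apply, Finset.sum_congr rfl (fun k _ => hTk k p), ← map_sum, E.map_eq_zero_iff] at h0
      refine ⟨?_, fun l => ?_⟩
      · have := congrArg Prod.fst h0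
        rw [Prod.fst_sum, Finset.sum_const, Finset.card_range, ← Nat.cast_smul_eq_nsmul F] at this
        exact (smul_eq_zero.1 this).resolve_left hrF
      · have := congrFun (congrArg Prod.snd h0) l
        simpa [Prod.snd_sum, Finset.sum_apply] using this
    have hsum : C₁ ⊔ D₁ = W := by
      refine le_antisymm (sup_le inf_le_left inf_le_left) fun w hw => ?_
      obtain ⟨c, hc, hc1, d', hd', hd1, rfl⟩ := exists_split hrF hTr hWinv hw
      exact Submodule.add_mem_sup ⟨hc, sub_eq_zero.2 hc1⟩ ⟨hd', hd1⟩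
    have hdisj : C₁ ⊓ D₁ = ⊥ := (Submodule.eq_bot_iff _).2 fun v hv => by
      obtain ⟨p, rfl⟩ := E.surjective v
      rw [show p = (0, 0) from Prod.ext (hD₁ p hv.2).1 (hC₁ p hv.1)]
      exact E.map_zero
    have hC : finrank F C₁ ≤ k₀ := by
      let π : C₁ →ₗ[F] (Fin k₀ ⊕ Fin k₀ → F) :=
        ((LinearMap.fst F _ _).comp E.symm.toLinearMap).comp C₁.subtype
      have hinj : Function.Injective π := by
        rw [← LinearMap.ker_eq_bot, Submodule.eq_bot_iff]
        rintro ⟨v, hv⟩ h0
        obtain ⟨p, rfl⟩ := E.surjective v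
        have hp1 : p.1 = 0 := by simpa [π] using LinearMap.mem_ker.1 h0
        refine Subtype.ext ?_
        show E p = 0
        rw [show p = (0, 0) from Prod.ext hp1 (hC₁ p hv)]
        exact E.map_zero
      have h2 : 2 * finrank F (LinearMap.range π) ≤ finrank F (Fin k₀ ⊕ Fin k₀ → F) := by
        refine two_mul_finrank_le (B := sympBilin k₀ F) (fun u hu => eq_zero_of_forall_form hu) ?_
        rintro x ⟨⟨v, hv⟩, rfl⟩ x' ⟨⟨v', hv'⟩, rfl⟩
        obtain ⟨p, rfl⟩ := E.surjective v
        obtain ⟨p', rfl⟩ := E.surjective v'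
        have h0 := hiso _ hv.1 _ hv'.1
        rw [hE, hC₁ p hv, hC₁ p' hv'] at h0
        simpa [π, form_zero_left] using h0
      rw [LinearMap.finrank_range_of_inj hinj, finrank_space] at h2
      omega
    have hDinv : Inv T D₁ := inv_inf hWinv (by
      have h : (∑ k ∈ Finset.range r, T ^ k) = aeval T (∑ k ∈ Finset.range r, (X : F[X]) ^ k) := by simp
      rw [h]; exact inv_ker_aeval _)
    have hDL : ∀ p, E p ∈ D₁ → ∀ l ∈ L, p.2 l = 0 := by
      intro p hp l hl
      obtain ⟨hi, hkind⟩ := hL l hl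
      obtain ⟨g, hginj, hg0⟩ := exists_separator hrF hyr hy1 (by rw [finrank_space, hi]) (a := e l) (he l)
        ((Finset.univ.erase l).image e) (fun b hb => by
          obtain ⟨l', hl', rfl⟩ := Finset.mem_image.1 hb
          exact ⟨he l', hkind l' (Finset.mem_erase.1 hl').1⟩)
      by_contra hpl
      have hgE : ∀ (g : F[X]) (q : (Fin k₀ ⊕ Fin k₀ → F) × (Fin a → Fin h ⊕ Fin h → F)),
          aeval T g (E q) = E (aeval (1 : Module.End F (Fin k₀ ⊕ Fin k₀ → F)) g q.1,
            fun l => aeval (y ^ e l) g (q.2 l)) := by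
        intro g q
        induction g using Polynomial.induction_on' with
        | add f g hf hg => simp only [map_add, LinearMap.add_apply, hf, hg]; rw [← map_add]; rfl
        | monomial k c =>
          simp only [aeval_monomial, Module.End.mul_apply, Module.algebraMap_end_apply, hTk, one_pow,
            Module.End.one_apply]
          rw [← map_smul]; rfl
      set z := aeval (y ^ e l) g (p.2 l)
      have hz : z ≠ 0 := fun h0 => hpl (hginj (h0.trans (map_zero _).symm))
      have hgp : E (0, Pi.single l z) ∈ D₁ := by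
        have hmem := inv_aeval hDinv g hp
        rw [hgE, (hD₁ p hp).1, map_zero] at hmem
        convert hmem using 3
        funext l'
        rcases eq_or_ne l' l with rfl | hne
        · simp [z]
        · simp [hne, hg0 (e l') (Finset.mem_image.2 ⟨l', Finset.mem_erase.2 ⟨hne, Finset.mem_univ _⟩, rfl⟩)]
      -- the block is irreducible, so the form vanishes on it
      let U : Submodule F (Fin h ⊕ Fin h → F) :=
        D₁.comap (E.toLinearMap.comp ((LinearMap.inr F _ _).comp (LinearMap.single F (fun _ : Fin a => Fin h ⊕ Fin h → F) l)))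
      have hUinv : Inv (y ^ e l) U := fun u hu => by
        have h1 := hDinv _ hu
        show E (0, Pi.single l ((y ^ e l) u)) ∈ D₁
        simp only [LinearMap.comp_apply, LinearEquiv.coe_coe, LinearMap.inr_apply] at h1
        rw [hTE] at h1
        convert h1 using 3
        funext l'
        rcases eq_or_ne l' l with rfl | hne <;> simp [*]
      obtain ⟨c, hc⟩ := ord_dvd_finrank (hyer l) hUinv ((hye1 l).mono le_top)
      have hUtop : U = ⊤ := by
        refine Submodule.eq_top_of_finrank_eq (le_antisymm (Submodule.finrank_le _) ?_)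
        rw [finrank_space, ← hi, hc]
        refine Nat.le_mul_of_pos_right _ (Nat.pos_of_ne_zero fun h0 => hz ?_)
        rw [h0, mul_zero, Submodule.finrank_eq_zero] at hc
        exact (Submodule.eq_bot_iff _).1 hc z hgp
      refine hz (eq_zero_of_forall_form fun u => ?_)
      have h0 := hiso _ (show E (0, Pi.single l z) ∈ D₁ from hgp).1 _
        ((show u ∈ U from hUtop ▸ trivial) : E (0, Pi.single l u) ∈ D₁).1
      simp only [LinearMap.comp_apply, LinearEquiv.coe_coe, LinearMap.inr_apply] at h0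
      rw [hE, Finset.sum_eq_single l (fun l' _ hne => by simp [hne, form_zero_left]) (by simp)] at h0
      simpa [form_zero_left] using h0
    obtain ⟨j, hj⟩ := ord_dvd_finrank hTr hDinv (fun v hv hfix => (Submodule.eq_bot_iff _).1 hdisj v
      ⟨⟨hv.1, sub_eq_zero.2 hfix⟩, hv⟩)
    have hD : finrank F D₁ ≤ (a - L.card) * h := by
      let L' := {l : Fin a // l ∉ L}
      let π : D₁ →ₗ[F] (L' → Fin h ⊕ Fin h → F) :=
        ((LinearMap.pi fun l : L' => LinearMap.proj l.1).comp ((LinearMap.snd F _ _).comp E.symm.toLinearMap)).comp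
          D₁.subtype
      have hinj : Function.Injective π := by
        rw [← LinearMap.ker_eq_bot, Submodule.eq_bot_iff]
        rintro ⟨v, hv⟩ h0
        obtain ⟨p, rfl⟩ := E.surjective v
        refine Subtype.ext ?_
        show E p = 0
        rw [E.map_eq_zero_iff]
        refine Prod.ext (hD₁ p hv).1 (funext fun l => ?_)
        by_cases hl : l ∈ L
        · exact hDL p hv l hl
        · have := congrFun (LinearMap.mem_ker.1 h0) ⟨l, hl⟩
          simpa [π] using this
      let BL : LinearMap.BilinForm F (L' → Fin h ⊕ Fin h → F) :=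
        ∑ l : L', (sympBilin h F).compl₁₂ (LinearMap.proj l) (LinearMap.proj l)
      have hBL : ∀ u w, BL u w = ∑ l : L', sympForm h F (u l) (w l) := fun u w => by
        simp [BL, LinearMap.sum_apply]
      have h2 : 2 * finrank F (LinearMap.range π) ≤ finrank F (L' → Fin h ⊕ Fin h → F) := by
        refine two_mul_finrank_le (B := BL) (fun u hu => funext fun l => eq_zero_of_forall_form fun w => ?_) ?_
        · have h0 := hu (Pi.single l w)
          rw [hBL, Finset.sum_eq_single l (fun l' _ hne => by simp [hne, form_zero_right]) (by simp)] at h0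
          simpa using h0
        rintro x ⟨⟨v, hv⟩, rfl⟩ x' ⟨⟨v', hv'⟩, rfl⟩
        obtain ⟨p, rfl⟩ := E.surjective v
        obtain ⟨p', rfl⟩ := E.surjective v'
        have h0 := hiso _ hv.1 _ hv'.1
        rw [hE, (hD₁ p hv).1, form_zero_left, zero_add, ← Finset.sum_add_sum_compl L,
          Finset.sum_eq_zero (fun l hl => by rw [hDL p hv l hl, form_zero_left]), zero_add] at h0
        rw [hBL, ← h0]
        simp [π]
        exact (Finset.sum_subtype Lᶜ (fun x => Finset.mem_compl) (fun l => sympForm h F (p.2 l) (p'.2 l))).symm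
      rw [LinearMap.finrank_range_of_inj hinj, Module.finrank_pi_fintype,
        Finset.sum_congr rfl (fun l _ => finrank_space), Finset.sum_const, Finset.card_univ,
        Fintype.card_subtype_compl, Fintype.card_fin, Fintype.card_coe, smul_eq_mul, mul_left_comm] at h2
      omega
    refine ⟨finrank F C₁, j, ?_, hC, ?_⟩
    · have h1 := Submodule.finrank_sup_add_finrank_inf_eq C₁ D₁
      rw [hsum, hdisj, finrank_bot, add_zero, hj] at h1
      rw [h1, mul_comm j]
    · rw [mul_comm j, ← hj]; exact hD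

end CfsgLib.PrimeFix.Symp
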