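import Mathlib
import Cfsg.Agent.Lib.PrimeFix.OrthSpaces
import Cfsg.Agent.Lib.PrimeFix.QuadFix
import Cfsg.Agent.Lib.PrimeFix.SympModel
import Cfsg.Agent.Lib.LinFix.OrthFieldMain

/-!
Block isometries of prime order with few invariant totally singular subspaces.
-/

set_option autoImplicit false

namespace CfsgLib.PrimeFix.Quad

open Module QuadraticMap Polynomial
open CfsgLib.Classical.Quad (NDPolar)
open CfsgLib.RootCount (IsPlus)

variable {F : Type*} [Field F] [Fintype F] {r : ℕ} [hr : Fact r.Prime]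

/-- An irreducible anisotropic block. -/
theorem exists_block_minus (hrF : (r : F) ≠ 0) {h : ℕ} (hh : 0 < h)
    (hi : orderOf (Fintype.card F : ZMod r) = 2 * h) :
    ∃ (R : QuadraticForm F (Fin (2 * h) → F)) (y : Module.End F (Fin (2 * h) → F)), NDPolar R ∧
      (∀ u, R (y u) = R u) ∧ y ^ r = 1 ∧ y ≠ 1 ∧ Fpf y ⊤ := by
  obtain ⟨a, b, hab⟩ := CfsgLib.RootCount.exists_aniso (F := F)
  obtain ⟨y, hy, hyr, hy1⟩ := CfsgLib.LinFix.OrthFieldMain.exists_minus_element hh hi hab
  let e : (Fin (h - 1) ⊕ Fin (h - 1)) ⊕ Fin 2 ≃ Fin (2 * h) := Fintype.equivFinOfCardEq (by simp; omega)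
  let E : (Fin (2 * h) → F) ≃ₗ[F] ((Fin (h - 1) ⊕ Fin (h - 1)) ⊕ Fin 2 → F) := LinearEquiv.funCongrLeft F F e
  let y' : Module.End F (Fin (2 * h) → F) := E.symm.toLinearMap ∘ₗ y ∘ₗ E.toLinearMap
  have hk : ∀ (k : ℕ) u, E ((y' ^ k) u) = (y ^ k) (E u) := fun k => by
    induction k with
    | zero => intro u; rfl
    | succ k ih => intro u; rw [pow_succ, Module.End.mul_apply, ih, pow_succ, Module.End.mul_apply]; simp [y']
  have hy'r : y' ^ r = 1 := LinearMap.ext fun u => E.injective (by rw [hk, hyr]; rfl)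
  have hy'1 : y' ≠ 1 := fun h0 => hy1 (LinearMap.ext fun u => by
    obtain ⟨w, rfl⟩ := E.surjective u
    have h1 := congrArg E (LinearMap.congr_fun h0 w)
    simpa [y'] using h1)
  refine ⟨(CfsgLib.LinFix.OrthFieldMain.minusQ (h - 1) F a b).comp E.toLinearMap, y',
    ndPolar_congr (fun x hx => (CfsgLib.LinFix.OrthFieldMain.minusQ_nd (h - 1) hab).1 x hx) E, fun u => ?_, hy'r,
    hy'1, fpf_of_finrank_eq hrF hy'r hy'1 (by simp [hi])⟩
  show CfsgLib.LinFix.OrthFieldMain.minusQ (h - 1) F a b (E (y' u)) = CfsgLib.LinFix.OrthFieldMain.minusQ (h - 1) F a b (E u)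
  rw [show E (y' u) = y (E u) by simp [y'], hy]

/-- A hyperbolic block. -/
theorem exists_block_hyp (hrF : (r : F) ≠ 0) {h : ℕ} (hi : orderOf (Fintype.card F : ZMod r) = h) :
    ∃ (R : QuadraticForm F (Fin h ⊕ Fin h → F)) (y : Module.End F (Fin h ⊕ Fin h → F)), NDPolar R ∧
      (∀ u, R (y u) = R u) ∧ y ^ r = 1 ∧ y ≠ 1 ∧ Fpf y ⊤ := by
  have hpos : 0 < h := hi ▸ ord_pos hrF
  obtain ⟨M, hM⟩ := exists_prime_orderOf_dvd_card' (G := GL (Fin h) F) r (by
    rw [Matrix.card_GL_field]
    refine dvd_trans ?_ (Finset.dvd_prod_of_mem _ (Finset.mem_univ (⟨0, hpos⟩ : Fin h)))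
    simpa using (LinFix.dvd_pow_sub_one_iff Fintype.card_pos h).2 hi.dvd)
  set N : Matrix (Fin h) (Fin h) F := ((M⁻¹ : GL (Fin h) F) : Matrix (Fin h) (Fin h) F).transpose with hN
  let A : Matrix (Fin h ⊕ Fin h) (Fin h ⊕ Fin h) F := Matrix.fromBlocks (M : Matrix (Fin h) (Fin h) F) 0 0 N
  have hpres : ∀ u w : Fin h → F, (N.mulVec u) ⬝ᵥ ((M : Matrix (Fin h) (Fin h) F).mulVec w) = u ⬝ᵥ w := fun u w => by
    rw [hN, Matrix.mulVec_transpose, ← Matrix.dotProduct_mulVec, Matrix.mulVec_mulVec, ← Units.val_mul,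
      inv_mul_cancel, Units.val_one, Matrix.one_mulVec]
  have hform : ∀ u, CfsgLib.OrthCrit.plusForm h F (Matrix.toLin' A u) = CfsgLib.OrthCrit.plusForm h F u := fun u => by
    rw [CfsgLib.OrthCrit.plusForm_apply, CfsgLib.OrthCrit.plusForm_apply]
    simp only [Matrix.toLin'_apply, A, Matrix.fromBlocks_mulVec, Cfsg.quadFormPlus,
      Sum.elim_inl, Sum.elim_inr, Matrix.zero_mulVec, add_zero, zero_add]
    change ((M : Matrix (Fin h) (Fin h) F).mulVec _) ⬝ᵥ N.mulVec _ = _
    rw [dotProduct_comm, hpres]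
    simp [dotProduct, mul_comm]
  have hpow : ∀ k, A ^ k = Matrix.fromBlocks ((M ^ k : GL (Fin h) F) : Matrix (Fin h) (Fin h) F) 0 0
      ((((M ^ k)⁻¹ : GL (Fin h) F) : Matrix (Fin h) (Fin h) F).transpose) := fun k => by
    induction k with
    | zero => simp [Matrix.fromBlocks_one]
    | succ k ih =>
      rw [pow_succ, ih, Matrix.fromBlocks_multiply]
      simp [hN, pow_succ, ← Matrix.transpose_mul, mul_inv_rev]
  have hfree : ∀ (B : Matrix (Fin h) (Fin h) F), B ^ r = 1 → B ≠ 1 → Fpf (Matrix.toLin' B) ⊤ := fun B hB hB1 =>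
    fpf_of_finrank_eq hrF (by rw [← Matrix.toLin'_pow, hB]; exact Matrix.toLin'_one)
      (fun h1 => hB1 (Matrix.toLin'.injective (h1.trans Matrix.toLin'_one.symm)))
      (by rw [Module.finrank_fintype_fun_eq_card, Fintype.card_fin, hi])
  have hM1 : (M : Matrix (Fin h) (Fin h) F) ≠ 1 := fun h1 => hr.out.ne_one (by
    rw [← hM, orderOf_eq_one_iff]; exact Units.ext h1)
  have hMr : M ^ r = 1 := hM ▸ pow_orderOf_eq_one M
  refine ⟨CfsgLib.OrthCrit.plusForm h F, Matrix.toLin' A, CfsgLib.OrthCrit.ndPolar_plusForm h, hform, ?_,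
    fun h1 => hM1 ?_, fun v _ hv => ?_⟩
  · rw [← Matrix.toLin'_pow, hpow, hMr]
    simp [Matrix.fromBlocks_one, Module.End.one_eq_id]
  · have := Matrix.toLin'.injective (h1.trans Matrix.toLin'_one.symm)
    exact (Matrix.fromBlocks_inj.1 (this.trans Matrix.fromBlocks_one.symm)).1
  · rw [Matrix.toLin'_apply, Matrix.fromBlocks_mulVec] at hv
    have hl := congrArg (fun f => f ∘ Sum.inl) hv
    have hrr := congrArg (fun f => f ∘ Sum.inr) hv
    simp only [Sum.elim_comp_inl, Sum.elim_comp_inr, Matrix.zero_mulVec, add_zero, zero_add] at hl hrr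
    have e1 := hfree _ (by rw [← Units.val_pow_eq_pow_val, hMr]; rfl) hM1 (v ∘ Sum.inl) trivial hl
    have e2 := hfree N (by rw [hN, ← Matrix.transpose_pow, ← Units.val_pow_eq_pow_val, inv_pow, hMr]; simp)
      (fun h1 => hM1 (by
        rw [hN] at h1
        have := congrArg Matrix.transpose h1
        rw [Matrix.transpose_transpose, Matrix.transpose_one] at this
        calc (M : Matrix (Fin h) (Fin h) F) = (M : Matrix (Fin h) (Fin h) F) * ((M⁻¹ : GL (Fin h) F) : Matrix (Fin h) (Fin h) F) := by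
              rw [this, mul_one]
          _ = 1 := by rw [← Units.val_mul, mul_inv_cancel]; rfl))
      (v ∘ Sum.inr) trivial hrr
    funext x
    rcases x with x | x
    · exact congrFun e1 x
    · exact congrFun e2 x

variable {V : Type*} [AddCommGroup V] [Module F V] [FiniteDimensional F V]
variable {W : Type*} [AddCommGroup W] [Module F W] [FiniteDimensional F W]

omit [Fintype F] [FiniteDimensional F W] in
theorem ndPolar_pi {κ : Type*} [Fintype κ] {R : QuadraticForm F W} (hR : NDPolar R) :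
    NDPolar (QuadraticMap.pi (fun _ : κ => R)) := by
  classical
  intro x hx
  funext l
  refine hR _ fun w => ?_
  have h := hx (Pi.single l w)
  simp only [polar, QuadraticMap.pi_apply] at h
  rw [← Finset.sum_sub_distrib, ← Finset.sum_sub_distrib, Finset.sum_eq_single l (fun l' _ hne => by simp [hne])
    (by simp)] at h
  simpa [polar] using h

/-- A block isometry and its invariant totally singular subspaces. -/
theorem exists_bad_of_blocks' (hrF : (r : F) ≠ 0) (hr2 : r ≠ 2) {Q : QuadraticForm F V} (hnd : NDPolar Q)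
    (h2 : Odd (finrank F V) → (2 : F) ≠ 0) {a i : ℕ} (ha : 0 < a) (hi : i = orderOf (Fintype.card F : ZMod r))
    {R : QuadraticForm F W} (hR : NDPolar R) {y : Module.End F W} (hy : ∀ u, R (y u) = R u) (hyr : y ^ r = 1)
    (hy1 : y ≠ 1) (hfree : Fpf y ⊤) {δ : ℕ} (hδ : δ = fixDefect Q i (a * finrank F W / i))
    (hev : Even (a * finrank F W)) (hfeas : a * finrank F W + δ ≤ finrank F V)
    (e : Fin a → ℕ) (he : ∀ l, (e l : ZMod r) ≠ 0) (L : Finset (Fin a))
    (hL : ∀ l ∈ L, finrank F W = i ∧
      ∀ l', l' ≠ l → ∀ n : ℕ, (e l : ZMod r) ≠ e l' * (Fintype.card F : ZMod r) ^ n) :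
    ∃ T : Module.End F V, finrank F (LinearMap.ker (T - 1)) + a * finrank F W = finrank F V ∧
      (∀ v, Q (T v) = Q v) ∧ T ^ r = 1 ∧ (∀ c : F, ∃ v, T v ≠ c • v) ∧
      ∀ U : Submodule F V, Inv T U → TotSing Q U →
        ∃ c j : ℕ, finrank F U = c + j * i ∧ 2 * c + δ + a * finrank F W ≤ finrank F V ∧
          2 * (j * i) ≤ (a - L.card) * finrank F W := by
  classical
  haveI : NeZero (r : F) := ⟨hrF⟩
  set w := finrank F W with hw
  have hδ2 : δ ≤ 2 := by
    rw [hδ]; unfold fixDefect; split_ifs <;> first | omega | exact defect_le_two Q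
  have hipos : 0 < i := hi ▸ ord_pos hrF
  -- the block element
  let Z := Fin a → W
  let S : QuadraticForm F Z := QuadraticMap.pi (fun _ : Fin a => R)
  have hS : ∀ p, S p = ∑ l, R (p l) := fun p => QuadraticMap.pi_apply _ p
  have hSnd : NDPolar S := ndPolar_pi hR
  let Y : Module.End F Z := LinearMap.pi fun l => (y ^ e l).comp (LinearMap.proj l)
  have hYk : ∀ (k : ℕ) p, (Y ^ k) p = fun l => ((y ^ e l) ^ k) (p l) := fun k => by
    induction k with
    | zero => intro p; simp
    | succ k ih =>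
      intro p
      rw [pow_succ, Module.End.mul_apply, ih]
      funext l
      rw [pow_succ, Module.End.mul_apply]
      rfl
  have hye : ∀ l u, R ((y ^ e l) u) = R u := fun l => by
    induction e l with
    | zero => simp
    | succ k ih => intro u; rw [pow_succ', Module.End.mul_apply, hy, ih]
  have hyer : ∀ l, (y ^ e l) ^ r = 1 := fun l => by rw [← pow_mul, mul_comm, pow_mul, hyr, one_pow]
  have hye1 : ∀ l, Fpf (y ^ e l) ⊤ := fun l => CfsgLib.PrimeFix.Symp.fpf_pow hyr hfree (he l)
  have hYr : Y ^ r = 1 := LinearMap.ext fun p => by rw [hYk]; simp [hyer]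
  have hYS : ∀ p, S (Y p) = S p := fun p => by
    rw [hS, hS]; exact Finset.sum_congr rfl fun l _ => hye l (p l)
  have hYfree : Fpf Y ⊤ := fun p _ hp => funext fun l => hye1 l _ trivial (congrFun hp l)
  have hdZ : finrank F Z = a * w := by simp [Z, Module.finrank_pi_fintype, hw]
  obtain ⟨b, hb⟩ : i ∣ a * w := hdZ ▸ (by
    have := ord_dvd_finrank hYr (fun _ _ => trivial : Inv Y ⊤) hYfree
    rwa [← hi, finrank_top] at this)
  rw [hb, Nat.mul_div_cancel_left b hipos] at hδ
  -- the type of the moving part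
  have hYinj : Function.Injective Y := (injective_iff_map_eq_zero Y).2 fun p hp => by
    calc p = (Y ^ r) p := by rw [hYr]; rfl
      _ = 0 := by rw [← Nat.sub_add_cancel hr.out.one_le, pow_succ, Module.End.mul_apply, hp, map_zero]
  let A : Z ≃ₗ[F] Z := LinearEquiv.ofInjectiveEndo Y hYinj
  have hAr : ∀ p, (⇑A)^[r] p = p := fun p => by
    have h : ∀ (k : ℕ) p, (⇑A)^[k] p = (Y ^ k) p := fun k => by
      induction k with
      | zero => intro p; rfl
      | succ k ih => intro p; rw [Function.iterate_succ_apply', ih, pow_succ']; rfl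
    rw [h, hYr]; rfl
  have hAfree : ∀ p, A p = p → p = 0 := fun p hp => hYfree p trivial hp
  have hodd : Odd i → IsPlus S := fun ho =>
    CfsgLib.RootCount.isPlus_of_odd_order A hr2 (hi ▸ ho) hAfree hAr _ hSnd hYS
  have hw0 : 0 < w := by
    rw [hw, Module.finrank_pos_iff]
    by_contra hN
    rw [not_nontrivial_iff_subsingleton] at hN
    exact hy1 (LinearMap.ext fun u => Subsingleton.elim _ _)
  have hbpos : 0 < b := by
    rcases Nat.eq_zero_or_pos b with rfl | h
    · have := Nat.mul_pos ha hw0; simp at hb; omega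
    · exact h
  have heven : Even i → (IsPlus S ↔ Even b) := by
    rintro ⟨h, hh⟩
    exact CfsgLib.RootCount.type_of_even_order A (i' := h) (b := b) (m := h * b) hr2 (by rw [← hi, hh, two_mul])
      (by omega) (Nat.mul_pos (by omega) hbpos) (by rw [hdZ, hb, hh]; ring) rfl hAfree hAr _ hSnd hYS
  -- the fixed part
  set n₀ := finrank F V - a * w with hn₀
  obtain ⟨K, hK⟩ : ∃ K, n₀ = 2 * K + δ := by
    obtain ⟨u, hu⟩ := hev
    obtain ⟨K', hK'⟩ : ∃ K', finrank F V = 2 * K' + defect Q := by
      have h := defect_le hnd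
      unfold defect at h ⊢
      split_ifs at h ⊢ with ho hp
      · obtain ⟨v, hv⟩ := ho; exact ⟨v, hv⟩
      · obtain ⟨v, hv⟩ := Nat.not_odd_iff_even.1 ho; exact ⟨v, by omega⟩
      · obtain ⟨v, hv⟩ := Nat.not_odd_iff_even.1 ho; exact ⟨v - 1, by omega⟩
    have : δ % 2 = defect Q % 2 := by
      rw [hδ]; unfold fixDefect defect; split_ifs <;> omega
    exact ⟨(finrank F V - a * w - δ) / 2, by omega⟩
  obtain ⟨Q₀, hQ₀, hd₀⟩ := exists_space (F := F) hK hδ2 (fun h => h2 (by
    obtain ⟨u, hu⟩ := hev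
    exact ⟨(finrank F V - 1) / 2, by omega⟩))
  let X := (Fin n₀ → F) × Z
  let P : QuadraticForm F X := QuadraticMap.prod Q₀ S
  have hP : ∀ p, P p = Q₀ p.1 + S p.2 := fun p => QuadraticMap.prod_apply _ _ p
  have hpolP : ∀ p p', polar P p p' = polar Q₀ p.1 p'.1 + polar S p.2 p'.2 := fun p p' => by
    simp only [polar, hP]
    show Q₀ (p.1 + p'.1) + S (p.2 + p'.2) - _ - _ = _
    ring
  have hPnd : NDPolar P := fun p hp => Prod.ext
    (hQ₀ _ fun u => by have h := hp (u, 0); simpa [hpolP] using h)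
    (hSnd _ fun u => by have h := hp (0, u); simpa [hpolP] using h)
  have hdX : finrank F X = finrank F V := by simp [X, hdZ]; omega
  have hdP : defect P = defect Q := by
    obtain ⟨u, hu⟩ := hev
    have hZeven : Even (finrank F Z) := ⟨u, by omega⟩
    rcases Nat.even_or_odd (finrank F V) with he' | ho'
    · have hδ' : δ = 0 ∨ δ = 2 := by
        obtain ⟨v, hv⟩ := he'; omega
      let C := LinearMap.range (LinearMap.inl F (Fin n₀ → F) Z)
      let D := LinearMap.range (LinearMap.inr F (Fin n₀ → F) Z)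
      have hC : finrank F C = n₀ := by rw [LinearMap.finrank_range_of_inj LinearMap.inl_injective]; simp
      have hD : finrank F D = finrank F Z := LinearMap.finrank_range_of_inj LinearMap.inr_injective
      have hiff := isPlus_iff_of_decomp (C := C) (D := D) hPnd (by
          rw [← LinearMap.range_coprod]
          exact LinearMap.range_eq_top.2 fun p => ⟨p, by simp⟩)
        (disjoint_iff.1 (LinearMap.isCompl_range_inl_inr.disjoint))
        (by rintro _ ⟨u, rfl⟩ _ ⟨v, rfl⟩; simp [hpolP])
        (by rw [hC]; obtain ⟨v, hv⟩ := he'; exact ⟨v - u, by omega⟩) (by rw [hD]; exact hZeven)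
      let EC : (Fin n₀ → F) ≃ₗ[F] C := LinearEquiv.ofInjective _ LinearMap.inl_injective
      let ED : Z ≃ₗ[F] D := LinearEquiv.ofInjective _ LinearMap.inr_injective
      have hC' : IsPlus (P.comp C.subtype) ↔ δ = 0 := by
        have hev₀ : Even (finrank F (Fin n₀ → F)) := by simp; exact ⟨K + δ / 2, by omega⟩
        have h1 : defect (P.comp C.subtype) = δ := by
          rw [← hd₀]; exact defect_congr EC fun x => by
            show P (LinearMap.inl F _ _ x) = Q₀ x
            simp [hP]
        constructor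
        · intro h; rw [defect_of_plus h] at h1; exact h1.symm
        · intro h
          by_contra hc
          rw [defect_of_not_plus (by rw [hC]; simpa using hev₀) hc] at h1
          omega
      have hD' : IsPlus (P.comp D.subtype) ↔ IsPlus S := by
        have hED : ∀ x, P.comp D.subtype (ED x) = S x := fun x => by
          show P (LinearMap.inr F _ _ x) = S x
          simp [hP]
        exact ⟨fun h => CfsgLib.RootCount.isPlus_congr _ S ED.symm (fun x => by rw [← hED, ED.apply_symm_apply]) h,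
          fun h => CfsgLib.RootCount.isPlus_congr S _ ED hED h⟩
      rw [hC', hD'] at hiff
      have hiffQ : IsPlus P ↔ IsPlus Q := by
        rw [hiff, hδ]
        unfold fixDefect
        rw [if_neg (Nat.not_odd_iff_even.2 he')]
        by_cases ho : Odd i
        · rw [if_pos ho]
          constructor
          · intro h
            by_contra hQ
            rw [defect_of_not_plus he' hQ] at h
            exact absurd (h.2 (hodd ho)) (by omega)
          · intro h
            rw [defect_of_plus h]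
            exact iff_of_true rfl (hodd ho)
        · rw [if_neg ho, heven (Nat.not_odd_iff_even.1 ho)]
          by_cases hQ : IsPlus Q <;> by_cases hb' : Even b <;> simp [hQ, hb']
      unfold defect
      rw [if_neg (Nat.not_odd_iff_even.2 (hdX ▸ he')), if_neg (Nat.not_odd_iff_even.2 he')]
      simp only [hiffQ]
    · rw [defect_of_odd (hdX ▸ ho'), defect_of_odd ho']
  obtain ⟨cs, E, hcs, hE⟩ := exists_similitude hPnd hnd (fun h => h2 (hdX ▸ h)) hdX.symm hdP.symm
  let T₀ : Module.End F X := LinearMap.prodMap LinearMap.id Y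
  let T : Module.End F V := E.toLinearMap.comp (T₀.comp E.symm.toLinearMap)
  have hTE : ∀ p, T (E p) = E (p.1, Y p.2) := fun p => by
    show E (T₀ (E.symm (E p))) = _
    rw [E.symm_apply_apply]; rfl
  have hTk : ∀ (k : ℕ) p, (T ^ k) (E p) = E (p.1, (Y ^ k) p.2) := fun k => by
    induction k with
    | zero => intro p; simp
    | succ k ih => intro p; rw [pow_succ, Module.End.mul_apply, hTE, ih]; simp [pow_succ, Module.End.mul_apply]
  have hTr : T ^ r = 1 := LinearMap.ext fun v => by
    obtain ⟨p, rfl⟩ := E.surjective v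
    rw [hTk, hYr]; rfl
  have hTQ : ∀ v, Q (T v) = Q v := fun v => by
    obtain ⟨p, rfl⟩ := E.surjective v
    rw [hTE, hE, hE, hP, hP, hYS]
  have hker : finrank F (LinearMap.ker (T - 1)) = n₀ := by
    have hrange : LinearMap.ker (T - 1) = (LinearMap.range (LinearMap.inl F (Fin n₀ → F) Z)).map E.toLinearMap := by
      refine le_antisymm (fun v hv => ?_) ?_
      · obtain ⟨p, rfl⟩ := E.surjective v
        have h0 : T (E p) = E p := sub_eq_zero.1 hv
        rw [hTE, E.injective.eq_iff] at h0
        exact ⟨p, ⟨p.1, Prod.ext rfl (hYfree p.2 trivial (congrArg Prod.snd h0)).symm⟩, rfl⟩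
      · rintro _ ⟨_, ⟨u, rfl⟩, rfl⟩
        show T (E (u, 0)) - E (u, 0) = 0
        rw [hTE, map_zero, sub_self]
    rw [hrange, LinearEquiv.finrank_map_eq, LinearMap.finrank_range_of_inj LinearMap.inl_injective]
    simp
  refine ⟨T, by omega, hTQ, hTr, fun c => ?_, fun U hU hsing => ?_⟩
  · -- not a scalar
    by_contra hc
    push Not at hc
    obtain ⟨u, hu⟩ : ∃ u : W, u ≠ 0 := by
      by_contra hh
      push Not at hh
      exact hy1 (LinearMap.ext fun u => by rw [hh u, map_zero, map_zero])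
    set l : Fin a := ⟨0, ha⟩
    have h1 := hc (E (0, Pi.single l u))
    rw [hTE, ← map_smul, E.injective.eq_iff] at h1
    have h2' : (y ^ e l) u = c • u := by
      have := congrFun (congrArg Prod.snd h1) l
      change (y ^ e l) ((Pi.single l u : Z) l) = c • (Pi.single l u : Z) l at this
      simpa using this
    obtain ⟨u', hu'⟩ : ∃ u', polar R u u' ≠ 0 := by
      by_contra hh
      push Not at hh
      exact hu (hR u hh)
    have hall : ∀ u', (y ^ e l) u' = c • u' := fun u' => by
      have h1 := hc (E (0, Pi.single l u'))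
      rw [hTE, ← map_smul, E.injective.eq_iff] at h1
      have := congrFun (congrArg Prod.snd h1) l
      change (y ^ e l) ((Pi.single l u' : Z) l) = c • (Pi.single l u' : Z) l at this
      simpa using this
    have hc2 : c * c = 1 := by
      have h0 : polar R ((y ^ e l) u) ((y ^ e l) u') = polar R u u' := by
        simp only [polar, ← map_add, hye]
      rw [hall, hall, polar_smul_left, polar_smul_right, smul_eq_mul, smul_eq_mul, ← mul_assoc] at h0
      exact mul_right_cancel₀ hu' (by rw [one_mul]; exact h0)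
    have hcr : c ^ r = 1 := by
      have hk : ∀ k : ℕ, ((y ^ e l) ^ k) u = c ^ k • u := fun k => by
        induction k with
        | zero => simp
        | succ k ih => rw [pow_succ, Module.End.mul_apply, h2', map_smul, ih, smul_smul, pow_succ']
      have := hk r
      rw [hyer, Module.End.one_apply] at this
      exact smul_left_injective F hu (show c ^ r • u = (1 : F) • u by rw [one_smul]; exact this.symm)
    have hc1 : c = 1 := by
      obtain ⟨k, hk⟩ := hr.out.odd_of_ne_two hr2
      rwa [hk, pow_succ, pow_mul, _root_.sq, hc2, one_pow, one_mul] at hcr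
    rw [hc1, one_smul] at h2'
    exact hu (hye1 l u trivial h2')
  · let C₁ := U ⊓ LinearMap.ker (T - 1)
    let D₁ := U ⊓ LinearMap.ker (∑ k ∈ Finset.range r, T ^ k)
    have hC₁ : ∀ p, E p ∈ C₁ → p.2 = 0 := fun p hp => by
      have h0 : T (E p) = E p := sub_eq_zero.1 hp.2
      rw [hTE, E.injective.eq_iff] at h0
      exact hYfree p.2 trivial (congrArg Prod.snd h0)
    have hD₁ : ∀ p, E p ∈ D₁ → p.1 = 0 := fun p hp => by
      have h0 : (∑ k ∈ Finset.range r, T ^ k) (E p) = 0 := hp.2
      rw [LinearMap.sum_apply, Finset.sum_congr rfl (fun k _ => hTk k p), ← map_sum, E.map_eq_zero_iff] at h0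
      have := congrArg Prod.fst h0
      rw [Prod.fst_sum, Finset.sum_const, Finset.card_range, ← Nat.cast_smul_eq_nsmul F] at this
      exact (smul_eq_zero.1 this).resolve_left hrF
    have hsum : C₁ ⊔ D₁ = U := by
      refine le_antisymm (sup_le inf_le_left inf_le_left) fun v hv => ?_
      obtain ⟨c, hc, hc1, d', hd', hd1, rfl⟩ := exists_split hrF hTr hU hv
      exact Submodule.add_mem_sup ⟨hc, sub_eq_zero.2 hc1⟩ ⟨hd', hd1⟩
    have hdisj : C₁ ⊓ D₁ = ⊥ := (Submodule.eq_bot_iff _).2 fun v hv => by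
      obtain ⟨p, rfl⟩ := E.surjective v
      rw [show p = (0, 0) from Prod.ext (hD₁ p hv.2) (hC₁ p hv.1)]
      exact E.map_zero
    have hsing' : ∀ p, E p ∈ U → Q₀ p.1 + S p.2 = 0 := fun p hp => by
      have h := hsing _ hp
      rw [hE, hP] at h
      exact (mul_eq_zero.1 h).resolve_left hcs
    have hC : 2 * finrank F C₁ + δ ≤ n₀ := by
      let π : C₁ →ₗ[F] (Fin n₀ → F) := ((LinearMap.fst F _ _).comp E.symm.toLinearMap).comp C₁.subtype
      have hinj : Function.Injective π := by
        rw [← LinearMap.ker_eq_bot, Submodule.eq_bot_iff]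
        rintro ⟨v, hv⟩ h0
        obtain ⟨p, rfl⟩ := E.surjective v
        have hp1 : p.1 = 0 := by simpa [π] using LinearMap.mem_ker.1 h0
        refine Subtype.ext ?_
        show E p = 0
        rw [show p = (0, 0) from Prod.ext hp1 (hC₁ p hv)]
        exact E.map_zero
      have h := (hasSing_iff hQ₀ (finrank F C₁)).1 ⟨LinearMap.range π, by
        rintro _ ⟨⟨v, hv⟩, rfl⟩
        obtain ⟨p, rfl⟩ := E.surjective v
        have h0 := hsing' p hv.1
        rw [hC₁ p hv, QuadraticMap.map_zero, add_zero] at h0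
        simpa [π] using h0, LinearMap.finrank_range_of_inj hinj⟩
      simpa [hd₀] using h
    have hDinv : Inv T D₁ := inv_inf hU (by
      have h : (∑ k ∈ Finset.range r, T ^ k) = aeval T (∑ k ∈ Finset.range r, (Polynomial.X : F[X]) ^ k) := by simp
      rw [h]; exact inv_ker_aeval _)
    have hDL : ∀ p, E p ∈ D₁ → ∀ l ∈ L, p.2 l = 0 := by
      intro p hp l hl
      obtain ⟨hwi, hkind⟩ := hL l hl
      obtain ⟨g, hginj, hg0⟩ := exists_separator hrF hyr hy1 (by rw [← hi]; exact hwi) (a := e l) (he l)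
        ((Finset.univ.erase l).image e) (fun b hb => by
          obtain ⟨l', hl', rfl⟩ := Finset.mem_image.1 hb
          exact ⟨he l', hkind l' (Finset.mem_erase.1 hl').1⟩)
      by_contra hpl
      have hgE : ∀ (g : F[X]) (q : X), aeval T g (E q) = E (aeval (1 : Module.End F (Fin n₀ → F)) g q.1,
          fun l => aeval (y ^ e l) g (q.2 l)) := by
        intro g q
        induction g using Polynomial.induction_on' with
        | add f g hf hg => simp only [map_add, LinearMap.add_apply, hf, hg]; rw [← map_add]; rfl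
        | monomial k c =>
          simp only [aeval_monomial, Module.End.mul_apply, Module.algebraMap_end_apply, hTk, hYk, one_pow,
            Module.End.one_apply]
          rw [← map_smul]; rfl
      set z := aeval (y ^ e l) g (p.2 l)
      have hz : z ≠ 0 := fun h0 => hpl (hginj (h0.trans (map_zero _).symm))
      have hgp : E (0, Pi.single l z) ∈ D₁ := by
        have hmem := inv_aeval hDinv g hp
        rw [hgE, hD₁ p hp, map_zero] at hmem
        convert hmem using 3
        funext l'
        rcases eq_or_ne l' l with rfl | hne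
        · simp [z]
        · simp [hne, hg0 (e l') (Finset.mem_image.2 ⟨l', Finset.mem_erase.2 ⟨hne, Finset.mem_univ _⟩, rfl⟩)]
      -- the block is irreducible, so the form vanishes on it
      let G : Submodule F W :=
        D₁.comap (E.toLinearMap.comp ((LinearMap.inr F (Fin n₀ → F) Z).comp (LinearMap.single F (fun _ : Fin a => W) l)))
      have hGinv : Inv (y ^ e l) G := fun u hu => by
        have h1 := hDinv _ hu
        show E (0, Pi.single l ((y ^ e l) u)) ∈ D₁
        simp only [LinearMap.comp_apply, LinearEquiv.coe_coe, LinearMap.inr_apply] at h1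
        rw [hTE] at h1
        convert h1 using 3
        funext l'
        rcases eq_or_ne l' l with rfl | hne
        · show _ = (y ^ e l') ((Pi.single l' u : Z) l')
          simp
        · show _ = (y ^ e l') ((Pi.single l u : Z) l')
          simp [hne]
      obtain ⟨c, hc⟩ := ord_dvd_finrank (hyer l) hGinv ((hye1 l).mono le_top)
      have hGtop : G = ⊤ := by
        refine Submodule.eq_top_of_finrank_eq (le_antisymm (Submodule.finrank_le _) ?_)
        rw [hc, ← hi, ← hw, hwi]
        refine Nat.le_mul_of_pos_right _ (Nat.pos_of_ne_zero fun h0 => hz ?_)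
        rw [h0, mul_zero, Submodule.finrank_eq_zero] at hc
        exact (Submodule.eq_bot_iff _).1 hc z hgp
      have hR0 : ∀ u, R u = 0 := fun u => by
        have h0 := hsing' _ ((show u ∈ G from hGtop ▸ trivial) : E (0, Pi.single l u) ∈ D₁).1
        change Q₀ 0 + S (Pi.single l u) = 0 at h0
        rw [QuadraticMap.map_zero, zero_add, hS, Finset.sum_eq_single l (fun l' _ hne => by simp [hne]) (by simp)] at h0
        simpa using h0
      exact hz (hR z fun u => by simp [polar, hR0])
    obtain ⟨j, hj⟩ := ord_dvd_finrank hTr hDinv (fun v hv hfix => (Submodule.eq_bot_iff _).1 hdisj v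
      ⟨⟨hv.1, sub_eq_zero.2 hfix⟩, hv⟩)
    have hD : 2 * finrank F D₁ ≤ (a - L.card) * w := by
      let L' := {l : Fin a // l ∉ L}
      let π : D₁ →ₗ[F] (L' → W) :=
        ((LinearMap.pi fun l : L' => LinearMap.proj l.1).comp ((LinearMap.snd F _ _).comp E.symm.toLinearMap)).comp
          D₁.subtype
      have hinj : Function.Injective π := by
        rw [← LinearMap.ker_eq_bot, Submodule.eq_bot_iff]
        rintro ⟨v, hv⟩ h0
        obtain ⟨p, rfl⟩ := E.surjective v
        refine Subtype.ext ?_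
        show E p = 0
        rw [E.map_eq_zero_iff]
        refine Prod.ext (hD₁ p hv) (funext fun l => ?_)
        by_cases hl : l ∈ L
        · exact hDL p hv l hl
        · have := congrFun (LinearMap.mem_ker.1 h0) ⟨l, hl⟩
          change p.2 l = 0
          simpa [π] using this
      let S' : QuadraticForm F (L' → W) := QuadraticMap.pi (fun _ : L' => R)
      have h := two_mul_finrank_le (B := polarBilin S') (U := LinearMap.range π) (ndPolar_pi hR)
        (TotSing.isotropic (Q := S') (U := LinearMap.range π) (by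
          rintro _ ⟨⟨v, hv⟩, rfl⟩
          obtain ⟨p, rfl⟩ := E.surjective v
          have h0 := hsing' p hv.1
          rw [hD₁ p hv, QuadraticMap.map_zero, zero_add, hS, ← Finset.sum_add_sum_compl L,
            Finset.sum_eq_zero (fun l hl => by rw [hDL p hv l hl, QuadraticMap.map_zero]), zero_add] at h0
          rw [QuadraticMap.pi_apply, ← h0]
          simp [π]
          exact (Finset.sum_subtype Lᶜ (fun x => Finset.mem_compl) (fun l => R (p.2 l))).symm))
      rw [LinearMap.finrank_range_of_inj hinj, Module.finrank_pi_fintype, Finset.sum_const, Finset.card_univ,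
        Fintype.card_subtype_compl, Fintype.card_fin, Fintype.card_coe, smul_eq_mul, ← hw] at h
      exact h
    refine ⟨finrank F C₁, j, ?_, by omega, ?_⟩
    · have h1 := Submodule.finrank_sup_add_finrank_inf_eq C₁ D₁
      rw [hsum, hdisj, finrank_bot, add_zero, hj, ← hi] at h1
      rw [h1, mul_comm j]
    · rw [mul_comm j, hi, ← hj]; exact hD

/-- A block isometry and its invariant totally singular subspaces, without the fixed space. -/
theorem exists_bad_of_blocks (hrF : (r : F) ≠ 0) (hr2 : r ≠ 2) {Q : QuadraticForm F V} (hnd : NDPolar Q)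
    (h2 : Odd (finrank F V) → (2 : F) ≠ 0) {a i : ℕ} (ha : 0 < a) (hi : i = orderOf (Fintype.card F : ZMod r))
    {R : QuadraticForm F W} (hR : NDPolar R) {y : Module.End F W} (hy : ∀ u, R (y u) = R u) (hyr : y ^ r = 1)
    (hy1 : y ≠ 1) (hfree : Fpf y ⊤) {δ : ℕ} (hδ : δ = fixDefect Q i (a * finrank F W / i))
    (hev : Even (a * finrank F W)) (hfeas : a * finrank F W + δ ≤ finrank F V)
    (e : Fin a → ℕ) (he : ∀ l, (e l : ZMod r) ≠ 0) (L : Finset (Fin a))
    (hL : ∀ l ∈ L, finrank F W = i ∧
      ∀ l', l' ≠ l → ∀ n : ℕ, (e l : ZMod r) ≠ e l' * (Fintype.card F : ZMod r) ^ n) :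
    ∃ T : Module.End F V, (∀ v, Q (T v) = Q v) ∧ T ^ r = 1 ∧ (∀ c : F, ∃ v, T v ≠ c • v) ∧
      ∀ U : Submodule F V, Inv T U → TotSing Q U →
        ∃ c j : ℕ, finrank F U = c + j * i ∧ 2 * c + δ + a * finrank F W ≤ finrank F V ∧
          2 * (j * i) ≤ (a - L.card) * finrank F W := by
  obtain ⟨T, -, h⟩ := exists_bad_of_blocks' hrF hr2 hnd h2 ha hi hR hy hyr hy1 hfree hδ hev hfeas e he L hL
  exact ⟨T, h⟩

/-- An isometry of prime order moving a space of prescribed dimension. -/
theorem exists_element (hrF : (r : F) ≠ 0) (hr2 : r ≠ 2) {Q : QuadraticForm F V} (hnd : NDPolar Q)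
    (h2 : Odd (finrank F V) → (2 : F) ≠ 0) {a i : ℕ} (ha : 0 < a) (hi : i = orderOf (Fintype.card F : ZMod r))
    (hae : Odd i → Even a) (hfeas : a * i + fixDefect Q i a ≤ finrank F V) :
    ∃ T : Module.End F V, finrank F (LinearMap.ker (T - 1)) + a * i = finrank F V ∧
      (∀ v, Q (T v) = Q v) ∧ T ^ r = 1 ∧ (∀ c : F, ∃ v, T v ≠ c • v) := by
  have hipos : 0 < i := hi ▸ ord_pos hrF
  rcases Nat.even_or_odd i with ⟨h, hh⟩ | hio
  · obtain ⟨R, y, hR, hy, hyr, hy1, hfree⟩ := exists_block_minus (F := F) (r := r) hrF (h := h) (by omega)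
      (by rw [← hi, hh, two_mul])
    have hw : finrank F (Fin (2 * h) → F) = i := by simp; omega
    obtain ⟨T, h0, h1, h2', h3, -⟩ := exists_bad_of_blocks' hrF hr2 hnd h2 ha hi hR hy hyr hy1 hfree
      (δ := fixDefect Q i a) (by rw [hw, Nat.mul_div_cancel _ hipos]) (by rw [hw]; exact ⟨a * h, by rw [hh]; ring⟩)
      (by rw [hw]; exact hfeas) (fun _ => 1) (fun _ => by simp) ∅ (fun l hl => absurd hl (by simp))
    exact ⟨T, by rw [← hw]; exact h0, h1, h2', h3⟩
  · obtain ⟨A, rfl⟩ := hae hio
    obtain ⟨R, y, hR, hy, hyr, hy1, hfree⟩ := exists_block_hyp (F := F) (r := r) hrF hi.symm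
    have hw : A * finrank F (Fin i ⊕ Fin i → F) = (A + A) * i := by simp; ring
    obtain ⟨T, h0, h1, h2', h3, -⟩ := exists_bad_of_blocks' hrF hr2 hnd h2 (a := A) (by omega) hi hR hy hyr hy1 hfree
      (δ := fixDefect Q i (A + A)) (by rw [hw, Nat.mul_div_cancel _ hipos]) (by rw [hw]; exact Even.mul_right ⟨A, rfl⟩ i)
      (by rw [hw]; exact hfeas) (fun _ => 1) (fun _ => by simp) ∅ (fun l hl => absurd hl (by simp))
    exact ⟨T, by rw [← hw]; exact h0, h1, h2', h3⟩

/-- Blocks for odd order. -/
theorem exists_bad_odd (hrF : (r : F) ≠ 0) (hr2 : r ≠ 2) {Q : QuadraticForm F V} (hnd : NDPolar Q)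
    (h2 : Odd (finrank F V) → (2 : F) ≠ 0) {A i : ℕ} (hA : 0 < A) (hi : i = orderOf (Fintype.card F : ZMod r))
    (hio : Odd i) {δ : ℕ} (hδ : δ = fixDefect Q i (2 * A)) (hfeas : A * (2 * i) + δ ≤ finrank F V) :
    ∃ T : Module.End F V, (∀ v, Q (T v) = Q v) ∧ T ^ r = 1 ∧ (∀ c : F, ∃ v, T v ≠ c • v) ∧
      ∀ U : Submodule F V, Inv T U → TotSing Q U →
        ∃ c j : ℕ, finrank F U = c + j * i ∧ 2 * c + δ + A * (2 * i) ≤ finrank F V := by
  obtain ⟨R, y, hR, hy, hyr, hy1, hfree⟩ := exists_block_hyp (F := F) (r := r) hrF hi.symm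
  have hw : finrank F (Fin i ⊕ Fin i → F) = 2 * i := by simp; ring
  have hipos : 0 < i := hio.pos
  obtain ⟨T, h1, h2', h3, h4⟩ := exists_bad_of_blocks hrF hr2 hnd h2 hA hi hR hy hyr hy1 hfree (δ := δ)
    (by rw [hw, show A * (2 * i) = 2 * A * i by ring, Nat.mul_div_cancel _ hipos]; exact hδ)
    (by rw [hw]; exact ⟨A * i, by ring⟩) (by rw [hw]; exact hfeas) (fun _ => 1) (fun _ => by simp) ∅
    (fun l hl => absurd hl (by simp))
  refine ⟨T, h1, h2', h3, fun U hU hs => ?_⟩
  obtain ⟨c, j, hc, hle, -⟩ := h4 U hU hs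
  rw [hw] at hle
  exact ⟨c, j, hc, hle⟩

/-- Blocks for even order, as many as possible of them of pairwise different kinds. -/
theorem exists_bad_even (hrF : (r : F) ≠ 0) (hr2 : r ≠ 2) {Q : QuadraticForm F V} (hnd : NDPolar Q)
    (h2 : Odd (finrank F V) → (2 : F) ≠ 0) {a i : ℕ} (ha : 0 < a) (hi : i = orderOf (Fintype.card F : ZMod r))
    (hie : Even i) {δ : ℕ} (hδ : δ = fixDefect Q i a) (hfeas : a * i + δ ≤ finrank F V) :
    ∃ T : Module.End F V, (∀ v, Q (T v) = Q v) ∧ T ^ r = 1 ∧ (∀ c : F, ∃ v, T v ≠ c • v) ∧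
      ∀ U : Submodule F V, Inv T U → TotSing Q U →
        ∃ c j : ℕ, finrank F U = c + j * i ∧ 2 * c + δ + a * i ≤ finrank F V ∧
          2 * j ≤ a - (if a ≤ (r - 1) / i then a else (r - 1) / i - 1) := by
  classical
  have hipos : 0 < i := hi ▸ ord_pos hrF
  obtain ⟨h, hh⟩ := hie
  obtain ⟨R, y, hR, hy, hyr, hy1, hfree⟩ := exists_block_minus (F := F) (r := r) hrF (h := h) (by omega)
    (by rw [← hi, hh, two_mul])
  have hw : finrank F (Fin (2 * h) → F) = i := by simp; omega
  set t := (r - 1) / i with ht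
  have htpos : 0 < t := by
    refine Nat.div_pos ?_ hipos
    refine Nat.le_of_dvd (by have := hr.out.two_le; omega) (hi ▸ orderOf_dvd_of_pow_eq_one ?_)
    exact ZMod.pow_card_sub_one_eq_one (cast_card_ne_zero hrF)
  obtain ⟨κ, hκ0, hκ⟩ := exists_kinds (F := F) (r := r) hrF
  have ht' : t = (r - 1) / orderOf (Fintype.card F : ZMod r) := by rw [ht, hi]
  let e : Fin a → ℕ := fun l => if hlt : l.1 < t then κ ⟨l.1, ht' ▸ hlt⟩ else κ ⟨t - 1, by omega⟩
  let L : Finset (Fin a) := Finset.univ.filter fun l => l.1 < (if a ≤ t then a else t - 1)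
  have hLcard : L.card = if a ≤ t then a else t - 1 := by
    rw [show L = Finset.univ.filter fun l : Fin a => (l : ℕ) < (if a ≤ t then a else t - 1) from rfl,
      Fin.card_filter_val_lt]
    split_ifs <;> omega
  obtain ⟨T, h1, h2', h3, h4⟩ := exists_bad_of_blocks hrF hr2 hnd h2 ha hi hR hy hyr hy1 hfree (δ := δ)
    (by rw [hw, Nat.mul_div_cancel _ hipos]; exact hδ) (by rw [hw]; exact ⟨a * h, by rw [hh]; ring⟩)
    (by rw [hw]; exact hfeas) e (fun l => by simp only [e]; split_ifs <;> exact hκ0 _) L (fun l hl => by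
      simp only [L, Finset.mem_filter, Finset.mem_univ, true_and] at hl
      refine ⟨hw, fun l' hne n heq => ?_⟩
      have hlt : l.1 < t := by split_ifs at hl <;> omega
      simp only [e, dif_pos hlt] at heq
      split_ifs at heq with h'
      · exact hne (Fin.ext (Fin.mk.inj_iff.1 (hκ _ _ n heq)).symm)
      · have := Fin.mk.inj_iff.1 (hκ _ _ n heq)
        have := l'.2
        split_ifs at hl <;> omega)
  refine ⟨T, h1, h2', h3, fun U hU hs => ?_⟩
  obtain ⟨c, j, hc, hle, hj⟩ := h4 U hU hs
  rw [hw] at hle hj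
  rw [hLcard, ← mul_assoc] at hj
  exact ⟨c, j, hc, hle, Nat.le_of_mul_le_mul_right hj hipos⟩

end CfsgLib.PrimeFix.Quad
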