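import Mathlib
import Cfsg.Agent.Lib.PrimeFix.QuadSplit
import Cfsg.Agent.Lib.PrimeFix.OrthModel
import Cfsg.Agent.Lib.PrimeFix.HypCount

/-!
Invariant hyperbolic subspaces of isometries of odd prime order of a space of plus type.
-/

set_option autoImplicit false

namespace CfsgLib.PrimeFix.Quad

open Module QuadraticMap
open CfsgLib.Classical.Quad (NDPolar)
open CfsgLib.RootCount (IsPlus)

/-- An admissible number `b` of moving blocks inside an invariant hyperbolic subspace of dimension `m`. -/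
def Admissible (n i m a b : ℕ) : Prop :=
  b * i ≤ m ∧ m - b * i + a * i ≤ n ∧ (Odd i → Even b) ∧
    (Even i → (m = b * i → Even b) ∧ (m - b * i + a * i = n → b % 2 = a % 2))

/-- The criterion for invariant hyperbolic subspaces. -/
def HypCrit (n i c m : ℕ) : Prop :=
  (Odd i ∧ c ≤ m ∧ m % c ≤ n % c) ∨
    (Even i ∧ ((n % c = 0 ∧ (Odd (n / i) ∨ (m % c = 0 ∧ Even (m / i)))) ∨
      (i ≤ m ∧ ((m % c < n % c ∧ 0 < m % c) ∨
        (n % c = m % c ∧ 0 < m % c ∧ Even ((n + m - 2 * (n % c)) / i)) ∨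
        (0 < n % c ∧ m % c = 0 ∧ Even (m / i))))))

theorem admissible_odd {n i c m a : ℕ} (hio : Odd i) (hc : c = 2 * i) (hmn : 2 * m < n)
    (hcm : c ≤ m) (hk : m % c ≤ n % c) (ha : Even a) (han : a * i ≤ n) :
    ∃ b, b ≤ a ∧ Admissible n i m a b := by
  obtain ⟨A, rfl⟩ := ha
  have hcpos : 0 < c := by have := hio.pos; omega
  have hm := Nat.div_add_mod m c
  have hn := Nat.div_add_mod n c
  have hkl := Nat.mod_lt n hcpos
  rw [mul_comm c (m / c)] at hm
  rw [mul_comm c (n / c)] at hn
  have hAc : (A + A) * i = A * c := by rw [hc]; ring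
  have hAN : A ≤ n / c := (Nat.le_div_iff_mul_le hcpos).2 (hAc ▸ han)
  set M := m / c
  have hB : ∀ B, (B + B) * i = B * c := fun B => by rw [hc]; ring
  have hno : ∀ P : Prop, Even i → P := fun P h => absurd h (Nat.not_even_iff_odd.2 hio)
  rcases Nat.lt_or_ge A M with hlt | hge
  · have h1 : (A + 1) * c ≤ M * c := Nat.mul_le_mul_right c hlt
    rw [add_mul, one_mul] at h1
    refine ⟨A + A, le_rfl, ?_, ?_, fun _ => ⟨A, rfl⟩, hno _⟩ <;> rw [hAc] <;> omega
  · refine ⟨M + M, by omega, ?_, ?_, fun _ => ⟨M, rfl⟩, hno _⟩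
    · rw [hB]; omega
    · rw [hB, hAc]
      have := Nat.mul_le_mul_right c hAN
      omega

theorem admissible_even {n i m a : ℕ} (hie : Even i) (hipos : 0 < i) (hmn : 2 * m < n) (hn2 : n % 2 = 0)
    (hcrit : HypCrit n i i m) (han : a * i ≤ n) (hfeas : a * i = n → Even a) :
    ∃ b, b ≤ a ∧ Admissible n i m a b := by
  have hm := Nat.div_add_mod m i
  have hn := Nat.div_add_mod n i
  have hkl := Nat.mod_lt n hipos
  have hml := Nat.mod_lt m hipos
  rw [mul_comm i (m / i)] at hm
  rw [mul_comm i (n / i)] at hn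
  have haN : a ≤ n / i := (Nat.le_div_iff_mul_le hipos).2 han
  have hno : ∀ b : ℕ, Odd i → Even b := fun b h => absurd hie (Nat.not_even_iff_odd.2 h)
  obtain ⟨ho, -⟩ | ⟨-, hcrit⟩ := hcrit
  · exact absurd hie (Nat.not_even_iff_odd.2 ho)
  set M := m / i with hM
  set N := n / i with hN
  set l := m % i
  set k := n % i
  by_cases haM : a * i < m
  · refine ⟨a, le_rfl, haM.le, by omega, hno a, fun _ => ⟨fun h => absurd h (by omega), fun _ => rfl⟩⟩
  have hMa : M ≤ a := by
    by_contra h
    have h1 : (a + 1) * i ≤ M * i := Nat.mul_le_mul_right i (by omega)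
    rw [add_mul, one_mul] at h1
    omega
  obtain ⟨g, hg⟩ : ∃ g, N = a + g := ⟨N - a, by omega⟩
  have hNi : N * i = a * i + g * i := by rw [hg, add_mul]
  have hMi : M * i ≤ a * i := Nat.mul_le_mul_right i hMa
  -- all blocks inside
  by_cases hfull : (0 < l ∨ M % 2 = 0) ∧ (l < k + g * i ∨ (l = k + g * i ∧ M % 2 = a % 2))
  · refine ⟨M, hMa, by omega, by omega, hno M, fun _ => ⟨fun h => Nat.even_iff.2 (by omega), fun h => ?_⟩⟩
    omega
  -- one block fewer
  have hl : l = 0 ∧ M % 2 = 1 ∧ (2 ≤ g ∨ (g = 1 ∧ (0 < k ∨ N % 2 = 1))) := by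
    rcases (by omega : 2 ≤ g ∨ g = 1 ∨ g = 0) with hg2 | rfl | rfl
    · have : 2 * i ≤ g * i := Nat.mul_le_mul_right i hg2
      omega
    · rw [one_mul] at hfull
      rw [Nat.odd_iff, Nat.even_iff] at hcrit
      omega
    · exfalso
      rw [zero_mul, add_zero] at hfull hNi
      have hNe : k = 0 → N % 2 = 0 := fun hk => by
        have := Nat.even_iff.1 (hfeas (by omega))
        omega
      rw [Nat.odd_iff, Nat.even_iff] at hcrit
      rcases hcrit with ⟨hk, hc⟩ | ⟨-, hc | ⟨hkl', hl0, hev⟩ | ⟨hk, hl0, hev⟩⟩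
      · have := hNe hk
        omega
      · omega
      · have hdiv : (n + m - 2 * k) / i = N + M := by
          rw [show n + m - 2 * k = (N + M) * i by rw [add_mul]; omega, Nat.mul_div_cancel _ hipos]
        rw [Nat.even_iff, hdiv] at hev
        omega
      · omega
  obtain ⟨hl0, hModd, hg'⟩ := hl
  have hMpos : 0 < M := Nat.pos_of_ne_zero fun h => by simp [h] at hModd
  have hb : (M - 1) * i = M * i - i := by rw [Nat.sub_mul, one_mul]
  have hMi' : i ≤ M * i := Nat.le_mul_of_pos_left i hMpos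
  refine ⟨M - 1, by omega, by omega, ?_, hno _, fun _ => ⟨fun h => absurd h (by omega), fun h => ?_⟩⟩
  · rcases hg' with hg2 | ⟨rfl, hk1⟩
    · have : 2 * i ≤ g * i := Nat.mul_le_mul_right i hg2
      omega
    · omega
  · rcases hg' with hg2 | ⟨rfl, hk1⟩
    · have : 2 * i ≤ g * i := Nat.mul_le_mul_right i hg2
      omega
    · omega

theorem exists_bad_count {n i c m : ℕ} (hipos : 0 < i) (hc : c = if Even i then i else 2 * i) (hn2 : n % 2 = 0)
    (hmn : 2 * m < n)
    (hlarge : m < c → c ≤ n ∧ (n % c ≠ 0 → n % c < m ∨ (n % c = m ∧ Even i ∧ (n / i) % 2 = 1)) ∧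
      (Odd i → n % c < m)) (hcrit : ¬ HypCrit n i c m) :
    ∃ a, 0 < a ∧ (Odd i → Even a) ∧ a * i + (if Even i ∧ a % 2 = 1 then 2 else 0) ≤ n ∧
      ∀ b, ¬ Admissible n i m a b := by
  have hcpos : 0 < c := by rw [hc]; split_ifs <;> omega
  have hm := Nat.div_add_mod m c
  have hn := Nat.div_add_mod n c
  have hkl := Nat.mod_lt n hcpos
  have hml := Nat.mod_lt m hcpos
  rw [mul_comm c (m / c)] at hm
  rw [mul_comm c (n / c)] at hn
  have hNpos : 0 < n / c := by
    refine Nat.div_pos ?_ hcpos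
    by_cases hcm : c ≤ m
    · omega
    · exact (hlarge (by omega)).1
  rcases Nat.even_or_odd i with hie | hio
  · rw [if_pos hie] at hc
    subst hc
    have hk2 : n % c % 2 = 0 := by
      obtain ⟨h, hh⟩ := hie
      rw [Nat.mod_mod_of_dvd _ ⟨h, by omega⟩]; exact hn2
    refine ⟨n / c, hNpos, fun ho => absurd hie (Nat.not_even_iff_odd.2 ho), ?_, fun b ⟨hb, hbn, _, hpar⟩ => ?_⟩
    · split_ifs with hodd
      · have hk : n % c ≠ 0 := fun hk => hcrit (Or.inr ⟨hie, Or.inl ⟨hk, Or.inl (Nat.odd_iff.2 hodd.2)⟩⟩)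
        omega
      · omega
    · obtain ⟨hp0, hp1⟩ := hpar hie
      set N := n / c with hN
      set M := m / c with hM
      set l := m % c
      set k := n % c
      obtain ⟨hbM, hbl⟩ : b = M ∧ m - b * c = l := by
        have hlt : m - b * c < c := by omega
        have h0 : m = (m - b * c) + b * c := by omega
        refine ⟨?_, ?_⟩
        · show b = m / c
          rw [h0, Nat.add_mul_div_right _ _ hcpos, Nat.div_eq_of_lt hlt, zero_add]
        · show m - b * c = m % c
          conv_rhs => rw [h0, Nat.add_mul_mod_self_right, Nat.mod_eq_of_lt hlt]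
      rw [hbl] at hbn hp1
      subst hbM
      have hne : ∀ P : Prop, P → ¬ (P → False) := fun P h h' => h' h
      by_cases hl0 : l = 0
      · have hMe : Even M := hp0 (by omega)
        by_cases hk : k = 0
        · exact hcrit (Or.inr ⟨hie, Or.inl ⟨hk, Or.inr ⟨hl0, hMe⟩⟩⟩)
        · refine hcrit (Or.inr ⟨hie, Or.inr ⟨?_, Or.inr (Or.inr ⟨Nat.pos_of_ne_zero hk, hl0, hMe⟩)⟩⟩)
          by_contra him
          have : l = m := Nat.mod_eq_of_lt (by omega)
          omega
      · by_cases him : c ≤ m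
        · rcases (by omega : l < k ∨ l = k) with h | h
          · exact hcrit (Or.inr ⟨hie, Or.inr ⟨him, Or.inl ⟨h, by omega⟩⟩⟩)
          · refine hcrit (Or.inr ⟨hie, Or.inr ⟨him, Or.inr (Or.inl ⟨h.symm, by omega, ?_⟩)⟩⟩)
            have hdiv : (n + m - 2 * k) / c = N + M := by
              rw [show n + m - 2 * k = (N + M) * c by rw [add_mul]; omega, Nat.mul_div_cancel _ hcpos]
            rw [Nat.even_iff, hdiv]
            have := hp1 (by omega)
            omega
        · have hlm : l = m := Nat.mod_eq_of_lt (by omega)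
          have hb0 : M = 0 := Nat.div_eq_of_lt (by omega)
          rcases (hlarge (by omega)).2.1 (by omega) with h | ⟨h, -, hodd⟩
          · omega
          · have := hp1 (by omega)
            omega
  · rw [if_neg (Nat.not_even_iff_odd.2 hio)] at hc
    have hB : ∀ B, (B + B) * i = B * c := fun B => by rw [hc]; ring
    refine ⟨n / c + n / c, by omega, fun _ => ⟨_, rfl⟩, ?_, fun b ⟨hb, hbn, hpar, _⟩ => ?_⟩
    · rw [if_neg (fun h => Nat.not_even_iff_odd.2 hio h.1), hB]; omega
    · obtain ⟨B, rfl⟩ := hpar hio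
      rw [hB] at hb hbn
      rw [hB] at hbn
      set N := n / c
      have hlt : m - B * c < c := by omega
      have hl : m % c = m - B * c := by
        conv_lhs => rw [show m = (m - B * c) + B * c by omega, Nat.add_mul_mod_self_right, Nat.mod_eq_of_lt hlt]
      by_cases hcm : c ≤ m
      · exact hcrit (Or.inl ⟨hio, hcm, by omega⟩)
      · have h1 := (hlarge (by omega)).2.2 hio
        rw [Nat.mod_eq_of_lt (show m < c by omega)] at hl
        omega

variable {F : Type*} [Field F] [Fintype F] {r : ℕ} [hr : Fact r.Prime]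
variable {V : Type*} [AddCommGroup V] [Module F V] [FiniteDimensional F V] {Q : QuadraticForm F V}

omit [Fintype F] in
/-- An orthogonal sum of nondegenerate subspaces. -/
theorem ndPolar_sup {U U' : Submodule F V} (hU : NDPolar (Q.comp U.subtype)) (hU' : NDPolar (Q.comp U'.subtype))
    (ho : ∀ x ∈ U, ∀ y ∈ U', polar Q x y = 0) : NDPolar (Q.comp (U ⊔ U').subtype) ∧ U ⊓ U' = ⊥ := by
  refine ⟨fun x hx => ?_, (Submodule.eq_bot_iff _).2 fun v hv => congrArg Subtype.val (hU ⟨v, hv.1⟩ fun w => ?_)⟩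
  · obtain ⟨a, ha, b, hb, hab⟩ := Submodule.mem_sup.1 x.2
    have ha0 : a = 0 := congrArg Subtype.val (hU ⟨a, ha⟩ fun w => by
      show polar Q a (w : V) = 0
      have h : polar Q (x : V) (w : V) = 0 := hx ⟨w, Submodule.mem_sup_left w.2⟩
      rwa [← hab, polar_add_left, polar_comm Q b, ho _ w.2 b hb, add_zero] at h)
    have hb0 : b = 0 := congrArg Subtype.val (hU' ⟨b, hb⟩ fun w => by
      show polar Q b (w : V) = 0
      have h : polar Q (x : V) (w : V) = 0 := hx ⟨w, Submodule.mem_sup_right w.2⟩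
      rwa [← hab, polar_add_left, ho a ha _ w.2, zero_add] at h)
    exact Subtype.ext (by rw [← hab, ha0, hb0, add_zero]; rfl)
  · show polar Q v (w : V) = 0
    rw [polar_comm]
    exact ho _ w.2 v hv.2

/-- The type of an orthogonal sum of two subspaces. -/
theorem isPlus_sup {U U' : Submodule F V} (hU : NDPolar (Q.comp U.subtype)) (hU' : NDPolar (Q.comp U'.subtype))
    (ho : ∀ x ∈ U, ∀ y ∈ U', polar Q x y = 0) (he : Even (finrank F U)) (he' : Even (finrank F U')) :
    IsPlus (Q.comp (U ⊔ U').subtype) ↔ (IsPlus (Q.comp U.subtype) ↔ IsPlus (Q.comp U'.subtype)) := by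
  obtain ⟨hnd, hdisj⟩ := ndPolar_sup hU hU' ho
  have e := Submodule.comapSubtypeEquivOfLe (le_sup_left : U ≤ U ⊔ U')
  have e' := Submodule.comapSubtypeEquivOfLe (le_sup_right : U' ≤ U ⊔ U')
  have h := isPlus_iff_of_decomp (Q := Q.comp (U ⊔ U').subtype) (C := U.comap (U ⊔ U').subtype)
    (D := U'.comap (U ⊔ U').subtype) hnd (eq_top_iff.2 fun x _ => by
      obtain ⟨a, ha, b, hb, hab⟩ := Submodule.mem_sup.1 x.2
      exact Submodule.mem_sup.2 ⟨⟨a, Submodule.mem_sup_left ha⟩, ha, ⟨b, Submodule.mem_sup_right hb⟩, hb,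
        Subtype.ext hab⟩)
    ((Submodule.eq_bot_iff _).2 fun x hx => Subtype.ext ((Submodule.eq_bot_iff _).1 hdisj _ ⟨hx.1, hx.2⟩))
    (fun c hc d hd => ho _ hc _ hd) (e.finrank_eq ▸ he) (e'.finrank_eq ▸ he')
  rw [h, isPlus_sub_iff le_sup_left, isPlus_sub_iff le_sup_right]

/-- The fixed space of an isometry of a space of plus type. -/
theorem plus_fixed_type {p : ℕ} [Fact p.Prime] [CharP F p] (hrp : r ≠ p) (hr2 : r ≠ 2) (hnd : NDPolar Q)
    (hp : IsPlus Q) (T : Module.End F V) (hT : ∀ v, Q (T v) = Q v) (hTr : T ^ r = 1) {i : ℕ}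
    (hi : i = orderOf (Fintype.card F : ZMod r)) :
    ∃ (D : Submodule F V) (a : ℕ), Inv T D ∧ Fpf T D ∧ NDPolar (Q.comp D.subtype) ∧
      NDPolar (Q.comp (LinearMap.ker (T - 1)).subtype) ∧
      (∀ u ∈ LinearMap.ker (T - 1), ∀ w ∈ D, polar Q u w = 0) ∧ finrank F D = i * a ∧
      finrank F (LinearMap.ker (T - 1)) + i * a = finrank F V ∧ Even (finrank F (LinearMap.ker (T - 1))) ∧
      (Odd i → Even a ∧ IsPlus (Q.comp (LinearMap.ker (T - 1)).subtype)) ∧
      (Even i → (IsPlus (Q.comp (LinearMap.ker (T - 1)).subtype) ↔ Even a)) := by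
  obtain ⟨D, a, hDinv, hfree, hsum, hdisj, hCD, hndC, hndD, ha, hdim⟩ := fixed_data (p := p) hrp hnd hT hTr
  rw [← hi] at ha
  obtain ⟨hto, hte⟩ := fpf_type (p := p) hrp hr2 hT hTr hndD hDinv hfree hi ha
  have hev : Even (finrank F V) := by
    obtain ⟨U, -, hU⟩ := hp
    exact ⟨finrank F U, by omega⟩
  have hevD : Even (finrank F D) := by
    rw [ha]
    rcases Nat.even_or_odd i with he | ho
    · exact he.mul_right a
    · exact (hto ho).1.mul_left i
  have hevC : Even (finrank F (LinearMap.ker (T - 1))) := by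
    rw [← hdim, Nat.even_add] at hev
    exact hev.2 hevD
  have hiff := isPlus_iff_of_decomp hnd hsum hdisj hCD hevC hevD
  refine ⟨D, a, hDinv, hfree, hndD, hndC, hCD, ha, by omega, hevC,
    fun ho => ⟨(hto ho).1, (hiff.1 hp).2 (hto ho).2⟩, fun he => ?_⟩
  rw [← hte he]
  exact hiff.1 hp

/-- Invariant hyperbolic subspaces from an admissible number of blocks. -/
theorem exists_hyp_of_crit {p : ℕ} [Fact p.Prime] [CharP F p] (hrp : r ≠ p) (hr2 : r ≠ 2) (hnd : NDPolar Q)
    (hp : IsPlus Q) (T : Module.End F V) (hT : ∀ v, Q (T v) = Q v) (hTr : T ^ r = 1) {m i c : ℕ}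
    (hi : i = orderOf (Fintype.card F : ZMod r)) (hc : c = if Even i then i else 2 * i) (hme : Even m)
    (hmn : 2 * m < finrank F V) (hcrit : HypCrit (finrank F V) i c m) :
    ∃ W : Submodule F V, IsHypSub Q m W ∧ ∀ w ∈ W, T w ∈ W := by
  have hrF : (r : F) ≠ 0 := CfsgLib.LinFix.natCast_ne_zero_of_ne hrp
  have hipos : 0 < i := hi ▸ ord_pos hrF
  obtain ⟨D, a, hDinv, hfree, hndD, hndC, hCD, ha, hdim, hevC, hodd, heven⟩ :=
    plus_fixed_type (p := p) hrp hr2 hnd hp T hT hTr hi
  have hn2 : finrank F V % 2 = 0 := by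
    obtain ⟨U, -, hU⟩ := hp
    omega
  obtain ⟨b, hba, hbm, hbn, hbpar, hbtype⟩ : ∃ b, b ≤ a ∧ Admissible (finrank F V) i m a b := by
    rcases Nat.even_or_odd i with he | ho
    · rw [if_pos he] at hc
      subst hc
      refine admissible_even he hipos hmn hn2 hcrit (by rw [mul_comm]; omega) fun h => ?_
      refine (heven he).1 (isPlus_of_finrank_zero ?_)
      rw [mul_comm] at h
      omega
    · rw [if_neg (Nat.not_even_iff_odd.2 ho)] at hc
      rcases hcrit with ⟨-, h1, h2⟩ | ⟨he, -⟩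
      · exact admissible_odd ho hc hmn h1 h2 (hodd ho).1 (by rw [mul_comm]; omega)
      · exact absurd ho (Nat.not_odd_iff_even.2 he)
  obtain ⟨U, hUD, hUinv, hUnd, hdU⟩ : ∃ U : Submodule F V, U ≤ D ∧ Inv T U ∧ NDPolar (Q.comp U.subtype) ∧
      finrank F U = b * i := by
    rcases Nat.even_or_odd i with he | ho
    · have h := exists_nd_inv (p := p) hrp hr2 hT hTr hndD hDinv hfree hi b (by
        rw [if_pos he, ha, mul_comm i]; exact Nat.mul_le_mul_right i hba)
      rwa [if_pos he] at h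
    · obtain ⟨B, rfl⟩ := hbpar ho
      have h := exists_nd_inv (p := p) hrp hr2 hT hTr hndD hDinv hfree hi B (by
        rw [if_neg (Nat.not_even_iff_odd.2 ho), ha, show B * (2 * i) = (B + B) * i by ring, mul_comm i]
        exact Nat.mul_le_mul_right i hba)
      rwa [if_neg (Nat.not_even_iff_odd.2 ho), show B * (2 * i) = (B + B) * i by ring] at h
  obtain ⟨hto, hte⟩ := fpf_type (p := p) hrp hr2 hT hTr hUnd hUinv (hfree.mono hUD) hi (a := b)
    (by rw [hdU, mul_comm])
  have hevU : Even (b * i) := by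
    rcases Nat.even_or_odd i with he | ho
    · exact he.mul_left b
    · exact (hbpar ho).mul_right i
  have heve : Even (m - b * i) := by
    obtain ⟨u, hu⟩ := hme
    obtain ⟨v, hv⟩ := hevU
    exact ⟨u - v, by omega⟩
  have hab : a * i = i * a := mul_comm _ _
  obtain ⟨U', hU'nd, hdU', hU'δ⟩ := exists_nd_sub (Q := Q.comp (LinearMap.ker (T - 1)).subtype) hndC hevC
    (e := m - b * i) (δ := if Odd i ∨ b % 2 = 0 then 0 else 2) (by split_ifs <;> omega) heve (by
      split_ifs with h
      · omega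
      · push Not at h
        obtain ⟨hiodd, hb1⟩ := h
        have hie : Even i := Nat.not_odd_iff_even.1 hiodd
        have hne : m ≠ b * i := fun he => hb1 (Nat.even_iff.1 ((hbtype hie).1 he))
        obtain ⟨u, hu⟩ := heve
        omega) (by
      rcases Nat.lt_or_ge (m - b * i) (finrank F (LinearMap.ker (T - 1))) with h | h
      · exact Or.inl h
      · refine Or.inr ⟨by omega, ?_⟩
        by_cases ho : Odd i
        · rw [if_pos (Or.inl ho)]
          exact defect_of_plus (hodd ho).2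
        · have hie := Nat.not_odd_iff_even.1 ho
          have hpar := (hbtype hie).2 (by omega)
          split_ifs with h'
          · exact defect_of_plus ((heven hie).2 (Nat.even_iff.2 (by have := h'.resolve_left ho; omega)))
          · exact defect_of_not_plus hevC fun hP => h' (Or.inr (by
              have := Nat.even_iff.1 ((heven hie).1 hP); omega)))
  let X := U'.map (LinearMap.ker (T - 1)).subtype
  have hXC : X ≤ LinearMap.ker (T - 1) := Submodule.map_subtype_le _ _
  let EX : U' ≃ₗ[F] X := Submodule.equivMapOfInjective _ (LinearMap.ker (T - 1)).injective_subtype U'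
  have hEX : ∀ x, (EX x : V) = ((x : LinearMap.ker (T - 1)) : V) := fun x => rfl
  have hXnd : NDPolar (Q.comp X.subtype) := fun x hx => by
    obtain ⟨y, rfl⟩ := EX.surjective x
    rw [hU'nd y fun z => hx (EX z), map_zero]
  have hXdefect : defect (Q.comp X.subtype) = if Odd i ∨ b % 2 = 0 then 0 else 2 :=
    (defect_congr (Q' := Q.comp X.subtype) EX fun x => rfl).trans hU'δ
  have hdX : finrank F X = m - b * i := by rw [← EX.finrank_eq, hdU']
  have horth : ∀ x ∈ U, ∀ y ∈ X, polar Q x y = 0 := fun x hx y hy => by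
    rw [polar_comm]; exact hCD y (hXC hy) x (hUD hx)
  obtain ⟨hWnd, hdisj⟩ := ndPolar_sup hUnd hXnd horth
  have hWplus := isPlus_sup hUnd hXnd horth (hdU ▸ hevU) (hdX ▸ heve)
  refine ⟨U ⊔ X, isHypSub_iff.2 ⟨?_, hWnd, hWplus.2 ?_⟩, fun w hw => ?_⟩
  · have h := Submodule.finrank_sup_add_finrank_inf_eq U X
    rw [hdisj, finrank_bot, hdU, hdX] at h
    omega
  · by_cases hpX : IsPlus (Q.comp X.subtype)
    · rw [defect_of_plus hpX] at hXdefect
      refine iff_of_true ?_ hpX
      by_cases ho : Odd i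
      · exact (hto ho).2
      · refine (hte (Nat.not_odd_iff_even.1 ho)).2 (Nat.even_iff.2 ?_)
        split_ifs at hXdefect with h
        exact h.resolve_left ho
    · rw [defect_of_not_plus (hdX ▸ heve) hpX] at hXdefect
      refine iff_of_false ?_ hpX
      split_ifs at hXdefect with h
      push Not at h
      rw [hte (Nat.not_odd_iff_even.1 h.1), Nat.even_iff]
      exact h.2
  · obtain ⟨u, hu, x, hx, rfl⟩ := Submodule.mem_sup.1 hw
    rw [map_add, show T x = x from sub_eq_zero.1 (hXC hx)]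
    exact Submodule.add_mem_sup (hUinv u hu) hx

/-- The block count of an invariant hyperbolic subspace. -/
theorem admissible_of_hyp {p : ℕ} [Fact p.Prime] [CharP F p] (hrp : r ≠ p) (hr2 : r ≠ 2) (hnd : NDPolar Q)
    (hp : IsPlus Q) (T : Module.End F V) (hT : ∀ v, Q (T v) = Q v) (hTr : T ^ r = 1) {m i a : ℕ}
    (hi : i = orderOf (Fintype.card F : ZMod r)) (hker : finrank F (LinearMap.ker (T - 1)) + a * i = finrank F V)
    {W : Submodule F V} (hW : IsHypSub Q m W) (hinv : ∀ w ∈ W, T w ∈ W) :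
    ∃ b, Admissible (finrank F V) i m a b := by
  have hrF : (r : F) ≠ 0 := CfsgLib.LinFix.natCast_ne_zero_of_ne hrp
  have hipos : 0 < i := hi ▸ ord_pos hrF
  obtain ⟨hdW, hndW, hpW⟩ := isHypSub_iff.1 hW
  let T' : Module.End F W := T.restrict hinv
  have hT'k : ∀ (k : ℕ) (w : W), ((T' ^ k) w : V) = (T ^ k) w := fun k => by
    induction k with
    | zero => intro w; rfl
    | succ k ih => intro w; rw [pow_succ', Module.End.mul_apply, pow_succ', Module.End.mul_apply, ← ih]; rfl
  have hT'r : T' ^ r = 1 := LinearMap.ext fun w => Subtype.ext (by rw [hT'k, hTr]; rfl)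
  obtain ⟨D, a', -, -, -, -, -, -, hdim', -, hoddV, hevenV⟩ := plus_fixed_type (p := p) hrp hr2 hnd hp T hT hTr hi
  have haa : a' = a := Nat.eq_of_mul_eq_mul_left hipos (by rw [mul_comm i a]; omega)
  subst haa
  obtain ⟨D', b, -, -, -, -, -, -, hdimW, hevC', hoddW, hevenW⟩ := plus_fixed_type (p := p) hrp hr2 hndW hpW T'
    (fun w => hT w) hT'r hi
  rw [hdW] at hdimW
  set C' := LinearMap.ker (T' - 1)
  let E := C'.map W.subtype
  have hEC : E ≤ LinearMap.ker (T - 1) := by
    rintro _ ⟨w, hw, rfl⟩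
    show T (w : V) - (w : V) = 0
    exact congrArg Subtype.val (show (T' - 1) w = 0 from hw)
  have hdE : finrank F E = finrank F C' := Submodule.finrank_map_subtype_eq _ _
  have hle := Submodule.finrank_mono hEC
  rw [mul_comm i b] at hdimW
  refine ⟨b, by omega, by omega, fun ho => (hoddW ho).1, fun he => ⟨fun h => ?_, fun h => ?_⟩⟩
  · exact (hevenW he).1 (isPlus_of_finrank_zero (by omega))
  · have heq : E = LinearMap.ker (T - 1) := Submodule.eq_of_le_of_finrank_eq hEC (by omega)
    have hiff : IsPlus (Q.comp (LinearMap.ker (T - 1)).subtype) ↔ IsPlus ((Q.comp W.subtype).comp C'.subtype) := by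
      rw [← heq]
      let EC : C' ≃ₗ[F] E := Submodule.equivMapOfInjective _ W.injective_subtype C'
      refine ⟨CfsgLib.RootCount.isPlus_congr _ _ EC.symm fun x => ?_,
        CfsgLib.RootCount.isPlus_congr _ _ EC fun _ => rfl⟩
      show Q ((EC.symm x : W) : V) = Q (x : V)
      rw [show ((EC.symm x : W) : V) = (EC (EC.symm x) : V) from rfl, EC.apply_symm_apply]
    rw [hevenV he, hevenW he, Nat.even_iff, Nat.even_iff] at hiff
    omega

/-- An element without invariant hyperbolic subspaces. -/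
theorem exists_hyp_witness {p : ℕ} [Fact p.Prime] [CharP F p] (hrp : r ≠ p) (hr2 : r ≠ 2) (hnd : NDPolar Q)
    (hp : IsPlus Q) {m i c : ℕ} (hi : i = orderOf (Fintype.card F : ZMod r))
    (hc : c = if Even i then i else 2 * i) (hme : Even m) (hmn : 2 * m < finrank F V)
    (hdvd : r ∣ Nat.card {W : Submodule F V // IsHypSub Q m W})
    (hcrit : ¬ HypCrit (finrank F V) i c m) :
    ∃ T : Module.End F V, (∀ v, Q (T v) = Q v) ∧ T ^ r = 1 ∧ (∀ z : F, ∃ v, T v ≠ z • v) ∧
      ∀ W : Submodule F V, IsHypSub Q m W → ¬ ∀ w ∈ W, T w ∈ W := by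
  have hrF : (r : F) ≠ 0 := CfsgLib.LinFix.natCast_ne_zero_of_ne hrp
  have hipos : 0 < i := hi ▸ ord_pos hrF
  have : Fact (2 < r) := ⟨lt_of_le_of_ne hr.out.two_le (Ne.symm hr2)⟩
  obtain ⟨d, hd⟩ : ∃ d, finrank F V = 2 * d := by
    obtain ⟨U, -, hU⟩ := id hp
    exact ⟨finrank F U, hU.symm⟩
  obtain ⟨μ, rfl⟩ := hme
  have hrq : ¬ r ∣ Fintype.card F := fun h => cast_card_ne_zero hrF ((ZMod.natCast_eq_zero_iff _ _).2 h)
  obtain ⟨s, hs, hpow⟩ := exists_pow_eq_hyp hrq hnd hp hd (by omega : μ ≤ d) (by rwa [two_mul μ])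
  set n := finrank F V
  have hlarge : μ + μ < c → c ≤ n ∧ (n % c ≠ 0 → n % c < μ + μ ∨ (n % c = μ + μ ∧ Even i ∧ (n / i) % 2 = 1)) ∧
      (Odd i → n % c < μ + μ) := by
    intro hlt
    rcases Nat.even_or_odd i with hie | hio
    · rw [if_pos hie] at hc
      subst hc
      obtain ⟨h, hh⟩ := hie
      have hhalf : (Fintype.card F : ZMod r) ^ h = -1 := by
        have hsq : ((Fintype.card F : ZMod r) ^ h) * ((Fintype.card F : ZMod r) ^ h) = 1 := by
          rw [← pow_add, ← hh, hi, pow_orderOf_eq_one]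
        rcases mul_self_eq_one_iff.1 hsq with h1 | h1
        · have := Nat.le_of_dvd (by omega) (orderOf_dvd_of_pow_eq_one h1); omega
        · exact h1
      refine ⟨?_, ?_, fun ho => absurd ho (Nat.not_odd_iff_even.2 ⟨h, hh⟩)⟩ <;>
        rcases hpow with h1 | h1
      · have := Nat.le_of_dvd (by omega) (hi ▸ orderOf_dvd_of_pow_eq_one h1); omega
      rotate_left
      · obtain ⟨u, hu⟩ := hi ▸ orderOf_dvd_of_pow_eq_one h1
        intro _
        left
        have : n % c = 2 * s := by
          rw [hd, show 2 * d = 2 * s + c * (2 * u) by rw [mul_left_comm]; omega, Nat.add_mul_mod_self_left,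
            Nat.mod_eq_of_lt (by omega)]
        omega
      all_goals
        obtain ⟨w, hwodd, hw⟩ : ∃ w, Odd w ∧ d - s - 1 = h * w := by
          generalize d - s - 1 = E at h1 ⊢
          have h2e : 2 * h ∣ E * 2 := by
            rw [two_mul, ← hh, hi]
            exact orderOf_dvd_of_pow_eq_one (by rw [pow_mul, h1, neg_one_sq])
          obtain ⟨w, hw⟩ : h ∣ E := Nat.dvd_of_mul_dvd_mul_left two_pos (by rwa [mul_comm E 2] at h2e)
          refine ⟨w, ?_, hw⟩
          by_contra hwe
          rw [hw, pow_mul, hhalf, (Nat.not_odd_iff_even.1 hwe).neg_one_pow] at h1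
          exact ZMod.neg_one_ne_one h1.symm
        have hn' : n = 2 * (s + 1) + c * w := by
          rw [hd, hh, show (h + h) * w = 2 * (h * w) by ring]
          have : 0 < w := hwodd.pos
          have : 0 < h * w := Nat.mul_pos (by omega) this
          omega
      · intro _
        have hk : n % c = 2 * (s + 1) := by
          rw [hn', Nat.add_mul_mod_self_left, Nat.mod_eq_of_lt (by omega)]
        have hN : n / c = w := by
          rw [hn', Nat.add_mul_div_left _ _ hipos, Nat.div_eq_of_lt (by omega), zero_add]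
        rw [hk, hN]
        rcases (by omega : 2 * (s + 1) < μ + μ ∨ 2 * (s + 1) = μ + μ) with h' | h'
        · exact Or.inl h'
        · exact Or.inr ⟨h', ⟨h, hh⟩, Nat.odd_iff.1 hwodd⟩
      · have : c ≤ c * w := Nat.le_mul_of_pos_right c hwodd.pos
        omega
    · rw [if_neg (Nat.not_even_iff_odd.2 hio)] at hc
      obtain ⟨u, hu⟩ : i ∣ d - s := by
        rcases hpow with h1 | h1
        · exact hi ▸ orderOf_dvd_of_pow_eq_one h1
        · exfalso
          generalize d - s - 1 = E at h1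
          have hdvdE : i ∣ E := (Nat.Coprime.dvd_mul_right hio.coprime_two_right).1
            (hi ▸ orderOf_dvd_of_pow_eq_one (by rw [pow_mul, h1, neg_one_sq]))
          rw [orderOf_dvd_iff_pow_eq_one.1 (hi ▸ hdvdE)] at h1
          exact ZMod.neg_one_ne_one h1.symm
      have hk : n % c = 2 * s := by
        rw [hd, show 2 * d = 2 * s + c * u by rw [hc, mul_assoc]; omega, Nat.add_mul_mod_self_left,
          Nat.mod_eq_of_lt (by omega)]
      have hupos : 0 < i * u := by omega
      have : i ≤ i * u := Nat.le_mul_of_pos_right i (pos_of_mul_pos_right hupos (Nat.zero_le i))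
      exact ⟨by omega, fun _ => Or.inl (by omega), fun _ => by omega⟩
  obtain ⟨a, ha, haev, hfeas, hbad⟩ := exists_bad_count hipos hc (n := n) (m := μ + μ) (by omega) hmn hlarge hcrit
  obtain ⟨T, hker, hT, hTr, hTns⟩ := exists_element (a := a) hrF hr2 hnd
    (fun h => absurd h (Nat.not_odd_iff_even.2 ⟨d, by omega⟩)) ha hi haev (by
      refine le_trans ?_ hfeas
      gcongr
      unfold fixDefect
      rw [if_neg (Nat.not_odd_iff_even.2 (show Even (finrank F V) from ⟨d, by omega⟩))]
      by_cases ho : Odd i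
      · rw [if_pos ho, defect_of_plus hp]; exact Nat.zero_le _
      · rw [if_neg ho]
        by_cases hev : Even a
        · rw [if_pos (iff_of_true hp hev)]; exact Nat.zero_le _
        · rw [if_neg (fun h => hev (h.1 hp)), if_pos ⟨Nat.not_odd_iff_even.1 ho, Nat.not_even_iff.1 hev⟩])
  refine ⟨T, hT, hTr, hTns, fun W hW hinv => ?_⟩
  obtain ⟨b, hb⟩ := admissible_of_hyp (p := p) hrp hr2 hnd hp T hT hTr hi hker hW hinv
  exact hbad b hb

end CfsgLib.PrimeFix.Quad
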