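import Mathlib
import Cfsg.Prelude.Def_GeometricClasses
import Cfsg.Agent.Lib.PrimeFix.Basic
import Cfsg.Agent.Lib.OrthCrit.Basic

/-!
Passing between isometries given as linear maps and elements of the matrix group `Ω`.
-/

set_option autoImplicit false

namespace CfsgLib.PrimeFix.Quad

open QuadraticMap Cfsg
open CfsgLib.Classical.Quad (NDPolar)

variable {F : Type*} [Field F] {ι : Type} [Fintype ι] [DecidableEq ι] {Q : QuadraticForm F (ι → F)}

theorem toLin_isometry {x : GL ι F} (hx : x ∈ Geo.omegaGL ⇑Q) (v : ι → F) :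
    Q (Matrix.toLin' (x : Matrix ι ι F) v) = Q v := by
  obtain ⟨g, -, rfl⟩ := hx
  rw [Matrix.toLin'_apply]
  exact g.2 v v

theorem toLin_pow (x : GL ι F) (k : ℕ) :
    Matrix.toLin' (x : Matrix ι ι F) ^ k = Matrix.toLin' ((x ^ k : GL ι F) : Matrix ι ι F) := by
  rw [Units.val_pow_eq_pow_val, Matrix.toLin'_pow]

theorem toLin_eq_smul {x : Matrix ι ι F} {z : F} (h : x = z • 1) : Matrix.toLin' x = z • 1 := by
  rw [h, map_smul, Matrix.toLin'_one]; rfl

/-- A power equal to a scalar is a sign. -/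
theorem scalar_sq [Fintype F] (hnd : NDPolar Q) [Nonempty ι] {T : Module.End F (ι → F)} (hT : ∀ v, Q (T v) = Q v) {k : ℕ} {z : F}
    (hz : T ^ k = z • 1) : z * z = 1 := by
  have hk : ∀ (k : ℕ) v, Q ((T ^ k) v) = Q v := fun k => by
    induction k with
    | zero => simp
    | succ k ih => intro v; rw [pow_succ', Module.End.mul_apply, hT, ih]
  obtain ⟨v, hv⟩ := CfsgLib.OrthCrit.exists_Q_ne_zero hnd
  have h := hk k v
  rw [hz, LinearMap.smul_apply, Module.End.one_apply, QuadraticMap.map_smul, smul_eq_mul] at h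
  exact mul_right_cancel₀ hv (by rw [one_mul]; exact h)

/-- An isometry of odd order lies in `Ω`. -/
theorem exists_omega [Fintype F] (hnd : NDPolar Q) (hreg : CfsgLib.OrthCrit.Regular F ι) (hn : 2 ≤ Fintype.card ι)
    (T : Module.End F (ι → F)) (hT : ∀ v, Q (T v) = Q v) {r : ℕ} (hr : Odd r) (hTr : T ^ r = 1) :
    ∃ x : GL ι F, x ∈ Geo.omegaGL ⇑Q ∧ x ^ r = 1 ∧ Matrix.toLin' (x : Matrix ι ι F) = T := by
  set M := LinearMap.toMatrix' T
  have hM : M ^ r = 1 := Matrix.toLin'.injective (by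
    rw [Matrix.toLin'_pow, Matrix.toLin'_toMatrix', hTr, Matrix.toLin'_one]; rfl)
  obtain ⟨k, hk⟩ := hr
  have h₁ : M * M ^ (2 * k) = 1 := by rw [← pow_succ', ← hk, hM]
  have h₂ : M ^ (2 * k) * M = 1 := by rw [← pow_succ, ← hk, hM]
  let g : ↥(isometryGroup F ⇑Q) := CfsgLib.OrthSpinor.mkIsometry Q M (M ^ (2 * k)) h₁ h₂ fun v => by
    rw [← Matrix.toLin'_apply, Matrix.toLin'_toMatrix', hT]
  have hgr : g ^ r = 1 := Subtype.ext (Units.ext (by
    rw [SubmonoidClass.coe_pow, Units.val_pow_eq_pow_val]; exact hM))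
  refine ⟨g.1, ⟨g, CfsgLib.OrthCrit.mem_Omega hnd hreg hn ?_ ?_, rfl⟩, ?_, Matrix.toLin'_toMatrix' T⟩
  · have h := congrArg (CfsgLib.OrthCrit.parityHom hnd hreg) hgr
    rw [map_pow, map_one, CfsgLib.OrthCrit.parityHom_apply, ← ofAdd_nsmul, ofAdd_eq_one] at h
    rw [hk] at h
    simpa [ZMod.natCast_self, add_smul, mul_comm 2 k, mul_smul, two_smul, CharTwo.add_self_eq_zero] using h
  · intro _
    have h := congrArg (CfsgLib.OrthSpinor.theta (Q := Q) 1) hgr
    rw [map_pow, map_one, hk, pow_succ, pow_mul, Int.units_sq, one_pow, one_mul] at h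
    exact h
  · rw [← SubmonoidClass.coe_pow, hgr]; rfl

/-- An element of odd order modulo scalars becomes one of odd order after a change of sign. -/
theorem exists_normalised [Fintype F] (hnd : NDPolar Q) [Nonempty ι] {r : ℕ} (hr : Odd r) {x : GL ι F}
    (hx : x ∈ Geo.omegaGL ⇑Q) {z : F} (hz : ((x ^ r : GL ι F) : Matrix ι ι F) = z • (1 : Matrix ι ι F)) :
    ∃ T : Module.End F (ι → F), (∀ v, Q (T v) = Q v) ∧ T ^ r = 1 ∧
      ∀ W : Submodule F (ι → F), (∀ w ∈ W, T w ∈ W) → W.map (Matrix.toLin' (x : Matrix ι ι F)) ≤ W := by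
  set S := Matrix.toLin' (x : Matrix ι ι F)
  have hS : S ^ r = z • 1 := by rw [toLin_pow, toLin_eq_smul hz]
  have hzz := scalar_sq hnd (toLin_isometry hx) hS
  refine ⟨z • S, fun v => ?_, ?_, fun W hW => ?_⟩
  · rw [LinearMap.smul_apply, QuadraticMap.map_smul, smul_eq_mul, hzz, one_mul, toLin_isometry hx]
  · rw [smul_pow, hS, smul_smul, ← pow_succ]
    obtain ⟨k, rfl⟩ := hr
    rw [show 2 * k + 1 + 1 = 2 * (k + 1) by ring, pow_mul, pow_two, hzz, one_pow, one_smul]
  · rintro _ ⟨w, hw, rfl⟩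
    have h := W.smul_mem z (hW w hw)
    rwa [LinearMap.smul_apply, smul_smul, hzz, one_smul] at h

/-- The square of an element whose square is scalar is a sign. -/
theorem act_act_sign [Fintype F] (hnd : NDPolar Q) [Nonempty ι] {g : ↥(isometryGroup F ⇑Q)} {z : F}
    (hz : (((g : GL ι F) ^ 2 : GL ι F) : Matrix ι ι F) = z • (1 : Matrix ι ι F)) :
    (∀ v, CfsgLib.OrthSpinor.act Q g (CfsgLib.OrthSpinor.act Q g v) = v) ∨
      ∀ v, CfsgLib.OrthSpinor.act Q g (CfsgLib.OrthSpinor.act Q g v) = -v := by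
  have hg : ∀ v, CfsgLib.OrthSpinor.act Q g (CfsgLib.OrthSpinor.act Q g v) = z • v := fun v => by
    rw [CfsgLib.OrthSpinor.act, CfsgLib.OrthSpinor.act, Matrix.mulVec_mulVec, ← Units.val_mul, ← pow_two, hz,
      Matrix.smul_mulVec, Matrix.one_mulVec]
  obtain ⟨v, hv⟩ := CfsgLib.OrthCrit.exists_Q_ne_zero hnd
  have h := CfsgLib.OrthSpinor.Q_act Q g (CfsgLib.OrthSpinor.act Q g v)
  rw [hg, CfsgLib.OrthSpinor.Q_act, QuadraticMap.map_smul, smul_eq_mul] at h
  have hzz : z * z = 1 := mul_right_cancel₀ hv (by rw [one_mul]; exact h)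
  rcases mul_self_eq_one_iff.1 hzz with rfl | rfl
  · exact Or.inl fun v => (hg v).trans (one_smul _ v)
  · exact Or.inr fun v => (hg v).trans (neg_one_smul _ v)

end CfsgLib.PrimeFix.Quad
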