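import Mathlib
import Cfsg.Agent.Lib.PrimeFix.Quad
import Cfsg.Agent.Lib.OrthCrit.Basic

/-!
The spinor norm of an involution and of a complex structure, and the types of the spaces they move.
-/

set_option autoImplicit false

namespace CfsgLib.PrimeFix.Quad

open Module QuadraticMap Cfsg
open CfsgLib.Classical.Quad (NDPolar)
open CfsgLib.RootCount (IsPlus)
open CfsgLib.OrthCrit (parity parity_mul parity_reflection parity_one)

variable {F : Type*} [Field F] {ι : Type} [Fintype ι] [DecidableEq ι] {Q : QuadraticForm F (ι → F)}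

theorem units_mul_eq_one (a b : ℤˣ) : a * b = 1 ↔ (a = 1 ↔ b = 1) := by
  rcases Int.units_eq_one_or a with rfl | rfl <;> rcases Int.units_eq_one_or b with rfl | rfl <;> decide

/-- `W` is nondegenerate. -/
def NDOn (Q : QuadraticForm F (ι → F)) (W : Submodule F (ι → F)) : Prop :=
  ∀ u ∈ W, (∀ w ∈ W, polar Q u w = 0) → u = 0

omit [DecidableEq ι] in
theorem exists_aniso_mem (h2 : (2 : F) ≠ 0) {W : Submodule F (ι → F)} (hW : NDOn Q W) (hd : 0 < finrank F W) :
    ∃ v ∈ W, Q v ≠ 0 := by
  by_contra! h
  obtain ⟨v, hv, hv0⟩ := Submodule.exists_mem_ne_zero_of_ne_bot (p := W) (fun h0 => by rw [h0, finrank_bot] at hd; omega)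
  refine hv0 (hW v hv fun w hw => ?_)
  rw [polar, h _ (W.add_mem hv hw), h v hv, h w hw]; ring

/-- The part of `W` orthogonal to two vectors. -/
def cut (Q : QuadraticForm F (ι → F)) (W : Submodule F (ι → F)) (a b : ι → F) : Submodule F (ι → F) :=
  W ⊓ (LinearMap.ker (polarBilin Q a) ⊓ LinearMap.ker (polarBilin Q b))

omit [DecidableEq ι] in
theorem mem_cut {W : Submodule F (ι → F)} {a b x : ι → F} :
    x ∈ cut Q W a b ↔ x ∈ W ∧ polar Q a x = 0 ∧ polar Q b x = 0 := Iff.rfl

variable (h2 : (2 : F) ≠ 0)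
include h2

omit [DecidableEq ι] in
/-- Removing an orthogonal pair of anisotropic vectors. -/
theorem cut_spec {W : Submodule F (ι → F)} (hW : NDOn Q W) {a b : ι → F} (ha : a ∈ W) (hb : b ∈ W)
    (ha0 : Q a ≠ 0) (hb0 : Q b ≠ 0) (hab : polar Q a b = 0) :
    NDOn Q (cut Q W a b) ∧ finrank F ↥(cut Q W a b) + 2 = finrank F W ∧
      (∀ w ∈ W, ∃ s t : F, ∃ x ∈ cut Q W a b, w = s • a + t • b + x) := by
  have hdec : ∀ w ∈ W, ∃ s t : F, ∃ x ∈ cut Q W a b, w = s • a + t • b + x := fun w hw => by
    refine ⟨polar Q a w / (2 * Q a), polar Q b w / (2 * Q b),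
      w - (polar Q a w / (2 * Q a)) • a - (polar Q b w / (2 * Q b)) • b,
      mem_cut.2 ⟨W.sub_mem (W.sub_mem hw (W.smul_mem _ ha)) (W.smul_mem _ hb), ?_, ?_⟩, by abel⟩
    · simp only [polar_sub_right, polar_smul_right, CfsgLib.Classical.Quad.polar_self', hab, smul_eq_mul]
      field_simp; ring
    · simp only [polar_sub_right, polar_smul_right, CfsgLib.Classical.Quad.polar_self', polar_comm Q b a, hab,
        smul_eq_mul]
      field_simp; ring
  refine ⟨fun u hu h => hW u hu.1 fun w hw => ?_, ?_, hdec⟩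
  · obtain ⟨s, t, x, hx, rfl⟩ := hdec w hw
    rw [polar_add_right, polar_add_right, polar_smul_right, polar_smul_right, h x hx, polar_comm Q u a,
      polar_comm Q u b, (mem_cut.1 hu).2.1, (mem_cut.1 hu).2.2]
    simp
  · let L : W →ₗ[F] F × F := ((polarBilin Q a).prod (polarBilin Q b)).comp W.subtype
    have hr : LinearMap.range L = ⊤ := by
      rw [LinearMap.range_eq_top]
      intro p
      refine ⟨(p.1 / (2 * Q a)) • ⟨a, ha⟩ + (p.2 / (2 * Q b)) • ⟨b, hb⟩, ?_⟩
      show (polar Q a ((p.1 / (2 * Q a)) • a + (p.2 / (2 * Q b)) • b),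
        polar Q b ((p.1 / (2 * Q a)) • a + (p.2 / (2 * Q b)) • b)) = p
      simp only [polar_add_right, polar_smul_right, CfsgLib.Classical.Quad.polar_self', hab, polar_comm Q b a,
        smul_eq_mul, mul_zero, add_zero, zero_add]
      exact Prod.ext (by field_simp) (by field_simp)
    have hk : LinearMap.ker L = (cut Q W a b).comap W.subtype := by
      ext x
      simp [L, mem_cut]
    have h := LinearMap.finrank_range_add_finrank_ker L
    rw [hr, finrank_top, finrank_prod, finrank_self, hk,
      (Submodule.comapSubtypeEquivOfLe (show cut Q W a b ≤ W from inf_le_left)).finrank_eq] at h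
    omega

omit [DecidableEq ι] in
/-- An orthogonal pair spans a plane of plus type exactly when minus the product of the values is a square. -/
theorem plane_spec {a b : ι → F} (ha0 : Q a ≠ 0) (hb0 : Q b ≠ 0) (hab : polar Q a b = 0) :
    finrank F ↥(Submodule.span F {a, b}) = 2 ∧ NDOn Q (Submodule.span F {a, b}) ∧
      (IsPlus (Q.comp (Submodule.span F {a, b}).subtype) ↔ IsSquare (-(Q a * Q b))) := by
  have hQ : ∀ s t : F, Q (s • a + t • b) = s * s * Q a + t * t * Q b := fun s t => by
    rw [QuadraticMap.map_add (⇑Q), QuadraticMap.map_smul, QuadraticMap.map_smul, polar_smul_left, polar_smul_right,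
      hab]
    simp
  have hli : LinearIndependent F ![a, b] := by
    rw [LinearIndependent.pair_iff]
    intro s t h
    have h1 := congrArg (polar Q a) h
    have h3 := congrArg (polar Q b) h
    simp only [polar_add_right, polar_smul_right, CfsgLib.Classical.Quad.polar_self', hab, polar_comm Q b a,
      smul_eq_mul, mul_zero, add_zero, zero_add, polar_zero_right] at h1 h3
    exact ⟨(mul_eq_zero.1 h1).resolve_right (mul_ne_zero h2 ha0),
      (mul_eq_zero.1 h3).resolve_right (mul_ne_zero h2 hb0)⟩
  have hspan : Submodule.span F ({a, b} : Set (ι → F)) = Submodule.span F (Set.range ![a, b]) := by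
    rw [Matrix.range_cons_cons_empty]
  have hd : finrank F ↥(Submodule.span F ({a, b} : Set (ι → F))) = 2 := by
    rw [hspan, finrank_span_eq_card hli, Fintype.card_fin]
  refine ⟨hd, fun u hu h => ?_, ?_⟩
  · obtain ⟨s, t, rfl⟩ := Submodule.mem_span_pair.1 hu
    have h1 := h a (Submodule.mem_span_of_mem (by simp))
    have h3 := h b (Submodule.mem_span_of_mem (by simp))
    simp only [polar_add_left, polar_smul_left, CfsgLib.Classical.Quad.polar_self', hab, polar_comm Q b a,
      smul_eq_mul, mul_zero, add_zero, zero_add] at h1 h3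
    have hs : s = 0 := (mul_eq_zero.1 h1).resolve_right (mul_ne_zero h2 ha0)
    have ht : t = 0 := (mul_eq_zero.1 h3).resolve_right (mul_ne_zero h2 hb0)
    simp [hs, ht]
  constructor
  · rintro ⟨U, hU, hdU⟩
    rw [hd] at hdU
    obtain ⟨u, hu, hu0⟩ := Submodule.exists_mem_ne_zero_of_ne_bot (p := U) (fun h0 => by
      rw [h0, finrank_bot] at hdU; omega)
    obtain ⟨s, t, hst⟩ := Submodule.mem_span_pair.1 u.2
    have h0 : Q (s • a + t • b) = 0 := hst ▸ hU u hu
    rw [hQ] at h0
    have ht : t ≠ 0 := by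
      rintro rfl
      have : s = 0 := by simpa [ha0] using h0
      exact hu0 (Subtype.ext (by rw [← hst, this]; simp))
    refine ⟨s * Q a / t, ?_⟩
    field_simp
    linear_combination -h0
  · rintro ⟨c, hc⟩
    let P := Submodule.span F ({a, b} : Set (ι → F))
    have hmem : c • a + Q a • b ∈ P := Submodule.mem_span_pair.2 ⟨c, Q a, rfl⟩
    refine ⟨F ∙ (⟨_, hmem⟩ : P), fun x hx => ?_, ?_⟩
    · obtain ⟨k, rfl⟩ := Submodule.mem_span_singleton.1 hx
      show Q (k • (c • a + Q a • b)) = 0
      rw [QuadraticMap.map_smul, hQ, smul_eq_mul]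
      linear_combination -(k * k * Q a) * hc
    · rw [finrank_span_singleton fun h0 => ha0 ?_, hd]
      have := LinearIndependent.pair_iff.1 hli c (Q a) (congrArg Subtype.val h0)
      exact this.2

omit [DecidableEq ι] in
/-- The type of a nondegenerate subspace from one plane and its orthogonal part. -/
theorem type_cut [Fintype F] {W : Submodule F (ι → F)} (hW : NDOn Q W) {a b : ι → F} (ha : a ∈ W) (hb : b ∈ W)
    (ha0 : Q a ≠ 0) (hb0 : Q b ≠ 0) (hab : polar Q a b = 0) (he : Even (finrank F W)) :
    IsPlus (Q.comp W.subtype) ↔ (IsPlus (Q.comp (cut Q W a b).subtype) ↔ IsSquare (-(Q a * Q b))) := by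
  obtain ⟨hW', hd', hdec⟩ := cut_spec h2 hW ha hb ha0 hb0 hab
  obtain ⟨hdP, -, hP⟩ := plane_spec h2 ha0 hb0 hab
  set P := Submodule.span F ({a, b} : Set (ι → F))
  have hPW : P ≤ W := Submodule.span_le.2 (by rintro x (rfl | rfl) <;> assumption)
  set W' := cut Q W a b
  have hW'W : W' ≤ W := inf_le_left
  have hdisj : W' ⊓ P = ⊥ := (Submodule.eq_bot_iff _).2 fun x hx => hW x (hW'W hx.1) fun w hw => by
    obtain ⟨s, t, x', hx', rfl⟩ := hdec w hw
    obtain ⟨s', t', hst⟩ := Submodule.mem_span_pair.1 hx.2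
    rw [polar_add_right, polar_add_right, polar_smul_right, polar_smul_right, polar_comm Q x a, polar_comm Q x b,
      (mem_cut.1 hx.1).2.1, (mem_cut.1 hx.1).2.2, ← hst, polar_add_left, polar_smul_left, polar_smul_left,
      (mem_cut.1 hx').2.1, (mem_cut.1 hx').2.2]
    simp
  let C := W'.comap W.subtype
  let D := P.comap W.subtype
  have hndW : NDPolar (Q.comp W.subtype) := fun x hx => Subtype.ext (hW x x.2 fun w hw => hx ⟨w, hw⟩)
  have eC := Submodule.comapSubtypeEquivOfLe hW'W
  have eD := Submodule.comapSubtypeEquivOfLe hPW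
  have hsup : C ⊔ D = ⊤ := eq_top_iff.2 fun w _ => by
    obtain ⟨s, t, x, hx, hw⟩ := hdec w w.2
    refine Submodule.mem_sup.2 ⟨⟨x, hW'W hx⟩, hx, ⟨s • a + t • b, W.add_mem (W.smul_mem s ha) (W.smul_mem t hb)⟩,
      Submodule.mem_span_pair.2 ⟨s, t, rfl⟩, Subtype.ext ?_⟩
    show x + (s • a + t • b) = (w : ι → F)
    rw [hw]; abel
  have h := isPlus_iff_of_decomp (Q := Q.comp W.subtype) hndW hsup
    ((Submodule.eq_bot_iff _).2 fun x hx => Subtype.ext ((Submodule.eq_bot_iff _).1 hdisj _ ⟨hx.1, hx.2⟩))
    (fun c hc d hd => by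
      obtain ⟨s, t, hst⟩ := Submodule.mem_span_pair.1 hd
      show polar Q (c : ι → F) (d : ι → F) = 0
      rw [polar_comm, show (d : ι → F) = s • a + t • b from hst.symm, polar_add_left, polar_smul_left, polar_smul_left,
        show polar Q a (c : ι → F) = 0 from (mem_cut.1 hc).2.1, show polar Q b (c : ι → F) = 0 from (mem_cut.1 hc).2.2]
      simp)
    (by rw [eC.finrank_eq]; obtain ⟨u, hu⟩ := he; exact ⟨u - 1, by omega⟩) (by rw [eD.finrank_eq, hdP]; decide)
  rw [h]
  have hiff : ∀ {X : Submodule F (ι → F)} (hX : X ≤ W),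
      IsPlus (V := ↥(X.comap W.subtype)) ((Q.comp W.subtype).comp (X.comap W.subtype).subtype) ↔
        IsPlus (V := ↥X) (Q.comp X.subtype) := by
    intro X hX
    have e := Submodule.comapSubtypeEquivOfLe hX
    constructor
    · rintro ⟨U, hU, hdU⟩
      refine ⟨U.map (Submodule.comapSubtypeEquivOfLe hX).toLinearMap, ?_, ?_⟩
      · rintro _ ⟨x, hx, rfl⟩
        exact hU x hx
      · rw [LinearEquiv.finrank_map_eq, hdU, e.finrank_eq]
    · rintro ⟨U, hU, hdU⟩
      refine ⟨U.map (Submodule.comapSubtypeEquivOfLe hX).symm.toLinearMap, ?_, ?_⟩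
      · rintro _ ⟨x, hx, rfl⟩
        exact hU x hx
      · rw [LinearEquiv.finrank_map_eq, hdU, e.finrank_eq]
  rw [hiff hW'W, hiff hPW, hP]

variable [Fintype F] (hnd : NDPolar Q)
include hnd

theorem isSquare_neg_iff {x : F} (hm : IsSquare (-1 : F)) : IsSquare (-x) ↔ IsSquare x := by
  obtain ⟨s, hs⟩ := hm
  constructor
  · rintro ⟨y, hy⟩
    exact ⟨s * y, by linear_combination (-1 : F) * hy - (y * y) * (-hs)⟩
  · rintro ⟨y, hy⟩
    exact ⟨s * y, by linear_combination (-1 : F) * hy + (y * y) * hs⟩

theorem theta_two {a b : ι → F} (ha : Q a ≠ 0) (hb : Q b ≠ 0) :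
    OrthSpinor.theta (Q := Q) 1 (OrthSpinor.reflection ha * OrthSpinor.reflection hb) = 1 ↔ IsSquare (Q a * Q b) := by
  constructor
  · intro h
    by_contra hab
    rw [CfsgLib.OrthCrit.theta_pair h2 ha hb hab] at h
    exact absurd h (by decide)
  · intro hab
    rw [map_mul]
    by_cases hA : IsSquare (Q a)
    · have hB : IsSquare (Q b) := by
        obtain ⟨s, hs⟩ := hA
        obtain ⟨t, ht⟩ := hab
        have hs0 : s ≠ 0 := fun h0 => ha (by rw [hs, h0, zero_mul])
        exact ⟨t / s, by field_simp; linear_combination ht - (Q b) * hs⟩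
      rw [OrthSpinor.theta_reflection_of_square h2 one_ne_zero ha (by rwa [one_mul]),
        OrthSpinor.theta_reflection_of_square h2 one_ne_zero hb (by rwa [one_mul])]
      decide
    · have hB : ¬ IsSquare (Q b) := fun hB => hA (by
        obtain ⟨s, hs⟩ := hB
        obtain ⟨t, ht⟩ := hab
        have hs0 : s ≠ 0 := fun h0 => hb (by rw [hs, h0, zero_mul])
        exact ⟨t / s, by field_simp; linear_combination ht - (Q a) * hs⟩)
      rw [OrthSpinor.theta_reflection_of_nonsquare h2 one_ne_zero ha (by rwa [one_mul]),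
        OrthSpinor.theta_reflection_of_nonsquare h2 one_ne_zero hb (by rwa [one_mul])]
      decide

/-- An involution is in `Ω` only if it moves a space of plus type, for `q ≡ 1 (mod 4)`. -/
theorem neg_type (hm : IsSquare (-1 : F)) : ∀ (k : ℕ) (g : ↥(isometryGroup F ⇑Q)) (D : Submodule F (ι → F)),
    NDOn Q D → finrank F D = 2 * k → (∀ x ∈ D, OrthSpinor.act Q g x = -x) →
    (∀ x, (∀ d ∈ D, polar Q d x = 0) → OrthSpinor.act Q g x = x) →
    (OrthSpinor.theta (Q := Q) 1 g = 1 ↔ IsPlus (Q.comp D.subtype))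
  | 0, g, D, hD, hd, hneg, hfix => by
    refine iff_of_true ?_ (isPlus_of_finrank_zero hd)
    have : g = 1 := OrthSpinor.ext_act Q fun x => by
      rw [OrthSpinor.act_one]
      exact hfix x fun d hd' => by
        rw [Submodule.finrank_eq_zero] at hd
        rw [(Submodule.mem_bot F).1 (hd ▸ hd' : d ∈ (⊥ : Submodule F (ι → F))), polar_zero_left]
    rw [this, map_one]
  | k + 1, g, D, hD, hd, hneg, hfix => by
    obtain ⟨a, ha, ha0⟩ := exists_aniso_mem h2 hD (by omega)
    obtain ⟨b, hb, hab, hb0⟩ : ∃ b ∈ D, polar Q a b = 0 ∧ Q b ≠ 0 := by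
      have hA : NDOn Q (D ⊓ LinearMap.ker (polarBilin Q a)) := fun u hu h => hD u hu.1 fun w hw => by
        have hw' : w - (polar Q a w / (2 * Q a)) • a ∈ D ⊓ LinearMap.ker (polarBilin Q a) := by
          refine ⟨D.sub_mem hw (D.smul_mem _ ha), ?_⟩
          show polar Q a (w - (polar Q a w / (2 * Q a)) • a) = 0
          rw [polar_sub_right, polar_smul_right, CfsgLib.Classical.Quad.polar_self', smul_eq_mul]
          field_simp; ring
        have := h _ hw'
        rw [polar_sub_right, polar_smul_right, polar_comm Q u a, show polar Q a u = 0 from hu.2, smul_zero,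
          sub_zero] at this
        exact this
      have hpos : 0 < finrank F ↥(D ⊓ LinearMap.ker (polarBilin Q a)) := by
        have h := ((polarBilin Q a).comp D.subtype).finrank_range_add_finrank_ker
        have h' := Submodule.finrank_le (LinearMap.range ((polarBilin Q a).comp D.subtype))
        rw [Module.finrank_self] at h'
        have h'' : finrank F (LinearMap.ker ((polarBilin Q a).comp D.subtype)) ≤
            finrank F ↥(D ⊓ LinearMap.ker (polarBilin Q a)) := by
          rw [← Submodule.finrank_map_subtype_eq]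
          refine Submodule.finrank_mono ?_
          rintro x ⟨s, hs, rfl⟩
          exact ⟨s.2, hs⟩
        omega
      obtain ⟨b, hb, hb0⟩ := exists_aniso_mem h2 hA hpos
      exact ⟨b, hb.1, hb.2, hb0⟩
    obtain ⟨hW', hd', hdec⟩ := cut_spec h2 hD ha hb ha0 hb0 hab
    set g' := g * (OrthSpinor.reflection ha0 * OrthSpinor.reflection hb0)
    have hmap : ∀ x, polar Q a x = 0 → polar Q b x = 0 → OrthSpinor.act Q g' x = OrthSpinor.act Q g x := by
      intro x h1 h3
      rw [OrthSpinor.act_mul, OrthSpinor.act_mul, OrthSpinor.act_reflection_of_ortho hb0 h3,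
        OrthSpinor.act_reflection_of_ortho ha0 h1]
    have hga : OrthSpinor.act Q g' a = a := by
      rw [OrthSpinor.act_mul, OrthSpinor.act_mul, OrthSpinor.act_reflection_of_ortho hb0 (by rw [polar_comm]; exact hab),
        OrthSpinor.act_reflection_self ha0, OrthSpinor.act_neg, hneg a ha, neg_neg]
    have hgb : OrthSpinor.act Q g' b = b := by
      rw [OrthSpinor.act_mul, OrthSpinor.act_mul, OrthSpinor.act_reflection_self hb0, OrthSpinor.act_neg,
        OrthSpinor.act_reflection_of_ortho ha0 hab, OrthSpinor.act_neg, hneg b hb, neg_neg]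
    have ih := neg_type hm k g' (cut Q D a b) hW' (by omega)
      (fun x hx => by rw [hmap x hx.2.1 hx.2.2]; exact hneg x hx.1) (fun x hx => by
        set s := polar Q a x / (2 * Q a)
        set t := polar Q b x / (2 * Q b)
        set y := x - s • a - t • b
        have hya : polar Q a y = 0 := by
          simp only [y, s, polar_sub_right, polar_smul_right, CfsgLib.Classical.Quad.polar_self', hab, smul_eq_mul]
          field_simp; ring
        have hyb : polar Q b y = 0 := by
          simp only [y, t, polar_sub_right, polar_smul_right, CfsgLib.Classical.Quad.polar_self', polar_comm Q b a,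
            hab, smul_eq_mul]
          field_simp; ring
        have hy : OrthSpinor.act Q g y = y := hfix y fun d hd' => by
          obtain ⟨s', t', z, hz, rfl⟩ := hdec d hd'
          rw [polar_add_left, polar_add_left, polar_smul_left, polar_smul_left, hya, hyb]
          simp only [y, polar_sub_right, polar_smul_right, hx z hz, polar_comm Q z a, polar_comm Q z b,
            (mem_cut.1 hz).2.1, (mem_cut.1 hz).2.2]
          simp
        have hx' : x = s • a + t • b + y := by simp only [y]; abel
        rw [hx', OrthSpinor.act_add, OrthSpinor.act_add, OrthSpinor.act_smul, OrthSpinor.act_smul, hga, hgb,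
          hmap y hya hyb, hy])
    have hθ : OrthSpinor.theta (Q := Q) 1 g' = OrthSpinor.theta (Q := Q) 1 g *
        OrthSpinor.theta (Q := Q) 1 (OrthSpinor.reflection ha0 * OrthSpinor.reflection hb0) := map_mul _ _ _
    rw [hθ, units_mul_eq_one, theta_two h2 hnd] at ih
    rw [type_cut h2 hD ha hb ha0 hb0 hab ⟨k + 1, by omega⟩, isSquare_neg_iff h2 hnd hm]
    tauto

/-- The data of a complex structure on a nondegenerate subspace. -/
theorem complex_type (hns : ¬ IsSquare (-1 : F)) : ∀ (n : ℕ) (g : ↥(isometryGroup F ⇑Q)) (W : Submodule F (ι → F)),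
    NDOn Q W → finrank F W = n → (∀ x ∈ W, OrthSpinor.act Q g x ∈ W) →
    (∀ x ∈ W, OrthSpinor.act Q g (OrthSpinor.act Q g x) = -x) →
    (∀ x, (∀ w ∈ W, polar Q w x = 0) → OrthSpinor.act Q g x = x) →
    ∃ k, n = 2 * k ∧ (IsPlus (Q.comp W.subtype) ↔ Even k) ∧ parity g = 0 ∧
      (OrthSpinor.theta (Q := Q) 1 g = 1 ↔ (Even k ∨ IsSquare (2 : F))) := by
  intro n
  induction n using Nat.strong_induction_on with
  | _ n ih =>
  intro g W hW hd hinv hsq hfix
  rcases Nat.eq_zero_or_pos n with rfl | hn
  · refine ⟨0, rfl, iff_of_true (isPlus_of_finrank_zero hd) ⟨0, rfl⟩, ?_⟩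
    have : g = 1 := OrthSpinor.ext_act Q fun x => by
      rw [OrthSpinor.act_one]
      exact hfix x fun d hd' => by
        rw [Submodule.finrank_eq_zero] at hd
        rw [(Submodule.mem_bot F).1 (hd ▸ hd' : d ∈ (⊥ : Submodule F (ι → F))), polar_zero_left]
    rw [this, map_one, parity_one]
    exact ⟨rfl, iff_of_true rfl (Or.inl ⟨0, rfl⟩)⟩
  obtain ⟨v, hv, hv0⟩ := exists_aniso_mem h2 hW (by omega)
  set j := OrthSpinor.act Q g v with hj
  have hjW : j ∈ W := hinv v hv
  have hQj : Q j = Q v := OrthSpinor.Q_act Q g v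
  have hj0 : Q j ≠ 0 := hQj ▸ hv0
  have hgj : OrthSpinor.act Q g j = -v := hsq v hv
  have hvj : polar Q v j = 0 := by
    have h := OrthSpinor.polar_act Q g v j
    rw [hgj, ← hj, polar_neg_right, polar_comm Q j v] at h
    exact (mul_eq_zero.1 (show (2 : F) * polar Q v j = 0 by linear_combination -h)).resolve_left h2
  have hQs : Q (v + j) = 2 * Q v := by rw [QuadraticMap.map_add (⇑Q), hvj, hQj]; ring
  have hs0 : Q (v + j) ≠ 0 := by rw [hQs]; exact mul_ne_zero h2 hv0
  set g' := g * (OrthSpinor.reflection hv0 * OrthSpinor.reflection hs0)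
  have hmap : ∀ x, polar Q v x = 0 → polar Q j x = 0 → OrthSpinor.act Q g' x = OrthSpinor.act Q g x := by
    intro x h1 h3
    rw [OrthSpinor.act_mul, OrthSpinor.act_mul, OrthSpinor.act_reflection_of_ortho hs0 (by rw [polar_add_left, h1, h3, add_zero]),
      OrthSpinor.act_reflection_of_ortho hv0 h1]
  have hsv : OrthSpinor.act Q (OrthSpinor.reflection hs0) v = -j := by
    rw [OrthSpinor.act_reflection, polar_add_left, CfsgLib.Classical.Quad.polar_self', polar_comm Q j v, hvj, hQs,
      add_zero, inv_mul_cancel₀ (mul_ne_zero h2 hv0), one_smul]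
    abel
  have hsj : OrthSpinor.act Q (OrthSpinor.reflection hs0) j = -v := by
    rw [OrthSpinor.act_reflection, polar_add_left, CfsgLib.Classical.Quad.polar_self', hvj, hQs, hQj,
      zero_add, inv_mul_cancel₀ (mul_ne_zero h2 hv0), one_smul]
    abel
  have hgv : OrthSpinor.act Q g' v = v := by
    rw [OrthSpinor.act_mul, OrthSpinor.act_mul, hsv, OrthSpinor.act_neg,
      OrthSpinor.act_reflection_of_ortho hv0 hvj, OrthSpinor.act_neg, hgj, neg_neg]
  have hgj' : OrthSpinor.act Q g' j = j := by
    rw [OrthSpinor.act_mul, OrthSpinor.act_mul, hsj, OrthSpinor.act_neg, OrthSpinor.act_reflection_self hv0, neg_neg]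
  obtain ⟨hW', hd', hdec⟩ := cut_spec h2 hW hv hjW hv0 hj0 hvj
  have hkeep : ∀ x ∈ cut Q W v j, OrthSpinor.act Q g x ∈ cut Q W v j := fun x hx => by
    obtain ⟨hxW, h1, h3⟩ := mem_cut.1 hx
    refine mem_cut.2 ⟨hinv x hxW, ?_, ?_⟩
    · have h := OrthSpinor.polar_act Q g j x
      rw [hgj, h3, polar_neg_left, neg_eq_zero] at h
      exact h
    · have h := OrthSpinor.polar_act Q g v x
      rwa [← hj, h1] at h
  obtain ⟨k, hk, htype, hpar, hθ'⟩ := ih (n - 2) (by omega) g' (cut Q W v j) hW' (by omega)
    (fun x hx => by rw [hmap x hx.2.1 hx.2.2]; exact hkeep x hx)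
    (fun x hx => by
      have hx' := hkeep x hx
      rw [hmap x hx.2.1 hx.2.2, hmap _ hx'.2.1 hx'.2.2]
      exact hsq x hx.1)
    (fun x hx => by
      set s := polar Q v x / (2 * Q v)
      set t := polar Q j x / (2 * Q j)
      set y := x - s • v - t • j
      have hya : polar Q v y = 0 := by
        simp only [y, s, polar_sub_right, polar_smul_right, CfsgLib.Classical.Quad.polar_self', hvj, smul_eq_mul]
        field_simp; ring
      have hyb : polar Q j y = 0 := by
        simp only [y, t, polar_sub_right, polar_smul_right, CfsgLib.Classical.Quad.polar_self', polar_comm Q j v,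
          hvj, smul_eq_mul]
        field_simp; ring
      have hy : OrthSpinor.act Q g y = y := hfix y fun d hd' => by
        obtain ⟨s', t', z, hz, rfl⟩ := hdec d hd'
        rw [polar_add_left, polar_add_left, polar_smul_left, polar_smul_left, hya, hyb]
        simp only [y, polar_sub_right, polar_smul_right, hx z hz, polar_comm Q z v, polar_comm Q z j,
          (mem_cut.1 hz).2.1, (mem_cut.1 hz).2.2]
        simp
      have hx' : x = s • v + t • j + y := by simp only [y]; abel
      rw [hx', OrthSpinor.act_add, OrthSpinor.act_add, OrthSpinor.act_smul, OrthSpinor.act_smul, hgv, hgj',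
        hmap y hya hyb, hy])
  have hreg := CfsgLib.OrthCrit.regular_of_two_ne_zero (ι := ι) h2
  refine ⟨k + 1, by omega, ?_, ?_, ?_⟩
  · rw [type_cut h2 hW hv hjW hv0 hj0 hvj ⟨k + 1, by omega⟩, htype, hQj, Nat.even_add_one]
    have : ¬ IsSquare (-(Q v * Q v)) := by
      rintro ⟨c, hc⟩
      exact hns ⟨c / Q v, by field_simp; linear_combination hc⟩
    simp only [this, iff_false]
  · rw [parity_mul hnd hreg, parity_mul hnd hreg, parity_reflection hnd, parity_reflection hnd,
      show (1 : ZMod 2) + 1 = 0 by decide, add_zero] at hpar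
    exact hpar
  · have hθm : OrthSpinor.theta (Q := Q) 1 g' = OrthSpinor.theta (Q := Q) 1 g *
        OrthSpinor.theta (Q := Q) 1 (OrthSpinor.reflection hv0 * OrthSpinor.reflection hs0) := map_mul _ _ _
    rw [hθm, units_mul_eq_one, theta_two h2 hnd, hQs] at hθ'
    have h2sq : IsSquare (Q v * (2 * Q v)) ↔ IsSquare (2 : F) := by
      constructor
      · rintro ⟨c, hc⟩
        exact ⟨c / Q v, by field_simp; linear_combination hc⟩
      · rintro ⟨c, hc⟩
        exact ⟨c * Q v, by rw [hc]; ring⟩
    rw [h2sq] at hθ'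
    rw [Nat.even_add_one]
    by_cases hA : Even k <;> by_cases hB : IsSquare (2 : F) <;>
      simp only [hA, hB, or_true, true_or, or_self, false_or, or_false, not_true, not_false_iff, iff_true, iff_false, not_not] at hθ' ⊢ <;>
      exact hθ'

end CfsgLib.PrimeFix.Quad
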