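import Mathlib
import Cfsg.Prelude.Def_GeometricClasses
import Cfsg.Agent.Lib.PrimeFix.OrthTwoDisc
import Cfsg.Agent.Lib.PrimeFix.OrthSpaces
import Cfsg.Agent.Lib.PrimeFix.OrthOmega

/-!
Invariant totally singular subspaces for elements of order two modulo scalars in odd characteristic.
-/

set_option autoImplicit false

namespace CfsgLib.PrimeFix.Quad

open Module QuadraticMap Cfsg
open CfsgLib.Classical.Quad (NDPolar)
open CfsgLib.RootCount (IsPlus)
open CfsgLib.OrthCrit (parity parity_mul parity_reflection parity_one)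

variable {F : Type*} [Field F] [Fintype F] {ι : Type} [Fintype ι] [DecidableEq ι] {Q : QuadraticForm F (ι → F)}
variable (h2 : (2 : F) ≠ 0) (hnd : NDPolar Q)
include h2 hnd

/-- The case `x² = 1`. -/
theorem exists_of_invol (g : ↥(isometryGroup F ⇑Q)) (hg : g ∈ Omega F ⇑Q) (hn : 2 ≤ Fintype.card ι)
    (hgg : ∀ v, OrthSpinor.act Q g (OrthSpinor.act Q g v) = v) {m : ℕ} (hm : 2 * m + defect Q ≤ Fintype.card ι)
    (hcase : IsSquare (-1 : F) ∨ defect Q = 2 ∨ 2 * m + 3 ≤ Fintype.card ι) :
    ∃ W : Submodule F (ι → F), finrank F W = m ∧ TotSing Q W ∧ ∀ w ∈ W, OrthSpinor.act Q g w ∈ W := by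
  classical
  obtain ⟨hpar, hθ⟩ := (CfsgLib.OrthCrit.mem_Omega_iff_odd hnd h2 hn g).1 hg
  let T : Module.End F (ι → F) := Matrix.toLin' ((g : GL ι F) : Matrix ι ι F)
  have hT : ∀ v, T v = OrthSpinor.act Q g v := fun v => Matrix.toLin'_apply _ _
  set C := LinearMap.ker (T - 1)
  set D := LinearMap.ker (T + 1)
  have hC : ∀ v ∈ C, OrthSpinor.act Q g v = v := fun v hv => by rw [← hT]; exact sub_eq_zero.1 hv
  have hD : ∀ v ∈ D, OrthSpinor.act Q g v = -v := fun v hv => by rw [← hT]; exact eq_neg_of_add_eq_zero_left hv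
  have hmemC : ∀ v, OrthSpinor.act Q g v = v → v ∈ C := fun v hv => by
    show T v - v = 0
    rw [hT, hv, sub_self]
  have hmemD : ∀ v, OrthSpinor.act Q g v = -v → v ∈ D := fun v hv => by
    show T v + v = 0
    rw [hT, hv, neg_add_cancel]
  have hCD : ∀ c ∈ C, ∀ d ∈ D, polar Q c d = 0 := fun c hc d hd => by
    have h := OrthSpinor.polar_act Q g c d
    rw [hC c hc, hD d hd, polar_neg_right] at h
    exact (mul_eq_zero.1 (show (2 : F) * polar Q c d = 0 by linear_combination -h)).resolve_left h2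
  have hsum : C ⊔ D = ⊤ := eq_top_iff.2 fun v _ => by
    refine Submodule.mem_sup.2 ⟨(2 : F)⁻¹ • (v + OrthSpinor.act Q g v), hmemC _ ?_,
      (2 : F)⁻¹ • (v - OrthSpinor.act Q g v), hmemD _ ?_, ?_⟩
    · rw [OrthSpinor.act_smul, OrthSpinor.act_add, hgg, add_comm]
    · rw [OrthSpinor.act_smul, OrthSpinor.act_sub, hgg, ← smul_neg, neg_sub]
    · rw [← smul_add, add_add_sub_cancel, ← two_smul F, smul_smul, inv_mul_cancel₀ h2, one_smul]
  have hdisj : C ⊓ D = ⊥ := (Submodule.eq_bot_iff _).2 fun v hv => by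
    have h := (hC v hv.1).symm.trans (hD v hv.2)
    have h0 : (2 : F) • v = 0 := by rw [two_smul]; nth_rewrite 1 [h]; exact neg_add_cancel v
    exact (smul_eq_zero.1 h0).resolve_left h2
  have hdim := finrank_add hsum hdisj
  rw [Module.finrank_fintype_fun_eq_card] at hdim
  have hndC := ndPolar_restrict hnd hsum hCD
  have hDC : ∀ d ∈ D, ∀ c ∈ C, polar Q d c = 0 := fun d hd c hc => by rw [polar_comm]; exact hCD c hc d hd
  have hndD : NDPolar (Q.comp D.subtype) := ndPolar_restrict hnd (sup_comm C D ▸ hsum) hDC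
  -- the moved space is `D`
  have hev : Even (finrank F D) := by
    have hr : LinearMap.range (CfsgLib.Orth.subOne (CfsgLib.OrthCrit.toOrth Q g)) = D := by
      refine le_antisymm ?_ fun v hv => ⟨-(2 : F)⁻¹ • v, ?_⟩
      · rintro _ ⟨v, rfl⟩
        rw [CfsgLib.Orth.subOne_apply, CfsgLib.OrthCrit.toOrth_apply]
        refine hmemD _ ?_
        rw [OrthSpinor.act_sub, hgg, neg_sub]
      · rw [CfsgLib.Orth.subOne_apply, CfsgLib.OrthCrit.toOrth_apply, OrthSpinor.act_smul, hD v hv, neg_smul,
          neg_smul, smul_neg, neg_neg, sub_neg_eq_add, ← two_smul F, smul_smul, mul_inv_cancel₀ h2, one_smul]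
    have h : (finrank F D : ZMod 2) = 0 := by
      rw [← hr]
      exact hpar
    exact (ZMod.natCast_eq_zero_iff_even).1 h
  have hdC := defect_le hndC
  have hdD := defect_le hndD
  have hδ : 2 * m + defect (Q.comp C.subtype) + defect (Q.comp D.subtype) ≤ Fintype.card ι := by
    obtain ⟨KC, hKC⟩ : ∃ K, finrank F C % 2 = K := ⟨_, rfl⟩
    have hC2 := defect_le_two (Q.comp C.subtype)
    have hD2 := defect_le_two (Q.comp D.subtype)
    obtain ⟨u, hu⟩ := hev
    have hDplus : IsSquare (-1 : F) → defect (Q.comp D.subtype) = 0 := fun hm1 => by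
      refine defect_of_plus ((neg_type h2 hnd hm1 u g D (fun x hx h => ?_) (by omega) (fun x hx => hD x hx)
        fun x hx => ?_).1 hθ)
      · exact congrArg Subtype.val (hndD ⟨x, hx⟩ fun w => h w w.2)
      · obtain ⟨c, hc, d, hd, rfl⟩ := Submodule.mem_sup.1 (hsum ▸ Submodule.mem_top : x ∈ C ⊔ D)
        have hd0 : d = 0 := congrArg Subtype.val (hndD ⟨d, hd⟩ fun w => by
          have h := hx w w.2
          rw [polar_add_right, hDC _ w.2 c hc, zero_add, polar_comm] at h
          exact h)
        rw [hd0, add_zero, hC c hc]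
    by_cases ho : Odd (Fintype.card ι)
    · have hoC : Odd (finrank F C) := by
        rw [← hdim, Nat.odd_add] at ho
        exact ho.2 ⟨u, hu⟩
      rw [defect_of_odd hoC]
      rw [defect_of_odd (by rw [Module.finrank_fintype_fun_eq_card]; exact ho)] at hm hcase
      obtain ⟨w, hw⟩ := ho
      rcases hcase with h | h | h
      · rw [hDplus h]; omega
      · omega
      · omega
    · have hen := Nat.not_odd_iff_even.1 ho
      have heC : Even (finrank F C) := by
        rw [← hdim, Nat.even_add] at hen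
        exact hen.2 ⟨u, hu⟩
      have hiff := isPlus_iff_of_decomp hnd hsum hdisj hCD heC ⟨u, hu⟩
      obtain ⟨w, hw⟩ := hen
      have hN : Even (finrank F (ι → F)) := ⟨w, by rw [Module.finrank_fintype_fun_eq_card]; exact hw⟩
      by_cases hp : IsPlus Q
      · rw [defect_of_plus hp] at hcase hm
        rcases hcase with h | h | h
        · have h0 := hDplus h
          rw [h0]
          by_cases hpC : IsPlus (Q.comp C.subtype)
          · rw [defect_of_plus hpC]; omega
          · exfalso
            by_cases hpD : IsPlus (Q.comp D.subtype)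
            · exact hpC ((hiff.1 hp).2 hpD)
            · rw [defect_of_not_plus ⟨u, hu⟩ hpD] at h0; omega
        · omega
        · omega
      · rw [defect_of_not_plus hN hp] at hm
        by_cases hpC : IsPlus (Q.comp C.subtype)
        · rw [defect_of_plus hpC]; omega
        · by_cases hpD : IsPlus (Q.comp D.subtype)
          · rw [defect_of_plus hpD]; omega
          · exact absurd (hiff.2 (iff_of_false hpC hpD)) hp
  obtain ⟨lC, lD, hl, hlC, hlD⟩ : ∃ lC lD, lC + lD = m ∧
      2 * lC + defect (Q.comp C.subtype) ≤ finrank F C ∧ 2 * lD + defect (Q.comp D.subtype) ≤ finrank F D := by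
    refine ⟨min m ((finrank F C - defect (Q.comp C.subtype)) / 2),
      m - min m ((finrank F C - defect (Q.comp C.subtype)) / 2), by omega, by omega, ?_⟩
    have : ∃ K, finrank F C = 2 * K + defect (Q.comp C.subtype) := by
      unfold defect
      split_ifs with ho hp
      · obtain ⟨v, hv⟩ := ho; exact ⟨v, hv⟩
      · obtain ⟨U, -, hU⟩ := hp; exact ⟨finrank F U, by omega⟩
      · obtain ⟨v, hv⟩ := Nat.not_odd_iff_even.1 ho
        rw [defect, if_neg ho, if_neg hp] at hdC
        exact ⟨v - 1, by omega⟩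
    obtain ⟨K, hK⟩ := this
    omega
  obtain ⟨U, hUC, hU, hdU⟩ := hasSing_map Q C.injective_subtype ((hasSing_iff hndC lC).2 hlC)
  obtain ⟨U', hUD, hU', hdU'⟩ := hasSing_map Q D.injective_subtype ((hasSing_iff hndD lD).2 hlD)
  rw [Submodule.range_subtype] at hUC hUD
  refine ⟨U ⊔ U', ?_, hU.sup hU' fun u hu w hw => hCD u (hUC hu) w (hUD hw), fun w hw => ?_⟩
  · have h := Submodule.finrank_sup_add_finrank_inf_eq U U'
    rw [show U ⊓ U' = ⊥ from eq_bot_iff.2 (hdisj ▸ inf_le_inf hUC hUD), finrank_bot, hdU, hdU'] at h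
    omega
  · obtain ⟨u, hu, u', hu', rfl⟩ := Submodule.mem_sup.1 hw
    rw [OrthSpinor.act_add, hC u (hUC hu), hD u' (hUD hu')]
    exact Submodule.add_mem_sup hu (Submodule.neg_mem _ hu')

omit hnd in
/-- The case `x² = -1` with a square root of `-1`. -/
theorem exists_of_sqrt (g : ↥(isometryGroup F ⇑Q)) {s : F} (hs : s * s = -1)
    (hgg : ∀ v, OrthSpinor.act Q g (OrthSpinor.act Q g v) = -v) {m : ℕ} (hm : 2 * m ≤ Fintype.card ι) :
    ∃ W : Submodule F (ι → F), finrank F W = m ∧ TotSing Q W ∧ ∀ w ∈ W, OrthSpinor.act Q g w ∈ W := by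
  classical
  have key : ∀ (c : F) (m' : ℕ) (P : Submodule F (ι → F)), c * c = -1 →
      (∀ v ∈ P, OrthSpinor.act Q g v = c • v) → m' ≤ finrank F P →
      ∃ W : Submodule F (ι → F), finrank F W = m' ∧ TotSing Q W ∧ ∀ w ∈ W, OrthSpinor.act Q g w ∈ W := by
    intro c m' P hc hP hm'
    obtain ⟨t, ht⟩ := exists_linearIndependent_of_le_finrank (R := F) (M := P) hm'
    refine ⟨(Submodule.span F (Set.range t)).map P.subtype, ?_, ?_, ?_⟩
    · rw [Submodule.finrank_map_subtype_eq, finrank_span_eq_card ht, Fintype.card_fin]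
    · rintro _ ⟨u, -, rfl⟩
      have h := OrthSpinor.Q_act Q g (u : ι → F)
      rw [hP _ u.2, QuadraticMap.map_smul, smul_eq_mul, hc] at h
      exact (mul_eq_zero.1 (show (2 : F) * Q (u : ι → F) = 0 by linear_combination -h)).resolve_left h2
    · rintro _ ⟨u, hu, rfl⟩
      rw [show OrthSpinor.act Q g (P.subtype u) = c • (P.subtype u) from hP _ u.2, ← map_smul]
      exact ⟨c • u, Submodule.smul_mem _ _ hu, rfl⟩
  let T : Module.End F (ι → F) := Matrix.toLin' ((g : GL ι F) : Matrix ι ι F)
  have hT : ∀ v, T v = OrthSpinor.act Q g v := fun v => Matrix.toLin'_apply _ _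
  set P := LinearMap.ker (T - s • 1)
  set M := LinearMap.ker (T + s • 1)
  have hP : ∀ v ∈ P, OrthSpinor.act Q g v = s • v := fun v hv => by rw [← hT]; exact sub_eq_zero.1 hv
  have hM : ∀ v ∈ M, OrthSpinor.act Q g v = (-s) • v := fun v hv => by
    rw [← hT, neg_smul]; exact eq_neg_of_add_eq_zero_left hv
  have hsum : Fintype.card ι ≤ finrank F P + finrank F M := by
    rw [← Module.finrank_fintype_fun_eq_card (R := F), ← finrank_top F (ι → F)]
    refine le_trans (Submodule.finrank_mono (t := P ⊔ M) fun v _ => ?_)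
      (Submodule.finrank_add_le_finrank_add_finrank P M)
    refine Submodule.mem_sup.2 ⟨(2 : F)⁻¹ • (v - s • T v), ?_, (2 : F)⁻¹ • (v + s • T v), ?_, ?_⟩
    · show T ((2 : F)⁻¹ • (v - s • T v)) - s • ((2 : F)⁻¹ • (v - s • T v)) = 0
      rw [map_smul, map_sub, map_smul, show T (T v) = -v by rw [hT, hT, hgg]]
      linear_combination (norm := module) ((2 : F)⁻¹ * (hs : s * s = -1)) • T v
    · show T ((2 : F)⁻¹ • (v + s • T v)) + s • ((2 : F)⁻¹ • (v + s • T v)) = 0
      rw [map_smul, map_add, map_smul, show T (T v) = -v by rw [hT, hT, hgg]]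
      linear_combination (norm := module) ((2 : F)⁻¹ * (hs : s * s = -1)) • T v
    · rw [← smul_add, sub_add_add_cancel, ← two_smul F, smul_smul, inv_mul_cancel₀ h2, one_smul]
  rcases le_total (finrank F M) (finrank F P) with h | h
  · exact key s m P hs hP (by omega)
  · exact key (-s) m M (by rw [neg_mul_neg]; exact hs) hM (by omega)

omit hnd in
/-- Without a square root of `-1` the invariant totally singular subspaces have every even dimension up to half. -/
theorem exists_of_complex (g : ↥(isometryGroup F ⇑Q)) (hns : ¬ IsSquare (-1 : F))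
    (hgg : ∀ v, OrthSpinor.act Q g (OrthSpinor.act Q g v) = -v) :
    ∀ j, 4 * j ≤ Fintype.card ι →
      ∃ W : Submodule F (ι → F), finrank F W = 2 * j ∧ TotSing Q W ∧ ∀ w ∈ W, OrthSpinor.act Q g w ∈ W
  | 0, _ => ⟨⊥, by simp, fun x hx => by simp [(Submodule.mem_bot F).1 hx],
      fun w hw => by simp [(Submodule.mem_bot F).1 hw]⟩
  | j + 1, hj => by
    classical
    obtain ⟨U, hdU, hU, hinv⟩ := exists_of_complex g hns hgg j (by omega)
    set P := U.orthogonalBilin (polarBilin Q)
    have hP : Fintype.card ι ≤ finrank F P + 2 * j := by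
      have h := finrank_le_orth_add (polarBilin Q) ⊤ U
      rwa [finrank_top, Module.finrank_fintype_fun_eq_card, top_inf_eq, hdU] at h
    obtain ⟨C, hC⟩ := Submodule.exists_isCompl U
    have hdC : 3 ≤ finrank F ↥(P ⊓ C) := by
      have h1 := Submodule.finrank_sup_add_finrank_inf_eq P C
      have h2' := Submodule.finrank_le (P ⊔ C)
      have h3 := Submodule.finrank_sup_add_finrank_inf_eq U C
      rw [hC.sup_eq_top, hC.inf_eq_bot, finrank_bot, finrank_top, Module.finrank_fintype_fun_eq_card] at h3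
      rw [Module.finrank_fintype_fun_eq_card] at h2'
      omega
    obtain ⟨⟨v, hvP, hvC⟩, hv0, hQv⟩ :=
      CfsgLib.FormsDisc.exists_singular_of_three (Q.comp (P ⊓ C).subtype) hdC
    have hQv' : Q v = 0 := hQv
    have hvne : v ≠ 0 := fun h => hv0 (Subtype.ext h)
    set w := OrthSpinor.act Q g v with hw
    have hgw : OrthSpinor.act Q g w = -v := hgg v
    have hQw : Q w = 0 := by rw [hw, OrthSpinor.Q_act]; exact hQv'
    have hvw : polar Q v w = 0 := by
      have h := OrthSpinor.polar_act Q g v w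
      rw [hgw, ← hw, polar_neg_right, polar_comm Q w v] at h
      exact (mul_eq_zero.1 (show (2 : F) * polar Q v w = 0 by linear_combination -h)).resolve_left h2
    have hUv : ∀ u ∈ U, polar Q u v = 0 := fun u hu => hvP u hu
    have hUw : ∀ u ∈ U, polar Q u w = 0 := fun u hu => by
      have h := OrthSpinor.polar_act Q g (OrthSpinor.act Q g u) v
      rw [hgg, hUv _ (hinv u hu), ← hw, polar_neg_left, neg_eq_zero] at h
      exact h
    have hli : LinearIndependent F ![v, w] := by
      rw [LinearIndependent.pair_iff' hvne]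
      intro a ha
      refine hns ⟨a, smul_left_injective F hvne ?_⟩
      show (-1 : F) • v = (a * a) • v
      rw [neg_one_smul, ← hgw, ← ha, OrthSpinor.act_smul, ← hw, ← ha, smul_smul]
    set S := Submodule.span F (Set.range ![v, w])
    have hSmem : ∀ x ∈ S, ∃ a b : F, x = a • v + b • w := fun x hx => by
      obtain ⟨c, rfl⟩ := (Submodule.mem_span_range_iff_exists_fun F).1 hx
      exact ⟨c 0, c 1, by simp [Fin.sum_univ_two]⟩
    have hS : TotSing Q S := fun x hx => by
      obtain ⟨a, b, rfl⟩ := hSmem x hx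
      rw [QuadraticMap.map_add (⇑Q), QuadraticMap.map_smul, QuadraticMap.map_smul, polar_smul_left, polar_smul_right,
        hQv', hQw, hvw]
      simp
    have hvS : v ∈ S := Submodule.subset_span ⟨0, rfl⟩
    have hwS : w ∈ S := Submodule.subset_span ⟨1, rfl⟩
    have hUS : U ⊓ S = ⊥ := (Submodule.eq_bot_iff _).2 fun x hx => by
      obtain ⟨a, b, rfl⟩ := hSmem x hx.2
      have h1 : a • v + b • w ∈ U := hx.1
      have h3 : OrthSpinor.act Q g (a • v + b • w) ∈ U := hinv _ h1
      rw [OrthSpinor.act_add, OrthSpinor.act_smul, OrthSpinor.act_smul, hgw, ← hw] at h3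
      have h4 : (a * a + b * b) • v ∈ U := by
        convert U.sub_mem (U.smul_mem a h1) (U.smul_mem b h3) using 1
        module
      by_contra hne
      have hab : a * a + b * b ≠ 0 := fun h => by
        by_cases hb : b = 0
        · rw [hb, mul_zero, add_zero] at h
          exact hne (by rw [hb, mul_self_eq_zero.1 h]; simp)
        · exact hns ⟨a / b, by field_simp; linear_combination -h⟩
      have hvU : v ∈ U := by
        have h5 := U.smul_mem (a * a + b * b)⁻¹ h4
        rwa [smul_smul, inv_mul_cancel₀ hab, one_smul] at h5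
      exact hvne ((Submodule.disjoint_def.1 hC.disjoint) v hvU hvC)
    refine ⟨U ⊔ S, ?_, hU.sup hS fun u hu x hx => ?_, fun x hx => ?_⟩
    · have h := Submodule.finrank_sup_add_finrank_inf_eq U S
      rw [hUS, finrank_bot, hdU, finrank_span_eq_card hli, Fintype.card_fin] at h
      omega
    · obtain ⟨a, b, rfl⟩ := hSmem x hx
      rw [polar_add_right, polar_smul_right, polar_smul_right, hUv u hu, hUw u hu]
      simp
    · obtain ⟨u, hu, y, hy, rfl⟩ := Submodule.mem_sup.1 hx
      obtain ⟨a, b, rfl⟩ := hSmem y hy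
      rw [OrthSpinor.act_add, OrthSpinor.act_add, OrthSpinor.act_smul, OrthSpinor.act_smul, hgw, ← hw]
      exact Submodule.add_mem_sup (hinv u hu) (S.add_mem (S.smul_mem a hwS) (S.smul_mem b (S.neg_mem hvS)))

omit hnd in
/-- Without a square root of `-1` no invariant subspace has odd dimension. -/
theorem even_of_inv (g : ↥(isometryGroup F ⇑Q)) (hns : ¬ IsSquare (-1 : F))
    (hgg : ∀ v, OrthSpinor.act Q g (OrthSpinor.act Q g v) = -v) (W : Submodule F (ι → F))
    (hinv : ∀ w ∈ W, OrthSpinor.act Q g w ∈ W) : Even (finrank F W) := by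
  classical
  by_contra hodd
  let T : Module.End F (ι → F) := Matrix.toLin' ((g : GL ι F) : Matrix ι ι F)
  have hT : ∀ v, T v = OrthSpinor.act Q g v := fun v => Matrix.toLin'_apply _ _
  let R : W →ₗ[F] W := T.restrict fun w hw => hT w ▸ hinv w hw
  have hR : R * R = (-1 : F) • (1 : Module.End F W) := LinearMap.ext fun w => Subtype.ext (by
    show T (T w) = (-1 : F) • (w : ι → F)
    rw [hT, hT, hgg, neg_one_smul])
  have hdet := congrArg LinearMap.det hR
  rw [map_mul, LinearMap.det_smul, map_one, mul_one, (Nat.not_even_iff_odd.1 hodd).neg_one_pow] at hdet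
  exact hns ⟨LinearMap.det R, hdet.symm⟩

/-- The type of a space with a complex structure, and when it lies in `Ω`. -/
theorem complex_facts (hns : ¬ IsSquare (-1 : F)) (g : ↥(isometryGroup F ⇑Q))
    (hgg : ∀ v, OrthSpinor.act Q g (OrthSpinor.act Q g v) = -v) (hn : 2 ≤ Fintype.card ι) :
    ∃ k, Fintype.card ι = 2 * k ∧ (IsPlus Q ↔ Even k) ∧ (g ∈ Omega F ⇑Q ↔ (Even k ∨ IsSquare (2 : F))) := by
  obtain ⟨k, hk, htype, hpar, hθ⟩ := complex_type h2 hnd hns (Fintype.card ι) g ⊤
    (fun u _ h => hnd u fun y => h y Submodule.mem_top) (by rw [finrank_top, Module.finrank_fintype_fun_eq_card])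
    (fun x _ => Submodule.mem_top) (fun x _ => hgg x) (fun x hx => by
      have : x = 0 := hnd x fun y => by rw [polar_comm]; exact hx y Submodule.mem_top
      rw [this, OrthSpinor.act_zero])
  refine ⟨k, hk, ?_, by rw [CfsgLib.OrthCrit.mem_Omega_iff_odd hnd h2 hn, and_iff_right hpar, hθ]⟩
  rw [← htype]
  let E : (ι → F) ≃ₗ[F] (⊤ : Submodule F (ι → F)) := Submodule.topEquiv.symm
  exact ⟨CfsgLib.RootCount.isPlus_congr Q _ E fun x => rfl,
    CfsgLib.RootCount.isPlus_congr _ Q E.symm fun x => rfl⟩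

/-- A complex structure of the given space. -/
theorem exists_complex (hns : ¬ IsSquare (-1 : F)) {d : ℕ} (hd : Fintype.card ι = 2 * d) (hd0 : 0 < d)
    (htype : IsPlus Q ↔ Even d) (hsq : Even d ∨ IsSquare (2 : F)) :
    ∃ g : ↥(isometryGroup F ⇑Q), g ∈ Omega F ⇑Q ∧ ∀ v, OrthSpinor.act Q g (OrthSpinor.act Q g v) = -v := by
  classical
  let e : Fin d ⊕ Fin d ≃ Fin (d + d) := finSumFinEquiv
  let S : QuadraticForm F (Fin d ⊕ Fin d → F) :=
    ∑ l : Fin d, (QuadraticMap.proj (Sum.inl l) (Sum.inl l) + QuadraticMap.proj (Sum.inr l) (Sum.inr l))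
  have hS : ∀ v, S v = ∑ l, (v (.inl l) * v (.inl l) + v (.inr l) * v (.inr l)) := fun v => by simp [S]
  have hpS : ∀ u v, polar S u v = ∑ l, (2 * (u (.inl l) * v (.inl l)) + 2 * (u (.inr l) * v (.inr l))) := fun u v => by
    simp only [polar, hS, Pi.add_apply, ← Finset.sum_sub_distrib]
    exact Finset.sum_congr rfl fun l _ => by ring
  have hSnd : NDPolar S := fun u hu => funext fun x => by
    have h := hu (Pi.single x 1)
    rw [hpS] at h
    rcases x with l | l <;> rw [Finset.sum_eq_single l (fun l' _ hne => by simp [hne]) (by simp)] at h <;>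
      simpa [h2] using h
  let J : Matrix (Fin d ⊕ Fin d) (Fin d ⊕ Fin d) F := Matrix.fromBlocks 0 (-1) 1 0
  have hJ : ∀ v, J.mulVec v = Sum.elim (fun l => -v (.inr l)) (fun l => v (.inl l)) := fun v => by
    funext x
    rw [Matrix.fromBlocks_mulVec]
    rcases x with l | l <;> simp [Matrix.neg_mulVec]
  let gS : ↥(isometryGroup F ⇑S) := OrthSpinor.mkIsometry S J (Matrix.fromBlocks 0 1 (-1) 0)
    (by simp [J, Matrix.fromBlocks_multiply, Matrix.fromBlocks_one])
    (by simp [J, Matrix.fromBlocks_multiply, Matrix.fromBlocks_one]) fun v => by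
      rw [hS, hS, hJ]
      refine Finset.sum_congr rfl fun l _ => ?_
      simp only [Sum.elim_inl, Sum.elim_inr]
      ring
  have hggS : ∀ v, OrthSpinor.act S gS (OrthSpinor.act S gS v) = -v := fun v => by
    rw [OrthSpinor.act_mkIsometry, OrthSpinor.act_mkIsometry, hJ, hJ]
    funext x
    rcases x with l | l <;> simp
  have hcard : Fintype.card (Fin d ⊕ Fin d) = 2 * d := by simp; ring
  obtain ⟨k, hk, htS, -⟩ := complex_facts h2 hSnd hns gS hggS (by rw [hcard]; omega)
  obtain rfl : k = d := by omega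
  obtain ⟨E, hE⟩ := CfsgLib.RootCount.exists_isometry_even S Q hSnd hnd (m := k)
    (by rw [Module.finrank_fintype_fun_eq_card, hcard]) (by rw [Module.finrank_fintype_fun_eq_card, hd])
    (htS.trans htype.symm)
  let T : Module.End F (ι → F) := E.toLinearMap.comp ((Matrix.toLin' J).comp E.symm.toLinearMap)
  have hTv : ∀ v, T v = E (OrthSpinor.act S gS (E.symm v)) := fun v => by
    show E (Matrix.toLin' J (E.symm v)) = _
    rw [Matrix.toLin'_apply, OrthSpinor.act_mkIsometry]
  have hTQ : ∀ v, Q (T v) = Q v := fun v => by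
    rw [hTv, hE, OrthSpinor.Q_act, ← hE, E.apply_symm_apply]
  have hTT : T * T = -1 := LinearMap.ext fun v => by
    show T (T v) = -v
    rw [hTv, hTv, E.symm_apply_apply, hggS, map_neg, E.apply_symm_apply]
  set M := LinearMap.toMatrix' T
  have hMM : M * M = -1 := Matrix.toLin'.injective (by
    rw [Matrix.toLin'_mul, Matrix.toLin'_toMatrix', map_neg, Matrix.toLin'_one]; exact hTT)
  let g : ↥(isometryGroup F ⇑Q) := OrthSpinor.mkIsometry Q M (-M) (by rw [mul_neg, hMM, neg_neg])
    (by rw [neg_mul, hMM, neg_neg]) fun v => by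
      rw [← Matrix.toLin'_apply, Matrix.toLin'_toMatrix', hTQ]
  have hgg : ∀ v, OrthSpinor.act Q g (OrthSpinor.act Q g v) = -v := fun v => by
    rw [OrthSpinor.act_mkIsometry, OrthSpinor.act_mkIsometry, Matrix.mulVec_mulVec, hMM, Matrix.neg_mulVec,
      Matrix.one_mulVec]
  obtain ⟨k', hk', -, hmem⟩ := complex_facts h2 hnd hns g hgg (by omega)
  obtain rfl : k' = k := by omega
  exact ⟨g, hmem.2 hsq, hgg⟩

/-- An involution in `Ω` without large invariant totally singular subspaces. -/
theorem exists_bad_invol (hns : ¬ IsSquare (-1 : F)) (hn : 6 ≤ Fintype.card ι) (hδ : defect Q ≠ 2) :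
    ∃ g : ↥(isometryGroup F ⇑Q), g ∈ Omega F ⇑Q ∧ g * g = 1 ∧ (∀ z : F, ∃ v, OrthSpinor.act Q g v ≠ z • v) ∧
      ∀ W : Submodule F (ι → F), (∀ w ∈ W, OrthSpinor.act Q g w ∈ W) → TotSing Q W →
        2 * finrank F W + 3 ≤ Fintype.card ι := by
  classical
  obtain ⟨k, s, e, f, W₀, hn', hs, hf, -, -, -, -⟩ :=
    CfsgLib.FormsDisc.exists_decomp (finrank F (ι → F)) Q hnd rfl
  rw [Module.finrank_fintype_fun_eq_card] at hn'
  have hk : 2 ≤ k := by omega
  set a := e ⟨0, by omega⟩ + f ⟨0, by omega⟩ with ha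
  set b := e ⟨1, by omega⟩ + f ⟨1, by omega⟩ with hb
  have hQ1 : ∀ l, Q (e l + f l) = 1 := fun l => by
    rw [QuadraticMap.map_add (⇑Q), (hf.sing l).1, (hf.sing l).2, hf.pair, if_pos rfl]; ring
  have hQa : Q a = 1 := hQ1 _
  have hQb : Q b = 1 := hQ1 _
  have hab : polar Q a b = 0 := by
    rw [ha, hb, polar_add_left, polar_add_right, polar_add_right, (hf.iso _ _).1, (hf.iso _ _).2,
      polar_comm Q (f _) (e _), hf.pair, hf.pair, if_neg (by simp [Fin.ext_iff]), if_neg (by simp [Fin.ext_iff])]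
    ring
  have ha0 : Q a ≠ 0 := hQa ▸ one_ne_zero
  have hb0 : Q b ≠ 0 := hQb ▸ one_ne_zero
  set g := OrthSpinor.reflection ha0 * OrthSpinor.reflection hb0
  have hreg := CfsgLib.OrthCrit.regular_of_two_ne_zero (ι := ι) h2
  have hga : OrthSpinor.act Q g a = -a := by
    rw [OrthSpinor.act_mul, OrthSpinor.act_reflection_of_ortho hb0 (by rw [polar_comm]; exact hab),
      OrthSpinor.act_reflection_self]
  have hgb : OrthSpinor.act Q g b = -b := by
    rw [OrthSpinor.act_mul, OrthSpinor.act_reflection_self, OrthSpinor.act_neg,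
      OrthSpinor.act_reflection_of_ortho ha0 hab]
  have hgx : ∀ x, polar Q a x = 0 → polar Q b x = 0 → OrthSpinor.act Q g x = x := fun x h1 h3 => by
    rw [OrthSpinor.act_mul, OrthSpinor.act_reflection_of_ortho hb0 h3, OrthSpinor.act_reflection_of_ortho ha0 h1]
  have hndT : NDOn Q ⊤ := fun u _ h => hnd u fun y => h y Submodule.mem_top
  obtain ⟨hW', hdW', hdec⟩ := cut_spec h2 hndT (a := a) (b := b) Submodule.mem_top Submodule.mem_top ha0 hb0 hab
  rw [finrank_top, Module.finrank_fintype_fun_eq_card] at hdW'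
  set C := cut Q ⊤ a b
  have hgg : ∀ x, OrthSpinor.act Q g (OrthSpinor.act Q g x) = x := fun x => by
    obtain ⟨p, q, y, hy, rfl⟩ := hdec x Submodule.mem_top
    simp only [OrthSpinor.act_add, OrthSpinor.act_smul, OrthSpinor.act_neg, hga, hgb, hgx y hy.2.1 hy.2.2, smul_neg,
      neg_neg]
  refine ⟨g, ?_, OrthSpinor.ext_act Q fun x => by rw [OrthSpinor.act_mul, hgg, OrthSpinor.act_one], fun z => ?_,
    fun W hW hs' => ?_⟩
  · refine (CfsgLib.OrthCrit.mem_Omega_iff_odd hnd h2 (by omega) g).2 ⟨?_, ?_⟩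
    · rw [parity_mul hnd hreg, parity_reflection hnd, parity_reflection hnd]; decide
    · rw [theta_two h2 hnd, hQa, hQb, mul_one]; exact IsSquare.one
  · by_contra! hz
    obtain ⟨c, hc⟩ := Submodule.exists_mem_ne_zero_of_ne_bot (p := C) (fun h0 => by
      rw [h0, finrank_bot] at hdW'; omega)
    have h1 := hz a
    rw [hga] at h1
    have h3 := hz c
    rw [hgx c hc.1.2.1 hc.1.2.2] at h3
    have hz1 : z = 1 := smul_left_injective F hc.2 (show z • c = (1 : F) • c by rw [one_smul]; exact h3.symm)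
    rw [hz1, one_smul] at h1
    have h4 : (2 : F) • a = 0 := by rw [two_smul]; nth_rewrite 1 [← h1]; exact neg_add_cancel a
    exact ha0 (by rw [(smul_eq_zero.1 h4).resolve_left h2, QuadraticMap.map_zero])
  · have hWC : W ≤ C := fun w hw => by
      obtain ⟨p, q, y, hy, rfl⟩ := hdec w Submodule.mem_top
      have hg' : OrthSpinor.act Q g (p • a + q • b + y) ∈ W := hW _ hw
      rw [OrthSpinor.act_add, OrthSpinor.act_add, OrthSpinor.act_smul, OrthSpinor.act_smul, hga, hgb,
        hgx y hy.2.1 hy.2.2] at hg'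
      have hz : p • a + q • b ∈ W := by
        convert W.smul_mem (2 : F)⁻¹ (W.sub_mem hw hg') using 1
        match_scalars <;> field_simp <;> ring
      have h0 := hs' _ hz
      rw [QuadraticMap.map_add (⇑Q), QuadraticMap.map_smul, QuadraticMap.map_smul, polar_smul_left, polar_smul_right,
        hQa, hQb, hab, smul_eq_mul, smul_eq_mul, mul_one, mul_one, smul_zero, smul_zero, add_zero] at h0
      have hq : q = 0 := by
        by_contra hq
        exact hns ⟨p / q, by field_simp; linear_combination -h0⟩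
      rw [hq, mul_zero, add_zero] at h0
      rw [mul_self_eq_zero.1 h0, hq, zero_smul, zero_smul, add_zero, zero_add]
      exact hy
    have hndC : NDPolar (Q.comp C.subtype) := fun x hx => Subtype.ext (hW' x x.2 fun w hw => hx ⟨w, hw⟩)
    have hsing := (hasSing_iff hndC (finrank F W)).1 ⟨W.comap C.subtype, fun x hx => hs' _ hx,
      (Submodule.comapSubtypeEquivOfLe hWC).finrank_eq⟩
    have hdn := hdW'
    unfold defect at hsing
    split_ifs at hsing with ho hp
    · obtain ⟨u, hu⟩ := ho; omega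
    · -- the fixed space has the other type
      exfalso
      obtain ⟨u, hu⟩ := Nat.not_odd_iff_even.1 ho
      have hev : Even (finrank F (ι → F)) := ⟨u + 1, by rw [Module.finrank_fintype_fun_eq_card]; omega⟩
      have h := type_cut h2 hndT (a := a) (b := b) Submodule.mem_top Submodule.mem_top ha0 hb0 hab
        (by rw [finrank_top]; exact hev)
      rw [hQa, hQb, mul_one] at h
      have hnp : ¬ IsPlus Q := fun hQ => by
        let E : (ι → F) ≃ₗ[F] (⊤ : Submodule F (ι → F)) := Submodule.topEquiv.symm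
        exact hns ((h.1 (CfsgLib.RootCount.isPlus_congr Q _ E (fun x => rfl) hQ)).1 hp)
      exact hδ (defect_of_not_plus hev hnp)
    · omega

end CfsgLib.PrimeFix.Quad
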