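import Mathlib
import Cfsg.Prelude.Def_GeometricClasses
import Cfsg.Agent.Lib.PrimeFix.OrthTwo
import Cfsg.Agent.Lib.PrimeFix.HypPrime
import Cfsg.Agent.Lib.UnipotentClassical.Parity
import Cfsg.Agent.Lib.OrthCrit.Forms

/-!
Invariant hyperbolic subspaces of elements of order two modulo scalars.
-/

set_option autoImplicit false

namespace CfsgLib.PrimeFix.Quad

open Module QuadraticMap
open CfsgLib.Classical.Quad (NDPolar)
open CfsgLib.RootCount (IsPlus)

section General

variable {F : Type*} [Field F] {V : Type*} [AddCommGroup V] [Module F V] [FiniteDimensional F V]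
  {Q : QuadraticForm F V}

omit [FiniteDimensional F V] in
theorem isHypSub_bot : IsHypSub Q 0 (⊥ : Submodule F V) :=
  ⟨finrank_bot F V, fun _ hu h => absurd ((Submodule.mem_bot F).1 hu) h, ⊥, le_rfl, by rw [finrank_bot],
    fun u hu => by rw [(Submodule.mem_bot F).1 hu, QuadraticMap.map_zero]⟩

omit [FiniteDimensional F V] in
theorem inv_compl {T : Module.End F V} (hT : ∀ v, Q (T v) = Q v) (hT2 : ∀ v, T (T v) = v) {M R : Submodule F V}
    (hM : Inv T M) (hR : Inv T R) : Inv T (M ⊓ R.orthogonalBilin (polarBilin Q)) := by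
  rintro x ⟨hxM, hxR⟩
  refine ⟨hM x hxM, fun r hr => ?_⟩
  show polar Q r (T x) = 0
  have h : polar Q (T r) x = 0 := hxR (T r) (hR r hr)
  have hpol : ∀ a b, polar Q (T a) (T b) = polar Q a b := fun a b => by simp only [polar, ← map_add, hT]
  rwa [← hpol, hT2] at h

variable [Fintype F]

theorem isHypSub_sup {U U' : Submodule F V} {a b : ℕ} (hU : IsHypSub Q a U) (hU' : IsHypSub Q b U')
    (ho : ∀ x ∈ U, ∀ y ∈ U', polar Q x y = 0) : IsHypSub Q (a + b) (U ⊔ U') := by
  obtain ⟨hd, hnd, hp⟩ := isHypSub_iff.1 hU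
  obtain ⟨hd', hnd', hp'⟩ := isHypSub_iff.1 hU'
  obtain ⟨hND, hdisj⟩ := ndPolar_sup hnd hnd' ho
  have hev : ∀ {X : Submodule F V}, IsPlus (Q.comp X.subtype) → Even (finrank F X) := fun {X} h => by
    obtain ⟨S, -, hS⟩ := h
    exact ⟨finrank F S, by omega⟩
  refine isHypSub_iff.2 ⟨?_, hND, (isPlus_sup hnd hnd' ho (hev hp) (hev hp')).2 (iff_of_true hp hp')⟩
  have h := Submodule.finrank_sup_add_finrank_inf_eq U U'
  rw [hdisj, finrank_bot, hd, hd'] at h
  omega

theorem isHypSub_compl {M R : Submodule F V} {a b : ℕ} (hM : IsHypSub Q (a + b) M) (hR : IsHypSub Q a R)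
    (hRM : R ≤ M) : IsHypSub Q b (M ⊓ R.orthogonalBilin (polarBilin Q)) := by
  obtain ⟨hdM, hndM, hpM⟩ := isHypSub_iff.1 hM
  obtain ⟨hdR, hndR, hpR⟩ := isHypSub_iff.1 hR
  obtain ⟨hndC, hsum, hdisj, -⟩ := exists_orth_compl hRM hndR hndM
  set C := M ⊓ R.orthogonalBilin (polarBilin Q)
  have ho : ∀ x ∈ R, ∀ y ∈ C, polar Q x y = 0 := fun x hx y hy => hy.2 x hx
  have h := Submodule.finrank_sup_add_finrank_inf_eq R C
  rw [hsum, hdisj, finrank_bot, hdR, hdM] at h
  have heR : Even (finrank F R) := by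
    obtain ⟨S, -, hS⟩ := id hpR
    exact ⟨finrank F S, by omega⟩
  have heC : Even (finrank F C) := by
    obtain ⟨S, -, hS⟩ := id hpM
    obtain ⟨S', -, hS'⟩ := id hpR
    exact ⟨finrank F S - finrank F S', by omega⟩
  have hiff := isPlus_sup hndR hndC ho heR heC
  rw [hsum] at hiff
  exact isHypSub_iff.2 ⟨by omega, hndC, (hiff.1 hpM).1 hpR⟩

theorem exists_hyp_within {M : Submodule F V} (hnd : NDPolar (Q.comp M.subtype)) (hev : Even (finrank F M)) {e : ℕ}
    (he : Even e) (hlt : e < finrank F M) : ∃ W : Submodule F V, W ≤ M ∧ IsHypSub Q e W := by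
  obtain ⟨U, hUnd, hdU, hUδ⟩ := exists_nd_sub hnd hev (δ := 0) (Or.inl rfl) he (Nat.zero_le _) (Or.inl hlt)
  obtain ⟨S, hS, hdS⟩ : IsPlus ((Q.comp M.subtype).comp U.subtype) := by
    by_contra h
    rw [defect_of_not_plus (by rw [hdU]; exact he) h] at hUδ
    omega
  refine ⟨U.map M.subtype, Submodule.map_subtype_le _ _, by rw [Submodule.finrank_map_subtype_eq, hdU], ?_,
    (S.map U.subtype).map M.subtype, Submodule.map_mono (Submodule.map_subtype_le _ _), ?_, ?_⟩
  · rintro _ ⟨u, hu, rfl⟩ hu0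
    by_contra! hcon
    refine hu0 ?_
    have h := hUnd ⟨u, hu⟩ fun w => hcon _ ⟨(w : M), w.2, rfl⟩
    rw [show u = 0 from congrArg Subtype.val h, map_zero]
  · rw [Submodule.finrank_map_subtype_eq, Submodule.finrank_map_subtype_eq, hdS, hdU]
  · rintro _ ⟨_, ⟨x, hx, rfl⟩, rfl⟩
    exact hS x hx

end General

section CharTwo

variable {F : Type*} [Field F] {V : Type*} [AddCommGroup V] [Module F V] [FiniteDimensional F V]
  {Q : QuadraticForm F V} {T : Module.End F V}
variable (h2 : (2 : F) = 0) (hT : ∀ v, Q (T v) = Q v) (hT2 : ∀ v, T (T v) = v)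
include h2 hT hT2

/-- A vector with `B(Tv, v) ≠ 0` spans an invariant nondegenerate plane. -/
theorem plane_of_ne {M : Submodule F V} (hinv : Inv T M) {v : V} (hv : v ∈ M) (hne : polar Q (T v) v ≠ 0) :
    ∃ P : Submodule F V, P ≤ M ∧ Inv T P ∧ finrank F P = 2 ∧ NDPolar (Q.comp P.subtype) := by
  have hself : ∀ x, polar Q x x = 0 := fun x => by rw [CfsgLib.Classical.Quad.polar_self', h2, zero_mul]
  have key : ∀ a b : F, polar Q (a • v + b • T v) v = 0 → polar Q (a • v + b • T v) (T v) = 0 → a = 0 ∧ b = 0 := by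
    intro a b h1 h3
    rw [polar_add_left, polar_smul_left, polar_smul_left, hself, smul_zero, zero_add, smul_eq_mul] at h1
    rw [polar_add_left, polar_smul_left, polar_smul_left, hself, smul_zero, add_zero, smul_eq_mul,
      polar_comm Q v] at h3
    exact ⟨(mul_eq_zero.1 h3).resolve_right hne, (mul_eq_zero.1 h1).resolve_right hne⟩
  have hli : LinearIndependent F ![v, T v] := by
    rw [LinearIndependent.pair_iff]
    intro a b h
    exact key a b (by rw [h, polar_zero_left]) (by rw [h, polar_zero_left])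
  refine ⟨Submodule.span F (Set.range ![v, T v]), Submodule.span_le.2 ?_, fun x hx => ?_,
    by rw [finrank_span_eq_card hli, Fintype.card_fin], fun x hx => Subtype.ext ?_⟩
  · rintro _ ⟨j, rfl⟩
    fin_cases j
    · exact hv
    · exact hinv v hv
  · obtain ⟨c, rfl⟩ := (Submodule.mem_span_range_iff_exists_fun F).1 hx
    refine (Submodule.mem_span_range_iff_exists_fun F).2 ⟨![c 1, c 0], ?_⟩
    simp [Fin.sum_univ_two, hT2, add_comm]
  · obtain ⟨c, hc⟩ := (Submodule.mem_span_range_iff_exists_fun F).1 x.2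
    rw [Fin.sum_univ_two] at hc
    have h1 : polar Q (x : V) v = 0 := hx ⟨v, Submodule.subset_span ⟨0, rfl⟩⟩
    have h3 : polar Q (x : V) (T v) = 0 := hx ⟨T v, Submodule.subset_span ⟨1, rfl⟩⟩
    rw [← hc] at h1 h3
    obtain ⟨ha, hb⟩ := key (c 0) (c 1) h1 h3
    rw [← hc, ha, hb]
    simp

/-- An invariant hyperbolic space of dimension four from a moved vector. -/
theorem four_of_ne {M : Submodule F V} (hnd : NDPolar (Q.comp M.subtype)) (hinv : Inv T M)
    (h0 : ∀ u ∈ M, polar Q (T u) u = 0) {v : V} (hv : v ∈ M) (hne : T v ≠ v) :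
    ∃ R : Submodule F V, R ≤ M ∧ Inv T R ∧ IsHypSub Q 4 R := by
  have hself : ∀ x, polar Q x x = 0 := fun x => by rw [CfsgLib.Classical.Quad.polar_self', h2, zero_mul]
  have hpol : ∀ a b, polar Q (T a) (T b) = polar Q a b := fun a b => by simp only [polar, ← map_add, hT]
  have hadj : ∀ a b, polar Q a (T b) = polar Q (T a) b := fun a b => by rw [← hpol a (T b), hT2]
  set n := T v - v with hn
  have hnM : n ∈ M := M.sub_mem (hinv v hv) hv
  obtain ⟨w, hw, hnw⟩ : ∃ w ∈ M, polar Q n w = 1 := by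
    obtain ⟨w, hw⟩ : ∃ w : M, polar Q n (w : V) ≠ 0 := by
      by_contra! hall
      exact sub_ne_zero.2 hne (congrArg Subtype.val (hnd ⟨n, hnM⟩ hall))
    exact ⟨(polar Q n (w : V))⁻¹ • (w : V), M.smul_mem _ w.2, by
      rw [polar_smul_right, smul_eq_mul, inv_mul_cancel₀ hw]⟩
  set k := T w - w with hk
  have hkM : k ∈ M := M.sub_mem (hinv w hw) hw
  have hQsing : ∀ u ∈ M, Q (T u - u) = 0 := fun u hu => by
    rw [sub_eq_add_neg, QuadraticMap.map_add (⇑Q), hT, QuadraticMap.map_neg, polar_neg_right, h0 u hu]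
    linear_combination (Q u) * h2
  have hvn : polar Q v n = 0 := by rw [hn, polar_sub_right, hself, hadj, h0 v hv, sub_zero]
  have hwk : polar Q w k = 0 := by rw [hk, polar_sub_right, hself, hadj, h0 w hw, sub_zero]
  have hvk : polar Q v k = 1 := by rw [hk, polar_sub_right, hadj, ← hnw, hn, polar_sub_left]
  have hnk : polar Q n k = 0 := by
    rw [hn, hk, polar_sub_left, polar_sub_right, polar_sub_right, hpol, hadj]
    linear_combination (polar Q v w - polar Q (T v) w) * h2
  set R := Submodule.span F (Set.range ![v, n, w, k])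
  have hmem : ∀ j, (![v, n, w, k] : Fin 4 → V) j ∈ R := fun j => Submodule.subset_span ⟨j, rfl⟩
  have hform : ∀ x ∈ R, ∃ a b c e : F, x = a • v + b • n + c • w + e • k := fun x hx => by
    obtain ⟨c, rfl⟩ := (Submodule.mem_span_range_iff_exists_fun F).1 hx
    exact ⟨c 0, c 1, c 2, c 3, by simp [Fin.sum_univ_four]⟩
  have key : ∀ a b c e : F, (∀ y ∈ R, polar Q (a • v + b • n + c • w + e • k) y = 0) →
      a = 0 ∧ b = 0 ∧ c = 0 ∧ e = 0 := by
    intro a b c e h
    have hc := h n (hmem 1)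
    have ha := h k (hmem 3)
    have he := h v (hmem 0)
    have hb := h w (hmem 2)
    simp only [polar_add_left, polar_smul_left, smul_eq_mul, hself, hvn, hwk, hnk, hvk, hnw, polar_comm Q n v,
      polar_comm Q k v, polar_comm Q k w, polar_comm Q k n, polar_comm Q w n, polar_comm Q w v, mul_zero,
      mul_one, add_zero, zero_add] at ha hb hc he
    exact ⟨ha, by linear_combination hb - (polar Q v w) * ha, hc, by linear_combination he - (polar Q v w) * hc⟩
  have hli : LinearIndependent F ![v, n, w, k] := Fintype.linearIndependent_iff.2 fun g hg => by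
    rw [Fin.sum_univ_four] at hg
    obtain ⟨h1, h3, h4, h5⟩ := key (g 0) (g 1) (g 2) (g 3) fun y _ => by
      rw [show g 0 • v + g 1 • n + g 2 • w + g 3 • k = 0 from hg, polar_zero_left]
    intro j
    fin_cases j <;> assumption
  refine ⟨R, Submodule.span_le.2 ?_, fun x hx => ?_,
    by rw [finrank_span_eq_card hli, Fintype.card_fin], fun u hu hu0 => ?_,
    Submodule.span F (Set.range ![n, k]), Submodule.span_le.2 ?_, ?_, fun u hu => ?_⟩
  · rintro _ ⟨j, rfl⟩
    fin_cases j <;> assumption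
  · obtain ⟨a, b, c, e, rfl⟩ := hform x hx
    rw [map_add, map_add, map_add, map_smul, map_smul, map_smul, map_smul,
      show T v = v + n by rw [hn]; abel, show T w = w + k by rw [hk]; abel,
      show T n = -n by rw [hn, map_sub, hT2]; abel, show T k = -k by rw [hk, map_sub, hT2]; abel]
    exact R.add_mem (R.add_mem (R.add_mem (R.smul_mem _ (R.add_mem (hmem 0) (hmem 1)))
      (R.smul_mem _ (R.neg_mem (hmem 1)))) (R.smul_mem _ (R.add_mem (hmem 2) (hmem 3))))
      (R.smul_mem _ (R.neg_mem (hmem 3)))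
  · by_contra! hcon
    obtain ⟨a, b, c, e, rfl⟩ := hform u hu
    obtain ⟨rfl, rfl, rfl, rfl⟩ := key a b c e hcon
    exact hu0 (by simp)
  · rintro _ ⟨j, rfl⟩
    fin_cases j
    · exact hmem 1
    · exact hmem 3
  · rw [finrank_span_eq_card ?_, Fintype.card_fin]
    rw [LinearIndependent.pair_iff]
    intro b e h
    obtain ⟨-, hb, -, he⟩ := key 0 b 0 e fun y _ => by
      rw [show (0 : F) • v + b • n + (0 : F) • w + e • k = 0 by
        rw [zero_smul, zero_smul, zero_add, add_zero, h], polar_zero_left]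
    exact ⟨hb, he⟩
  · obtain ⟨c, rfl⟩ := (Submodule.mem_span_range_iff_exists_fun F).1 hu
    simp [Fin.sum_univ_two, QuadraticMap.map_add (⇑Q), QuadraticMap.map_smul, polar_smul_left, polar_smul_right,
      hnk, show Q n = 0 from hQsing v hv, show Q k = 0 from hQsing w hw]

variable [Fintype F]

/-- An invariant hyperbolic space of dimension two or four. -/
theorem exists_small {M : Submodule F V} {K : ℕ} (hK : 2 ≤ K) (hM : IsHypSub Q (2 * K) M) (hinv : Inv T M) :
    ∃ R : Submodule F V, R ≤ M ∧ Inv T R ∧ (IsHypSub Q 2 R ∨ IsHypSub Q 4 R) := by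
  by_cases hK2 : K = 2
  · subst hK2
    exact ⟨M, le_rfl, hinv, Or.inr hM⟩
  obtain ⟨hdM, hndM, -⟩ := isHypSub_iff.1 hM
  have find : ∀ N : Submodule F V, N ≤ M → Inv T N → NDPolar (Q.comp N.subtype) → Even (finrank F N) →
      2 < finrank F N → (∀ u ∈ N, polar Q (T u) u = 0) →
      ∃ R : Submodule F V, R ≤ M ∧ Inv T R ∧ (IsHypSub Q 2 R ∨ IsHypSub Q 4 R) := by
    intro N hNM hNinv hNnd hev hlt h0
    by_cases hfix : ∀ v ∈ N, T v = v
    · obtain ⟨W, hWN, hW⟩ := exists_hyp_within hNnd hev even_two hlt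
      exact ⟨W, hWN.trans hNM, fun w hw => by rw [hfix w (hWN hw)]; exact hw, Or.inl hW⟩
    · push Not at hfix
      obtain ⟨v, hv, hne⟩ := hfix
      obtain ⟨R, hRN, hRinv, hR⟩ := four_of_ne h2 hT hT2 hNnd hNinv h0 hv hne
      exact ⟨R, hRN.trans hNM, hRinv, Or.inr hR⟩
  by_cases hex : ∃ v ∈ M, polar Q (T v) v ≠ 0
  swap
  · push Not at hex
    exact find M le_rfl hinv hndM ⟨K, by omega⟩ (by omega) hex
  obtain ⟨v, hv, hne⟩ := hex
  obtain ⟨P, hPM, hPinv, hdP, hndP⟩ := plane_of_ne h2 hT hT2 hinv hv hne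
  by_cases hpP : IsPlus (Q.comp P.subtype)
  · exact ⟨P, hPM, hPinv, Or.inl (isHypSub_iff.2 ⟨hdP, hndP, hpP⟩)⟩
  obtain ⟨hndC, hsum, hdisj, -⟩ := exists_orth_compl hPM hndP hndM
  have hCinv := inv_compl hT hT2 hinv hPinv
  set C := M ⊓ P.orthogonalBilin (polarBilin Q)
  have h := Submodule.finrank_sup_add_finrank_inf_eq P C
  rw [hsum, hdisj, finrank_bot, hdP, hdM] at h
  by_cases hex' : ∃ w ∈ C, polar Q (T w) w ≠ 0
  swap
  · push Not at hex'
    exact find C inf_le_left hCinv hndC ⟨K - 1, by omega⟩ (by omega) hex'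
  obtain ⟨w, hw, hne'⟩ := hex'
  obtain ⟨P', hP'C, hP'inv, hdP', hndP'⟩ := plane_of_ne h2 hT hT2 hCinv hw hne'
  have hP'M : P' ≤ M := hP'C.trans inf_le_left
  by_cases hpP' : IsPlus (Q.comp P'.subtype)
  · exact ⟨P', hP'M, hP'inv, Or.inl (isHypSub_iff.2 ⟨hdP', hndP', hpP'⟩)⟩
  have ho : ∀ x ∈ P, ∀ y ∈ P', polar Q x y = 0 := fun x hx y hy => (hP'C hy).2 x hx
  obtain ⟨hnd4, hdisj4⟩ := ndPolar_sup hndP hndP' ho
  refine ⟨P ⊔ P', sup_le hPM hP'M, fun x hx => ?_, Or.inr (isHypSub_iff.2 ⟨?_, hnd4, ?_⟩)⟩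
  · obtain ⟨a, ha, b, hb, rfl⟩ := Submodule.mem_sup.1 hx
    rw [map_add]
    exact Submodule.add_mem_sup (hPinv a ha) (hP'inv b hb)
  · have h4 := Submodule.finrank_sup_add_finrank_inf_eq P P'
    rw [hdisj4, finrank_bot, hdP, hdP'] at h4
    omega
  · exact (isPlus_sup hndP hndP' ho (by rw [hdP]; exact even_two) (by rw [hdP']; exact even_two)).2
      (iff_of_false hpP hpP')

/-- Invariant hyperbolic subspaces of an involution in characteristic two. -/
theorem exists_inv_hyp : ∀ (K μ : ℕ), μ ≤ K → (Even μ ∨ Odd K) → ∀ M : Submodule F V, IsHypSub Q (2 * K) M →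
    Inv T M → ∃ X : Submodule F V, X ≤ M ∧ Inv T X ∧ IsHypSub Q (2 * μ) X := by
  intro K
  induction K using Nat.strong_induction_on with
  | _ K ih =>
  intro μ hμ hpar M hM hinv
  rcases Nat.eq_zero_or_pos μ with rfl | hμ0
  · exact ⟨⊥, bot_le, fun w hw => by simp [(Submodule.mem_bot F).1 hw], isHypSub_bot⟩
  rcases Nat.lt_or_ge μ K with hlt | hge
  swap
  · exact ⟨M, le_rfl, hinv, by rw [show μ = K by omega]; exact hM⟩
  obtain ⟨R, hRM, hRinv, hR⟩ := exists_small h2 hT hT2 (by omega : 2 ≤ K) hM hinv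
  have hCinv := inv_compl hT hT2 hinv hRinv
  rw [Nat.even_iff, Nat.odd_iff] at hpar
  have use : ∀ (a K' μ' : ℕ), IsHypSub Q (2 * a) R → K = a + K' → μ' ≤ K' → (μ' % 2 = 0 ∨ K' % 2 = 1) →
      (μ = μ' ∨ μ = a + μ') → 0 < a → ∃ X : Submodule F V, X ≤ M ∧ Inv T X ∧ IsHypSub Q (2 * μ) X := by
    intro a K' μ' hRa hK hle hpar' hμ' ha
    have hC := isHypSub_compl (b := 2 * K') (by rw [← mul_add, ← hK]; exact hM) hRa hRM
    obtain ⟨X, hXC, hXinv, hX⟩ := ih K' (by omega) μ' hle (by rw [Nat.even_iff, Nat.odd_iff]; exact hpar') _ hC hCinv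
    rcases hμ' with rfl | rfl
    · exact ⟨X, hXC.trans inf_le_left, hXinv, hX⟩
    · refine ⟨R ⊔ X, sup_le hRM (hXC.trans inf_le_left), fun x hx => ?_, ?_⟩
      · obtain ⟨b, hb, y, hy, rfl⟩ := Submodule.mem_sup.1 hx
        rw [map_add]
        exact Submodule.add_mem_sup (hRinv b hb) (hXinv y hy)
      · rw [mul_add]
        exact isHypSub_sup hRa hX fun x hx y hy => (hXC hy).2 x hx
  rcases hR with hR | hR
  · rcases Nat.mod_two_eq_zero_or_one μ with hme | hmo
    · rcases Nat.mod_two_eq_zero_or_one K with hKe | hKo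
      · exact use 1 (K - 1) (μ - 1) (by rw [mul_one]; exact hR) (by omega) (by omega) (by omega) (by omega) (by omega)
      · exact use 1 (K - 1) μ (by rw [mul_one]; exact hR) (by omega) (by omega) (by omega) (by omega) (by omega)
    · exact use 1 (K - 1) (μ - 1) (by rw [mul_one]; exact hR) (by omega) (by omega) (by omega) (by omega) (by omega)
  · rcases Nat.lt_or_ge μ 2 with h1 | h1
    · exact use 2 (K - 2) μ (by norm_num; exact hR) (by omega) (by omega) (by omega) (by omega) (by omega)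
    · exact use 2 (K - 2) (μ - 2) (by norm_num; exact hR) (by omega) (by omega) (by omega) (by omega) (by omega)

omit [Fintype F] in
/-- The rank of `T - 1` on an invariant nondegenerate subspace is even and at most half the dimension. -/
theorem ker_sub_one_bound {W : Submodule F V} (hnd : NDPolar (Q.comp W.subtype)) (hinv : Inv T W)
    (h0 : ∀ u ∈ W, polar Q (T u) u = 0) :
    finrank F W ≤ 2 * finrank F ↥(W ⊓ LinearMap.ker (T - 1)) ∧
      Even (finrank F W - finrank F ↥(W ⊓ LinearMap.ker (T - 1))) := by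
  have hself : ∀ x, polar Q x x = 0 := fun x => by rw [CfsgLib.Classical.Quad.polar_self', h2, zero_mul]
  have hN : ∀ w ∈ W, (T - 1) w ∈ W := fun w hw => W.sub_mem (hinv w hw) hw
  let N : W →ₗ[F] W := (T - 1).restrict hN
  have hNv : ∀ w : W, (N w : V) = T w - w := fun w => rfl
  let b : W →ₗ[F] W →ₗ[F] F := (polarBilin (Q.comp W.subtype)).comp N
  have hb : ∀ w, b w w = 0 := fun w => by
    show polar Q (N w : V) (w : V) = 0
    rw [hNv, polar_sub_left, h0 w w.2, hself, sub_zero]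
  have hker : LinearMap.ker b = LinearMap.ker N := by
    ext w
    refine ⟨fun h => hnd (N w) fun y => LinearMap.congr_fun h y, fun h => LinearMap.ext fun y => ?_⟩
    show polar Q (N w : V) (y : V) = 0
    rw [show N w = 0 from h, Submodule.coe_zero, polar_zero_left]
  have hk : finrank F (LinearMap.ker N) = finrank F ↥(W ⊓ LinearMap.ker (T - 1)) := by
    rw [← Submodule.finrank_map_subtype_eq, show W ⊓ LinearMap.ker (T - 1) = (LinearMap.ker N).map W.subtype from ?_]
    ext x
    refine ⟨fun hx => ⟨⟨x, hx.1⟩, Subtype.ext hx.2, rfl⟩, ?_⟩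
    rintro ⟨y, hy, rfl⟩
    exact ⟨y.2, congrArg Subtype.val hy⟩
  have heven := CfsgLib.UnipotentClassical.even_finrank_sub_ker b hb
  rw [hker, hk] at heven
  refine ⟨?_, heven⟩
  have hr := LinearMap.finrank_range_add_finrank_ker N
  have hle : finrank F (LinearMap.range N) ≤ finrank F (LinearMap.ker N) := by
    refine Submodule.finrank_mono ?_
    rintro _ ⟨y, rfl⟩
    refine Subtype.ext ?_
    show T (T (y : V) - y) - (T (y : V) - y) = 0
    rw [map_sub, hT2]
    linear_combination (norm := module) h2 • ((y : V) - T y)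
  omega

omit [Fintype F] in
/-- An involution moving half of the space has only invariant subspaces of dimension divisible by four. -/
theorem even_of_ker (hnd : NDPolar Q) (h0 : ∀ u, polar Q (T u) u = 0)
    (hk : 2 * finrank F (LinearMap.ker (T - 1)) ≤ finrank F V) {W : Submodule F V} {μ : ℕ}
    (hW : IsHypSub Q (2 * μ) W) (hinv : Inv T W) : Even μ := by
  obtain ⟨hdW, hndW, -⟩ := isHypSub_iff.1 hW
  have hndT : NDPolar (Q.comp (⊤ : Submodule F V).subtype) := fun x hx =>
    Subtype.ext (hnd x fun y => hx ⟨y, Submodule.mem_top⟩)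
  obtain ⟨hndC, hsum, hdisj, -⟩ := exists_orth_compl (le_top : W ≤ ⊤) hndW hndT
  have hCinv := inv_compl hT hT2 (M := ⊤) (fun _ _ => Submodule.mem_top) hinv
  set C := (⊤ : Submodule F V) ⊓ W.orthogonalBilin (polarBilin Q)
  have h := Submodule.finrank_sup_add_finrank_inf_eq W C
  rw [hsum, hdisj, finrank_bot, finrank_top, hdW] at h
  obtain ⟨hW1, hW2⟩ := ker_sub_one_bound h2 hT hT2 hndW hinv fun u _ => h0 u
  obtain ⟨hC1, -⟩ := ker_sub_one_bound h2 hT hT2 hndC hCinv fun u _ => h0 u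
  have h' := Submodule.finrank_sup_add_finrank_inf_eq (W ⊓ LinearMap.ker (T - 1)) (C ⊓ LinearMap.ker (T - 1))
  have hbot : W ⊓ LinearMap.ker (T - 1) ⊓ (C ⊓ LinearMap.ker (T - 1)) = ⊥ :=
    eq_bot_iff.2 (hdisj ▸ inf_le_inf inf_le_left inf_le_left)
  rw [hbot, finrank_bot] at h'
  have hle := Submodule.finrank_mono (show W ⊓ LinearMap.ker (T - 1) ⊔ C ⊓ LinearMap.ker (T - 1) ≤ LinearMap.ker (T - 1)
    from sup_le inf_le_right inf_le_right)
  rw [hdW] at hW1 hW2
  obtain ⟨a, ha⟩ := hW2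
  exact ⟨a, by omega⟩

end CharTwo

section Odd

variable {F : Type*} [Field F] [Fintype F] {ι : Type} [Fintype ι] [DecidableEq ι] {Q : QuadraticForm F (ι → F)}
variable (h2 : (2 : F) ≠ 0) (hnd : NDPolar Q)
include h2 hnd

/-- The case `x² = 1`. -/
theorem exists_hyp_invol (g : ↥(Cfsg.isometryGroup F ⇑Q)) (hpar : CfsgLib.OrthCrit.parity g = 0)
    (hgg : ∀ v, OrthSpinor.act Q g (OrthSpinor.act Q g v) = v) {e : ℕ} (he : Even e)
    (hev : Even (Fintype.card ι)) (hlt : 2 * e < Fintype.card ι) :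
    ∃ W : Submodule F (ι → F), IsHypSub Q e W ∧ ∀ w ∈ W, OrthSpinor.act Q g w ∈ W := by
  classical
  let T : Module.End F (ι → F) := Matrix.toLin' ((g : GL ι F) : Matrix ι ι F)
  have hT : ∀ v, T v = OrthSpinor.act Q g v := fun v => Matrix.toLin'_apply _ _
  set C := LinearMap.ker (T - 1)
  set D := LinearMap.ker (T + 1)
  have hC : ∀ v ∈ C, OrthSpinor.act Q g v = v := fun v hv => by rw [← hT]; exact sub_eq_zero.1 hv
  have hD : ∀ v ∈ D, OrthSpinor.act Q g v = -v := fun v hv => by rw [← hT]; exact eq_neg_of_add_eq_zero_left hv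
  have hmemC : ∀ v, OrthSpinor.act Q g v = v → v ∈ C := fun v hv => by
    show T v - v = 0
    rw [hT, hv, sub_self]
  have hmemD : ∀ v, OrthSpinor.act Q g v = -v → v ∈ D := fun v hv => by
    show T v + v = 0
    rw [hT, hv, neg_add_cancel]
  have hCD : ∀ c ∈ C, ∀ d ∈ D, polar Q c d = 0 := fun c hc d hd => by
    have h := OrthSpinor.polar_act Q g c d
    rw [hC c hc, hD d hd, polar_neg_right] at h
    exact (mul_eq_zero.1 (show (2 : F) * polar Q c d = 0 by linear_combination -h)).resolve_left h2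
  have hsum : C ⊔ D = ⊤ := eq_top_iff.2 fun v _ => by
    refine Submodule.mem_sup.2 ⟨(2 : F)⁻¹ • (v + OrthSpinor.act Q g v), hmemC _ ?_,
      (2 : F)⁻¹ • (v - OrthSpinor.act Q g v), hmemD _ ?_, ?_⟩
    · rw [OrthSpinor.act_smul, OrthSpinor.act_add, hgg, add_comm]
    · rw [OrthSpinor.act_smul, OrthSpinor.act_sub, hgg, ← smul_neg, neg_sub]
    · rw [← smul_add, add_add_sub_cancel, ← two_smul F, smul_smul, inv_mul_cancel₀ h2, one_smul]
  have hdisj : C ⊓ D = ⊥ := (Submodule.eq_bot_iff _).2 fun v hv => by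
    have h := (hC v hv.1).symm.trans (hD v hv.2)
    have h0 : (2 : F) • v = 0 := by rw [two_smul]; nth_rewrite 1 [h]; exact neg_add_cancel v
    exact (smul_eq_zero.1 h0).resolve_left h2
  have hdim := finrank_add hsum hdisj
  rw [Module.finrank_fintype_fun_eq_card] at hdim
  have hndC := ndPolar_restrict hnd hsum hCD
  have hndD : NDPolar (Q.comp D.subtype) := ndPolar_restrict hnd (sup_comm C D ▸ hsum)
    fun d hd c hc => by rw [polar_comm]; exact hCD c hc d hd
  have hevD : Even (finrank F D) := by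
    have hr : LinearMap.range (CfsgLib.Orth.subOne (CfsgLib.OrthCrit.toOrth Q g)) = D := by
      refine le_antisymm ?_ fun v hv => ⟨-(2 : F)⁻¹ • v, ?_⟩
      · rintro _ ⟨v, rfl⟩
        rw [CfsgLib.Orth.subOne_apply, CfsgLib.OrthCrit.toOrth_apply]
        refine hmemD _ ?_
        rw [OrthSpinor.act_sub, hgg, neg_sub]
      · rw [CfsgLib.Orth.subOne_apply, CfsgLib.OrthCrit.toOrth_apply, OrthSpinor.act_smul, hD v hv, neg_smul,
          neg_smul, smul_neg, neg_neg, sub_neg_eq_add, ← two_smul F, smul_smul, mul_inv_cancel₀ h2, one_smul]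
    have h : (finrank F D : ZMod 2) = 0 := by
      rw [← hr]
      exact hpar
    exact (ZMod.natCast_eq_zero_iff_even).1 h
  have hevC : Even (finrank F C) := by
    rw [← hdim, Nat.even_add] at hev
    exact hev.2 hevD
  rcases Nat.lt_or_ge e (finrank F C) with h | h
  · obtain ⟨W, hWC, hW⟩ := exists_hyp_within hndC hevC he h
    exact ⟨W, hW, fun w hw => by rw [hC w (hWC hw)]; exact hw⟩
  · obtain ⟨W, hWD, hW⟩ := exists_hyp_within hndD hevD he (by omega)
    exact ⟨W, hW, fun w hw => by rw [hD w (hWD hw)]; exact W.neg_mem hw⟩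

/-- The case `x² = -1` with a square root of `-1`. -/
theorem exists_hyp_sqrt (g : ↥(Cfsg.isometryGroup F ⇑Q)) {s : F} (hs : s * s = -1)
    (hgg : ∀ v, OrthSpinor.act Q g (OrthSpinor.act Q g v) = -v) {μ : ℕ} (hμ : 2 * μ ≤ Fintype.card ι) :
    ∃ W : Submodule F (ι → F), IsHypSub Q (2 * μ) W ∧ ∀ w ∈ W, OrthSpinor.act Q g w ∈ W := by
  classical
  let T : Module.End F (ι → F) := Matrix.toLin' ((g : GL ι F) : Matrix ι ι F)
  have hT : ∀ v, T v = OrthSpinor.act Q g v := fun v => Matrix.toLin'_apply _ _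
  set P := LinearMap.ker (T - s • 1)
  set M := LinearMap.ker (T + s • 1)
  have hP : ∀ v ∈ P, OrthSpinor.act Q g v = s • v := fun v hv => by rw [← hT]; exact sub_eq_zero.1 hv
  have hM : ∀ v ∈ M, OrthSpinor.act Q g v = (-s) • v := fun v hv => by
    rw [← hT, neg_smul]; exact eq_neg_of_add_eq_zero_left hv
  have hdec : ∀ v, ∃ a ∈ P, ∃ b ∈ M, a + b = v := fun v => by
    refine ⟨(2 : F)⁻¹ • (v - s • T v), ?_, (2 : F)⁻¹ • (v + s • T v), ?_, ?_⟩
    · show T ((2 : F)⁻¹ • (v - s • T v)) - s • ((2 : F)⁻¹ • (v - s • T v)) = 0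
      rw [map_smul, map_sub, map_smul, show T (T v) = -v by rw [hT, hT, hgg]]
      linear_combination (norm := module) ((2 : F)⁻¹ * (hs : s * s = -1)) • T v
    · show T ((2 : F)⁻¹ • (v + s • T v)) + s • ((2 : F)⁻¹ • (v + s • T v)) = 0
      rw [map_smul, map_add, map_smul, show T (T v) = -v by rw [hT, hT, hgg]]
      linear_combination (norm := module) ((2 : F)⁻¹ * (hs : s * s = -1)) • T v
    · rw [← smul_add, sub_add_add_cancel, ← two_smul F, smul_smul, inv_mul_cancel₀ h2, one_smul]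
  have hts : ∀ c : F, c * c = -1 → ∀ x y, OrthSpinor.act Q g x = c • x → OrthSpinor.act Q g y = c • y →
      polar Q x y = 0 := fun c hc x y hx hy => by
    have h := OrthSpinor.polar_act Q g x y
    rw [hx, hy, polar_smul_left, polar_smul_right, smul_smul, smul_eq_mul, hc] at h
    exact (mul_eq_zero.1 (show (2 : F) * polar Q x y = 0 by linear_combination -h)).resolve_left h2
  have hPP : ∀ x ∈ P, ∀ y ∈ P, polar Q x y = 0 := fun x hx y hy => hts s hs x y (hP x hx) (hP y hy)
  have hMM : ∀ x ∈ M, ∀ y ∈ M, polar Q x y = 0 := fun x hx y hy =>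
    hts (-s) (by rw [neg_mul_neg]; exact hs) x y (hM x hx) (hM y hy)
  have hsing : ∀ x ∈ P, Q x = 0 := fun x hx => by
    have h := hPP x hx x hx
    rw [CfsgLib.Classical.Quad.polar_self'] at h
    exact (mul_eq_zero.1 h).resolve_left h2
  -- the eigenspaces have half the dimension
  have hhalf : Fintype.card ι ≤ 2 * finrank F P := by
    have hle : finrank F M ≤ finrank F P := by
      let L : M →ₗ[F] Module.Dual F P := (polarBilin Q).domRestrict₁₂ M P
      have hL : Function.Injective L := by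
        rw [← LinearMap.ker_eq_bot, LinearMap.ker_eq_bot']
        intro x hx
        refine Subtype.ext (hnd _ fun v => ?_)
        obtain ⟨a, ha, b, hb, rfl⟩ := hdec v
        rw [polar_add_right, hMM x x.2 b hb, add_zero]
        exact LinearMap.congr_fun hx ⟨a, ha⟩
      have h := LinearMap.finrank_le_finrank_of_injective hL
      rwa [Subspace.dual_finrank_eq] at h
    have hsum : Fintype.card ι ≤ finrank F P + finrank F M := by
      rw [← Module.finrank_fintype_fun_eq_card (R := F), ← finrank_top F (ι → F)]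
      refine le_trans (Submodule.finrank_mono (t := P ⊔ M) fun v _ => ?_)
        (Submodule.finrank_add_le_finrank_add_finrank P M)
      obtain ⟨a, ha, b, hb, rfl⟩ := hdec v
      exact Submodule.add_mem_sup ha hb
    omega
  obtain ⟨t, ht⟩ := exists_linearIndependent_of_le_finrank (R := F) (M := P) (show μ ≤ finrank F P by omega)
  set U := (Submodule.span F (Set.range t)).map P.subtype
  have hUP : U ≤ P := Submodule.map_subtype_le _ _
  have hdU : finrank F U = μ := by
    rw [Submodule.finrank_map_subtype_eq, finrank_span_eq_card ht, Fintype.card_fin]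
  set K := M ⊓ U.orthogonalBilin (polarBilin Q)
  obtain ⟨C, hC⟩ := Submodule.exists_isCompl K
  set U' := M ⊓ C
  have hsup : ∀ b ∈ M, ∃ k ∈ K, ∃ c ∈ U', k + c = b := fun b hb => by
    obtain ⟨k, hk, c, hc, rfl⟩ := Submodule.mem_sup.1 (hC.sup_eq_top ▸ Submodule.mem_top : b ∈ K ⊔ C)
    exact ⟨k, hk, c, ⟨(Submodule.add_mem_iff_right M hk.1).1 hb, hc⟩, rfl⟩
  have hinj : ∀ a ∈ U, (∀ c ∈ U', polar Q a c = 0) → a = 0 := fun a ha h => hnd a fun v => by
    obtain ⟨x, hx, b, hb, rfl⟩ := hdec v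
    obtain ⟨k, hk, c, hc, rfl⟩ := hsup b hb
    rw [polar_add_right, polar_add_right, hPP a (hUP ha) x hx, h c hc, show polar Q a k = 0 from hk.2 a ha]
    simp
  have hinj' : ∀ b ∈ U', (∀ a ∈ U, polar Q a b = 0) → b = 0 := fun b hb h =>
    Submodule.disjoint_def.1 hC.disjoint b ⟨hb.1, fun a ha => h a ha⟩ hb.2
  have hdU' : finrank F U' = μ := by
    have h1 : finrank F U ≤ finrank F U' := by
      let L : U →ₗ[F] Module.Dual F U' := (polarBilin Q).domRestrict₁₂ U U'
      have hL : Function.Injective L := by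
        rw [← LinearMap.ker_eq_bot, LinearMap.ker_eq_bot']
        exact fun x hx => Subtype.ext (hinj x x.2 fun c hc => LinearMap.congr_fun hx ⟨c, hc⟩)
      have h := LinearMap.finrank_le_finrank_of_injective hL
      rwa [Subspace.dual_finrank_eq] at h
    have h3 : finrank F U' ≤ finrank F U := by
      let L : U' →ₗ[F] Module.Dual F U := (polarBilin Q).domRestrict₁₂ U' U
      have hL : Function.Injective L := by
        rw [← LinearMap.ker_eq_bot, LinearMap.ker_eq_bot']
        exact fun x hx => Subtype.ext (hinj' x x.2 fun a ha => by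
          rw [polar_comm]; exact LinearMap.congr_fun hx ⟨a, ha⟩)
      have h := LinearMap.finrank_le_finrank_of_injective hL
      rwa [Subspace.dual_finrank_eq] at h
    omega
  refine ⟨U ⊔ U', ⟨?_, fun u hu hu0 => ?_, U, le_sup_left, by omega, fun x hx => hsing x (hUP hx)⟩, fun w hw => ?_⟩
  · have hb : U ⊓ U' = ⊥ := (Submodule.eq_bot_iff _).2 fun x hx => hinj' x hx.2 fun a ha =>
      hPP a (hUP ha) x (hUP hx.1)
    have h := Submodule.finrank_sup_add_finrank_inf_eq U U'
    rw [hb, finrank_bot] at h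
    omega
  · by_contra! hcon
    obtain ⟨a, ha, b, hb, rfl⟩ := Submodule.mem_sup.1 hu
    have hb0 : b = 0 := hinj' b hb fun a' ha' => by
      have h := hcon a' (Submodule.mem_sup_left ha')
      rwa [polar_add_left, hPP a (hUP ha) a' (hUP ha'), zero_add, polar_comm] at h
    have ha0 : a = 0 := hinj a ha fun c hc => by
      have h := hcon c (Submodule.mem_sup_right hc)
      rwa [hb0, add_zero] at h
    exact hu0 (by rw [ha0, hb0, add_zero])
  · obtain ⟨a, ha, b, hb, rfl⟩ := Submodule.mem_sup.1 hw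
    rw [OrthSpinor.act_add, hP a (hUP ha), hM b hb.1]
    exact Submodule.add_mem_sup (U.smul_mem _ ha) (U'.smul_mem _ hb)

omit hnd in
/-- Removing an invariant anisotropic plane changes the type. -/
theorem complex_step (hns : ¬ IsSquare (-1 : F)) (g : ↥(Cfsg.isometryGroup F ⇑Q))
    (hgg : ∀ v, OrthSpinor.act Q g (OrthSpinor.act Q g v) = -v) {W : Submodule F (ι → F)} (hW : NDOn Q W)
    (hinv : ∀ x ∈ W, OrthSpinor.act Q g x ∈ W) (hpos : 0 < finrank F W) :
    ∃ X : Submodule F (ι → F), NDOn Q X ∧ (∀ x ∈ X, OrthSpinor.act Q g x ∈ X) ∧ finrank F X + 2 = finrank F W ∧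
      (IsPlus (Q.comp W.subtype) ↔ ¬ IsPlus (Q.comp X.subtype)) := by
  obtain ⟨v, hv, hv0⟩ := exists_aniso_mem h2 hW hpos
  set j := OrthSpinor.act Q g v with hj
  have hjW : j ∈ W := hinv v hv
  have hQj : Q j = Q v := OrthSpinor.Q_act Q g v
  have hj0 : Q j ≠ 0 := hQj ▸ hv0
  have hgj : OrthSpinor.act Q g j = -v := hgg v
  have hvj : polar Q v j = 0 := by
    have h := OrthSpinor.polar_act Q g v j
    rw [hgj, ← hj, polar_neg_right, polar_comm Q j v] at h
    exact (mul_eq_zero.1 (show (2 : F) * polar Q v j = 0 by linear_combination -h)).resolve_left h2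
  obtain ⟨hW', hd', -⟩ := cut_spec h2 hW hv hjW hv0 hj0 hvj
  refine ⟨cut Q W v j, hW', fun x hx => ?_, hd', ?_⟩
  · obtain ⟨hxW, h1, h3⟩ := mem_cut.1 hx
    refine mem_cut.2 ⟨hinv x hxW, ?_, ?_⟩
    · have h := OrthSpinor.polar_act Q g j x
      rw [hgj, h3, polar_neg_left, neg_eq_zero] at h
      exact h
    · have h := OrthSpinor.polar_act Q g v x
      rwa [← hj, h1] at h
  · rw [type_cut h2 hW hv hjW hv0 hj0 hvj (even_of_inv h2 g hns hgg W hinv), hQj]
    have : ¬ IsSquare (-(Q v * Q v)) := by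
      rintro ⟨c, hc⟩
      exact hns ⟨c / Q v, by field_simp; linear_combination hc⟩
    simp only [this, iff_false]

omit hnd in
/-- The type of an invariant subspace of a complex structure. -/
theorem complex_sub_type (hns : ¬ IsSquare (-1 : F)) (g : ↥(Cfsg.isometryGroup F ⇑Q))
    (hgg : ∀ v, OrthSpinor.act Q g (OrthSpinor.act Q g v) = -v) : ∀ (k : ℕ) (W : Submodule F (ι → F)), NDOn Q W →
    (∀ x ∈ W, OrthSpinor.act Q g x ∈ W) → finrank F W = 2 * k → (IsPlus (Q.comp W.subtype) ↔ Even k)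
  | 0, W, _, _, hd => iff_of_true (isPlus_of_finrank_zero hd) ⟨0, rfl⟩
  | k + 1, W, hW, hinv, hd => by
    obtain ⟨X, hX, hXinv, hdX, hiff⟩ := complex_step h2 hns g hgg hW hinv (by omega)
    rw [hiff, complex_sub_type hns g hgg k X hX hXinv (by omega), Nat.even_add_one]

/-- Invariant nondegenerate subspaces of a complex structure. -/
theorem exists_complex_sub (hns : ¬ IsSquare (-1 : F)) (g : ↥(Cfsg.isometryGroup F ⇑Q))
    (hgg : ∀ v, OrthSpinor.act Q g (OrthSpinor.act Q g v) = -v) : ∀ (t j : ℕ), Fintype.card ι = 2 * (t + j) →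
    ∃ W : Submodule F (ι → F), NDOn Q W ∧ (∀ x ∈ W, OrthSpinor.act Q g x ∈ W) ∧ finrank F W = 2 * j
  | 0, j, h => ⟨⊤, fun u _ h' => hnd u fun y => h' y Submodule.mem_top, fun _ _ => Submodule.mem_top, by
      rw [finrank_top, Module.finrank_fintype_fun_eq_card]; omega⟩
  | t + 1, j, h => by
    obtain ⟨W, hW, hinv, hd⟩ := exists_complex_sub hns g hgg t (j + 1) (by omega)
    obtain ⟨X, hX, hXinv, hdX, -⟩ := complex_step h2 hns g hgg hW hinv (by omega)
    exact ⟨X, hX, hXinv, by omega⟩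

end Odd

section Element

open CfsgLib.OrthCrit (plusForm)

/-- An involution of `Ω⁺` in characteristic two moving half of the space. -/
theorem exists_swap (F : Type*) [Field F] [Fintype F] [CharP F 2] (h : ℕ) (hh : 2 ≤ h) :
    ∃ g : ↥(Cfsg.isometryGroup F ⇑(plusForm (h + h) F)), g ∈ Cfsg.Omega F ⇑(plusForm (h + h) F) ∧
      (∀ v, OrthSpinor.act (plusForm (h + h) F) g (OrthSpinor.act (plusForm (h + h) F) g v) = v) ∧
      (∀ z : F, ∃ v, OrthSpinor.act (plusForm (h + h) F) g v ≠ z • v) ∧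
      (∀ u, polar (⇑(plusForm (h + h) F)) (OrthSpinor.act (plusForm (h + h) F) g u) u = 0) ∧
      2 * finrank F (LinearMap.ker (Matrix.toLin' ((g : GL (Fin (h + h) ⊕ Fin (h + h)) F) :
        Matrix (Fin (h + h) ⊕ Fin (h + h)) (Fin (h + h) ⊕ Fin (h + h)) F) - 1)) ≤ 2 * (h + h) := by
  classical
  have h2 : (2 : F) = 0 := CharTwo.two_eq_zero
  set Q := plusForm (h + h) F with hQdef
  let π : Equiv.Perm (Fin (h + h)) := finSumFinEquiv.symm.trans ((Equiv.sumComm _ _).trans finSumFinEquiv)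
  have hπ : ∀ x, π (finSumFinEquiv x) = finSumFinEquiv x.swap := fun x => by
    simp only [π, Equiv.trans_apply, Equiv.symm_apply_apply, Equiv.sumComm_apply]
  have hππ : ∀ i, π (π i) = i := fun i => by
    obtain ⟨j, rfl⟩ := finSumFinEquiv.surjective i
    rw [hπ, hπ, Sum.swap_swap]
  have hπL : ∀ j : Fin h, π (finSumFinEquiv (Sum.inr j)) = finSumFinEquiv (Sum.inl j) := fun j => hπ _
  let σ : Equiv.Perm (Fin (h + h) ⊕ Fin (h + h)) := Equiv.sumCongr π π
  have hσσ : ∀ x, σ (σ x) = x := by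
    rintro (i | i) <;> simp [σ, hππ]
  let T : Module.End F (Fin (h + h) ⊕ Fin (h + h) → F) := LinearMap.funLeft F F σ
  have hTv : ∀ v x, T v x = v (σ x) := fun v x => rfl
  have hTT : ∀ v, T (T v) = v := fun v => funext fun x => by rw [hTv, hTv, hσσ]
  have hTQ : ∀ v, Q (T v) = Q v := fun v => by
    rw [hQdef, CfsgLib.OrthCrit.plusForm_apply, CfsgLib.OrthCrit.plusForm_apply]
    simp only [Cfsg.quadFormPlus, hTv, σ, Equiv.sumCongr_apply, Sum.map_inl, Sum.map_inr]
    exact Equiv.sum_comp π fun i => v (.inl i) * v (.inr i)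
  set M := LinearMap.toMatrix' T
  have hMM : M * M = 1 := Matrix.toLin'.injective (by
    rw [Matrix.toLin'_mul, Matrix.toLin'_toMatrix', Matrix.toLin'_one]
    exact LinearMap.ext hTT)
  let g : ↥(Cfsg.isometryGroup F ⇑Q) := OrthSpinor.mkIsometry Q M M hMM hMM fun v => by
    rw [← Matrix.toLin'_apply, Matrix.toLin'_toMatrix', hTQ]
  have hgv : ∀ v, OrthSpinor.act Q g v = T v := fun v => by
    rw [OrthSpinor.act_mkIsometry, ← Matrix.toLin'_apply, Matrix.toLin'_toMatrix']
  have hgT : Matrix.toLin' ((g : GL (Fin (h + h) ⊕ Fin (h + h)) F) :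
      Matrix (Fin (h + h) ⊕ Fin (h + h)) (Fin (h + h) ⊕ Fin (h + h)) F) = T :=
    LinearMap.ext fun v => (Matrix.toLin'_apply _ v).trans (hgv v)
  -- the fixed space
  let L : (Fin (h + h) ⊕ Fin (h + h) → F) →ₗ[F] (Fin h ⊕ Fin h → F) :=
    LinearMap.funLeft F F (Sum.map (fun j => finSumFinEquiv (Sum.inl j)) fun j => finSumFinEquiv (Sum.inl j))
  have hLv : ∀ v, (∀ j, L v j = 0) → T v = v → v = 0 := fun v hL hv => funext fun x => by
    rcases x with i | i <;> obtain ⟨j, rfl⟩ := finSumFinEquiv.surjective i <;> rcases j with j | j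
    · exact hL (Sum.inl j)
    · rw [← hv, hTv, show σ (Sum.inl (finSumFinEquiv (Sum.inr j))) = Sum.inl (finSumFinEquiv (Sum.inl j)) from
        congrArg Sum.inl (hπL j)]
      exact hL (Sum.inl j)
    · exact hL (Sum.inr j)
    · rw [← hv, hTv, show σ (Sum.inr (finSumFinEquiv (Sum.inr j))) = Sum.inr (finSumFinEquiv (Sum.inl j)) from
        congrArg Sum.inr (hπL j)]
      exact hL (Sum.inr j)
  have hkle : finrank F (LinearMap.ker (T - 1)) ≤ h + h := by
    have hinj : Function.Injective (L.comp (LinearMap.ker (T - 1)).subtype) := by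
      rw [← LinearMap.ker_eq_bot, LinearMap.ker_eq_bot']
      exact fun v hv => Subtype.ext (hLv v (congrFun hv) (sub_eq_zero.1 v.2))
    have := LinearMap.finrank_le_finrank_of_injective hinj
    simpa [Module.finrank_fintype_fun_eq_card] using this
  have hdim : finrank F (LinearMap.range (T - 1)) + finrank F (LinearMap.ker (T - 1)) = 2 * (h + h) := by
    rw [LinearMap.finrank_range_add_finrank_ker, Module.finrank_fintype_fun_eq_card]
    simp; ring
  have hrle : finrank F (LinearMap.range (T - 1)) ≤ finrank F (LinearMap.ker (T - 1)) := by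
    refine Submodule.finrank_mono ?_
    rintro _ ⟨v, rfl⟩
    show T (T v - v) - (T v - v) = 0
    rw [map_sub, hTT]
    linear_combination (norm := module) h2 • (v - T v)
  have hpar : CfsgLib.OrthCrit.parity g = 0 := by
    have hr : LinearMap.range (CfsgLib.Orth.subOne (CfsgLib.OrthCrit.toOrth Q g)) = LinearMap.range (T - 1) := by
      refine congrArg LinearMap.range (LinearMap.ext fun v => ?_)
      rw [CfsgLib.Orth.subOne_apply, CfsgLib.OrthCrit.toOrth_apply, hgv]
      rfl
    show (finrank F (LinearMap.range (CfsgLib.Orth.subOne (CfsgLib.OrthCrit.toOrth Q g))) : ZMod 2) = 0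
    rw [hr, ZMod.natCast_eq_zero_iff_even]
    exact ⟨h, by omega⟩
  have hnd := CfsgLib.OrthCrit.ndPolar_plusForm (F := F) (h + h)
  have : Nonempty (Fin (h + h) ⊕ Fin (h + h)) := ⟨Sum.inl ⟨0, by omega⟩⟩
  have hreg : CfsgLib.OrthCrit.Regular F (Fin (h + h) ⊕ Fin (h + h)) :=
    CfsgLib.OrthCrit.regular_of_card (n := 2 * (h + h)) (by simp; ring) (Or.inr (by omega))
  refine ⟨g, (CfsgLib.OrthCrit.mem_Omega_iff_char_two hnd hreg (CfsgLib.OrthCrit.exists_Q_ne_zero hnd) g).2 hpar,
    fun v => by rw [hgv, hgv, hTT], fun z => ?_, fun u => ?_, by rw [hgT]; omega⟩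
  · let a : Fin (h + h) ⊕ Fin (h + h) := Sum.inl (finSumFinEquiv (Sum.inl ⟨0, by omega⟩))
    let b : Fin (h + h) ⊕ Fin (h + h) := Sum.inl (finSumFinEquiv (Sum.inr ⟨0, by omega⟩))
    refine ⟨Pi.single a 1, fun hz => ?_⟩
    have hab : b ≠ a := fun he => by
      have := finSumFinEquiv.injective (Sum.inl_injective he)
      simp at this
    have hσb : σ b = a := congrArg Sum.inl (hπL _)
    have h' := congrFun hz b
    rw [hgv, hTv, hσb, Pi.single_eq_same, Pi.smul_apply, Pi.single_eq_of_ne hab, smul_zero] at h'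
    exact one_ne_zero h'
  · rw [hgv, hQdef, CfsgLib.OrthCrit.polar_plusForm]
    simp only [hTv, σ, Equiv.sumCongr_apply, Sum.map_inl, Sum.map_inr, Finset.sum_add_distrib]
    have h1 : ∑ i, u (.inr (π i)) * u (.inl i) = ∑ i, u (.inl (π i)) * u (.inr i) := by
      rw [← Equiv.sum_comp π (fun i => u (.inr (π i)) * u (.inl i))]
      exact Finset.sum_congr rfl fun i _ => by rw [hππ]; ring
    rw [h1, ← two_mul, h2, zero_mul]

end Element

end CfsgLib.PrimeFix.Quad
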