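import Mathlib
import Cfsg.Agent.Lib.PrimeFix.Isotropic

/-!
Two isomorphic self-paired irreducible subspaces of an isometry contain an isotropic one.
-/

set_option autoImplicit false

namespace CfsgLib.PrimeFix

open Polynomial Module

variable {F : Type*} [Field F] [Fintype F]
variable {V : Type*} [AddCommGroup V] [Module F V] {σ : F →+* F} {B : V →ₛₗ[σ] V →ₗ[F] F} {T : Module.End F V}

/-- Two irreducible invariant subspaces of the same self-paired kind contain an isotropic one (any operator with
`T ^ (p ^ e + 1) = 1`). -/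
theorem exists_isotropic_kind [FiniteDimensional F V] {ε : F} (hsymm : ∀ u w, B w u = ε * σ (B u w))
    (p e : ℕ) [ExpChar F p] (hσ : ∀ c : F, σ c = c ^ (p ^ e))
    (hTN : T ^ (p ^ e + 1) = 1) (hB : ∀ u w, B (T u) (T w) = B u w) {f : F[X]} (hf : f.Monic)
    (hirr : Irreducible f) (hcard : p ^ e * p ^ e = Fintype.card F ^ f.natDegree) {v v' : V} (hfv : aeval T f v = 0)
    (hfv' : aeval T f v' = 0) (hv : v ≠ 0) (hv' : v' ≠ 0) (horth : ∀ x ∈ cyc T v, B x v' = 0) :
    ∃ u ∈ cyc T v ⊔ cyc T v', u ≠ 0 ∧ aeval T f u = 0 ∧ Isotropic B (cyc T u) := by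
  classical
  haveI := Fact.mk hirr
  haveI := hf.finite_adjoinRoot
  haveI : Finite (AdjoinRoot f) := Module.finite_of_finite F
  haveI : Fintype (AdjoinRoot f) := Fintype.ofFinite _
  haveI : ExpChar (AdjoinRoot f) p := expChar_of_injective_algebraMap (algebraMap F (AdjoinRoot f)).injective p
  set N := p ^ e with hNdef
  set L := (B v).comp (act T v hf) with hLdef
  set L' := (B v').comp (act T v' hf) with hL'def
  by_cases hL : L = 0
  · refine ⟨v, Submodule.mem_sup_left (self_mem_cyc T v), hv, hfv, isotropic_cyc hB hTN fun w hw => ?_⟩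
    obtain ⟨x, rfl⟩ : w ∈ LinearMap.range (act T v hf) := by rwa [range_act hf hfv]
    exact LinearMap.congr_fun hL x
  by_cases hL' : L' = 0
  · refine ⟨v', Submodule.mem_sup_right (self_mem_cyc T v'), hv', hfv', isotropic_cyc hB hTN fun w hw => ?_⟩
    obtain ⟨x, rfl⟩ : w ∈ LinearMap.range (act T v' hf) := by rwa [range_act hf hfv']
    exact LinearMap.congr_fun hL' x
  have hpair : ∀ (a : V), aeval T f a = 0 → ∀ (w : V) (g : F[X]) (y : AdjoinRoot f), aeval T f w = 0 →
      B (act T a hf (AdjoinRoot.mk f g)) (act T w hf y) = B a (act T w hf ((AdjoinRoot.mk f g) ^ N * y)) := by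
    intro a ha w g y hw
    obtain ⟨h, rfl⟩ := AdjoinRoot.mk_surjective y
    rw [act_mk hf ha, aeval_adjoint hB hTN, ← AdjoinRoot.aeval_eq g, frob_aeval p e hσ,
      ← aeval_X (R := F) (AdjoinRoot.root f), ← map_pow, ← aeval_comp, AdjoinRoot.aeval_eq, act_mul hf hw,
      aeval_pow_eq]
  have hLsymm : ∀ a, aeval T f a = 0 → ∀ x : AdjoinRoot f,
      B a (act T a hf (x ^ N)) = ε * σ (B a (act T a hf x)) := by
    intro a ha x
    obtain ⟨g, rfl⟩ := AdjoinRoot.mk_surjective x
    have h := hpair a ha a g 1 ha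
    rw [mul_one, act_one hf ha] at h
    rw [← h, hsymm]
  have hinj : Function.Injective fun s : AdjoinRoot f => L.comp (LinearMap.mulLeft F s) := by
    have hlin : ∀ s : AdjoinRoot f, L.comp (LinearMap.mulLeft F s) = 0 → s = 0 := by
      intro s hs
      by_contra h
      exact hL (LinearMap.ext fun z => by simpa [mul_inv_cancel_left₀ h] using LinearMap.congr_fun hs (s⁻¹ * z))
    intro s₁ s₂ h
    refine sub_eq_zero.1 (hlin _ (LinearMap.ext fun z => ?_))
    have := LinearMap.congr_fun h z
    simp only [LinearMap.comp_apply, LinearMap.mulLeft_apply] at this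
    simp [sub_mul, this]
  have hbij : Function.Bijective fun s : AdjoinRoot f => L.comp (LinearMap.mulLeft F s) := by
    haveI : Finite (AdjoinRoot f →ₗ[F] F) := Module.finite_of_finite F
    refine hinj.bijective_of_nat_card_le ?_
    rw [Module.natCard_eq_pow_finrank (K := F) (V := AdjoinRoot f →ₗ[F] F),
      Module.natCard_eq_pow_finrank (K := F) (V := AdjoinRoot f), Subspace.dual_finrank_eq]
  obtain ⟨s, hs⟩ := hbij.2 L'
  have hs' : ∀ x, B v' (act T v' hf x) = B v (act T v hf (s * x)) := fun x => (LinearMap.congr_fun hs x).symm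
  have hs0 : s ≠ 0 := by
    rintro rfl
    exact hL' (LinearMap.ext fun x => by rw [← hs]; simp)
  have hNinj : Function.Injective fun x : AdjoinRoot f => x ^ N := iterateFrobenius_inj (AdjoinRoot f) p e
  have hsN : s ^ N = s := by
    refine (hinj (LinearMap.ext fun y => ?_)).symm
    obtain ⟨x, rfl⟩ := (Finite.injective_iff_surjective.1 hNinj) y
    show B v (act T v hf (s * x ^ N)) = B v (act T v hf (s ^ N * x ^ N))
    rw [← hs', hLsymm v' hfv', hs', ← hLsymm v hfv, mul_pow]
  have hNpos : 0 < N := pow_pos (expChar_pos F p) e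
  have hcardK : Fintype.card (AdjoinRoot f) = N * N := by
    rw [hcard, Fintype.card_eq_nat_card, Module.natCard_eq_pow_finrank (K := F),
      (AdjoinRoot.powerBasis' hf).finrank, AdjoinRoot.powerBasis'_dim,
      Nat.card_eq_fintype_card]
  have hnorm : ∃ g : AdjoinRoot f, g ^ (N + 1) = -s := by
    obtain ⟨γ, hγ⟩ := IsCyclic.exists_generator (α := (AdjoinRoot f)ˣ)
    obtain ⟨k, hk⟩ := mem_powers_iff_mem_zpowers.2 (hγ (Units.mk0 (-s) (neg_ne_zero.2 hs0)))
    have hord : orderOf γ = N * N - 1 := by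
      rw [orderOf_eq_card_of_forall_mem_zpowers hγ, Nat.card_units, Nat.card_eq_fintype_card, hcardK]
    have hfix : (Units.mk0 (-s) (neg_ne_zero.2 hs0)) ^ N = Units.mk0 (-s) (neg_ne_zero.2 hs0) := by
      apply Units.ext
      simp only [Units.val_pow_eq_pow_val, Units.val_mk0]
      rw [neg_pow, hsN]
      have : (-1 : AdjoinRoot f) ^ N = -1 := by
        rw [hNdef, ← iterateFrobenius_def, map_neg, map_one]
      rw [this, neg_one_mul]
    have hk' : γ ^ (k * (N - 1)) = 1 := by
      have hk0 : γ ^ k = Units.mk0 (-s) (neg_ne_zero.2 hs0) := hk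
      rw [← hk0, ← pow_mul, show k * N = k * (N - 1) + k by rw [← Nat.mul_succ]; congr 1; omega, pow_add] at hfix
      exact mul_eq_right.1 hfix
    have hN2 : 2 ≤ N := by
      by_contra h
      have hN1 : N = 1 := by omega
      have := Fintype.one_lt_card (α := AdjoinRoot f)
      rw [hcardK, hN1] at this
      omega
    have hdvd' : (N + 1) * (N - 1) ∣ k * (N - 1) := by
      rw [← orderOf_dvd_iff_pow_eq_one, hord] at hk'
      rwa [show (N + 1) * (N - 1) = N * N - 1 by rw [← Nat.sq_sub_sq N 1]; ring_nf]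
    obtain ⟨c, hc⟩ := Nat.dvd_of_mul_dvd_mul_right (by omega) hdvd'
    refine ⟨((γ ^ c : (AdjoinRoot f)ˣ) : AdjoinRoot f), ?_⟩
    have hk0 : γ ^ k = Units.mk0 (-s) (neg_ne_zero.2 hs0) := hk
    rw [← Units.val_pow_eq_pow_val, ← pow_mul, mul_comm, ← hc, hk0, Units.val_mk0]
  obtain ⟨g, hg⟩ := hnorm
  obtain ⟨G, rfl⟩ := AdjoinRoot.mk_surjective g
  have hcross : ∀ x ∈ cyc T v, ∀ y ∈ cyc T v', B x y = 0 := by
    rintro x hx y ⟨h, rfl⟩
    have hcl : ∀ h : F[X], ∀ a ∈ cyc T v, B a (aeval T h v') = 0 := fun h => by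
      induction h using Polynomial.induction_on' with
      | add f h hf hh => intro a ha; simp [hf a ha, hh a ha]
      | monomial k c =>
        intro a ha
        rw [aeval_monomial, Module.End.mul_apply, Module.algebraMap_end_apply, map_smul]
        have hk : ∀ k : ℕ, ∀ a ∈ cyc T v, B a ((T ^ k) v') = 0 := fun k => by
          induction k with
          | zero => intro a ha; simpa using horth a ha
          | succ k ih =>
            intro a ha
            rw [pow_succ', Module.End.mul_apply]
            conv_lhs => rw [← show (T ^ (N + 1)) a = a by rw [hTN]; rfl]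
            rw [pow_succ', Module.End.mul_apply, hB]
            refine ih _ ?_
            rw [← aeval_X_pow (R := F) T]
            exact inv_aeval (inv_cyc T v) _ ha
        rw [hk k a ha, smul_zero]
    exact hcl h x hx
  refine ⟨aeval T G v + v', Submodule.add_mem_sup ⟨G, rfl⟩ (self_mem_cyc T v'), ?_, ?_,
    isotropic_cyc hB hTN fun w hw => ?_⟩
  · intro h
    refine hL' (LinearMap.ext fun x => ?_)
    have hx : act T v' hf x ∈ cyc T v' := by rw [← range_act hf hfv']; exact ⟨x, rfl⟩
    show B v' (act T v' hf x) = 0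
    have e : v' = -(aeval T G v) := eq_neg_of_add_eq_zero_right h
    exact hcross v' (by rw [e]; exact neg_mem ⟨G, rfl⟩) _ hx
  · rw [map_add, ← Module.End.mul_apply, ← map_mul, mul_comm, map_mul, Module.End.mul_apply, hfv, map_zero,
      hfv', add_zero]
  · obtain ⟨h, rfl⟩ := hw
    show B (aeval T G v + v') (aeval T h (aeval T G v + v')) = 0
    have hGv : aeval T f (aeval T G v) = 0 := by
      rw [← Module.End.mul_apply, ← map_mul, mul_comm, map_mul, Module.End.mul_apply, hfv, map_zero]
    have hmem1 : aeval T h (aeval T G v) ∈ cyc T v := inv_aeval (inv_cyc T v) _ ⟨G, rfl⟩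
    have hmem2 : aeval T h v' ∈ cyc T v' := inv_aeval (inv_cyc T v') _ (self_mem_cyc T v')
    rw [map_add (aeval T h), map_add B, LinearMap.add_apply, map_add, map_add,
      hcross (aeval T G v) ⟨G, rfl⟩ _ hmem2, hsymm (aeval T h (aeval T G v)) v', hcross _ hmem1 _ (self_mem_cyc T v'),
      map_zero, mul_zero, add_zero, zero_add]
    have e1 : B (aeval T G v) (aeval T h (aeval T G v)) =
        B v (act T v hf ((AdjoinRoot.mk f G) ^ (N + 1) * AdjoinRoot.mk f h)) := by
      rw [← act_mk hf hfv G, ← act_mul hf hfv, hpair v hfv v G _ hfv]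
      congr 2
      ring
    rw [e1, hg, ← act_mk hf hfv' h, hs', neg_mul, map_neg, map_neg, neg_add_cancel]


end CfsgLib.PrimeFix
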