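import Mathlib
import Cfsg.Agent.Lib.PrimeFix.SemiPair
import Cfsg.Agent.Lib.PrimeFix.Grow

/-!
Invariant nondegenerate and totally isotropic subspaces of a semisimple isometry of a reflexive sesquilinear form
over a finite field, in terms of its irreducible invariant subspaces.

* `Atoms T W d`: every nonzero invariant subspace of `W` contains an invariant subspace of dimension `d`.
* `HasIso B T W d s`: invariant subspaces of `W` of dimension greater than `s * d` contain an invariant totally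
  isotropic subspace of dimension `d`.
* `HasUnit B T W c`: nonzero invariant nondegenerate subspaces of `W` contain invariant nondegenerate subspaces of
  dimension `c`.
-/

set_option autoImplicit false

namespace CfsgLib.PrimeFix

open Polynomial Module

variable {F : Type*} [Field F] {V : Type*} [AddCommGroup V] [Module F V] {σ : F →+* F}
  {B : V →ₛₗ[σ] V →ₗ[F] F} {T : Module.End F V} {ε : F}

/-- `W` is nondegenerate. -/
def NonDeg (B : V →ₛₗ[σ] V →ₗ[F] F) (W : Submodule F V) : Prop := ∀ u ∈ W, (∀ w ∈ W, B u w = 0) → u = 0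

/-- Every nonzero invariant subspace of `W` contains an invariant subspace of dimension `d`. -/
def Atoms (T : Module.End F V) (W : Submodule F V) (d : ℕ) : Prop :=
  ∀ U : Submodule F V, U ≤ W → Inv T U → U ≠ ⊥ → ∃ C : Submodule F V, C ≤ U ∧ Inv T C ∧ finrank F C = d

/-- Large invariant subspaces contain isotropic atoms. -/
def HasIso (B : V →ₛₗ[σ] V →ₗ[F] F) (T : Module.End F V) (W : Submodule F V) (d s : ℕ) : Prop :=
  ∀ M : Submodule F V, M ≤ W → Inv T M → s * d < finrank F M →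
    ∃ U : Submodule F V, U ≤ M ∧ Inv T U ∧ Isotropic B U ∧ finrank F U = d

/-- Nondegenerate invariant subspaces contain nondegenerate invariant subspaces of dimension `c`. -/
def HasUnit (B : V →ₛₗ[σ] V →ₗ[F] F) (T : Module.End F V) (W : Submodule F V) (c : ℕ) : Prop :=
  ∀ M : Submodule F V, M ≤ W → Inv T M → NonDeg B M → M ≠ ⊥ →
    ∃ Y : Submodule F V, Y ≤ M ∧ Inv T Y ∧ NonDeg B Y ∧ finrank F Y = c

theorem Atoms.mono {W W' : Submodule F V} {d : ℕ} (h : Atoms T W d) (hle : W' ≤ W) : Atoms T W' d :=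
  fun U hU => h U (hU.trans hle)

theorem HasUnit.mono {W W' : Submodule F V} {c : ℕ} (h : HasUnit B T W c) (hle : W' ≤ W) : HasUnit B T W' c :=
  fun U hU => h U (hU.trans hle)

theorem HasIso.mono {W W' : Submodule F V} {d s : ℕ} (h : HasIso B T W d s) (hle : W' ≤ W) :
    HasIso B T W' d s :=
  fun U hU => h U (hU.trans hle)

theorem eq_zero_symm (hsymm : ∀ u w, B w u = ε * σ (B u w)) {u w : V} (h : B u w = 0) : B w u = 0 := by
  rw [hsymm, h, map_zero, mul_zero]

theorem NonDeg.inf_orth_eq_bot {W : Submodule F V} (hW : NonDeg B W) (hsymm : ∀ u w, B w u = ε * σ (B u w)) :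
    W ⊓ W.orthogonalBilin B = ⊥ :=
  (Submodule.eq_bot_iff _).2 fun x hx => hW x hx.1 fun w hw => eq_zero_symm hsymm (hx.2 w hw)

theorem nonDeg_bot : NonDeg B (⊥ : Submodule F V) := fun u hu _ => (Submodule.mem_bot F).1 hu

/-- The orthogonal sum of two nondegenerate subspaces is nondegenerate. -/
theorem NonDeg.sup {Y Z : Submodule F V} (hY : NonDeg B Y) (hZ : NonDeg B Z)
    (hsymm : ∀ u w, B w u = ε * σ (B u w)) (h : ∀ y ∈ Y, ∀ z ∈ Z, B y z = 0) : NonDeg B (Y ⊔ Z) := by
  intro x hx hxo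
  obtain ⟨y, hy, z, hz, rfl⟩ := Submodule.mem_sup.1 hx
  have hy0 : y = 0 := hY y hy fun w hw => by
    have h' := hxo w (Submodule.mem_sup_left hw)
    rwa [map_add, LinearMap.add_apply, eq_zero_symm hsymm (h w hw z hz), add_zero] at h'
  subst hy0
  rw [zero_add] at hxo ⊢
  exact hZ z hz fun w hw => hxo w (Submodule.mem_sup_right hw)

section Pow

/-- An isometry with `T ^ k = 1`, `k` positive, has invariant orthogonals. -/
theorem inv_orth_of_pow {k : ℕ} (hk : 0 < k) (hT : T ^ k = 1) (hB : ∀ u w, B (T u) (T w) = B u w)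
    {U : Submodule F V} (hU : Inv T U) : Inv T (U.orthogonalBilin B) := by
  intro w hw x hx
  show B x (T w) = 0
  have h : x = T ((T ^ (k - 1)) x) := by
    rw [← Module.End.mul_apply, ← pow_succ', Nat.sub_add_cancel hk, hT]; rfl
  rw [h, hB]
  exact hw _ (by rw [← aeval_X_pow (R := F) T]; exact inv_aeval hU _ hx)

/-- Invariant complements, for an operator whose order is prime to the characteristic. -/
theorem exists_inv_compl_of_pow {k : ℕ} (hk : (k : F) ≠ 0) (hT : T ^ k = 1) {U W : Submodule F V}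
    [FiniteDimensional F V] (hU : Inv T U) (hW : Inv T W) (hUW : U ≤ W) :
    ∃ M : Submodule F V, M ≤ W ∧ Inv T M ∧ finrank F U + finrank F M = finrank F W ∧ U ⊓ M = ⊥ ∧ U ⊔ M = W := by
  obtain ⟨C, hC⟩ := Submodule.exists_isCompl U
  let π₀ : Module.End F V := U.subtype.comp (Submodule.projectionOnto U C hC)
  have hπmem : ∀ v, π₀ v ∈ U := fun v => (Submodule.projectionOnto U C hC v).2
  have hπfix : ∀ u ∈ U, π₀ u = u := fun u hu => by
    show ((Submodule.projectionOnto U C hC u : U) : V) = u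
    rw [Submodule.projectionOnto_apply_left hC ⟨u, hu⟩]
  let π : Module.End F V := (k : F)⁻¹ • ∑ j ∈ Finset.range k, T ^ j * π₀ * T ^ (k - j)
  have hTk : ∀ j, ∀ u ∈ U, (T ^ j) u ∈ U := fun j u hu => by
    rw [← aeval_X_pow (R := F) T]; exact inv_aeval hU _ hu
  have hmem : ∀ v, π v ∈ U := fun v => by
    simp only [π, LinearMap.smul_apply, LinearMap.sum_apply, Module.End.mul_apply]
    exact U.smul_mem _ (U.sum_mem fun j _ => hTk j _ (hπmem _))
  have hfix : ∀ u ∈ U, π u = u := fun u hu => by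
    simp only [π, LinearMap.smul_apply, LinearMap.sum_apply, Module.End.mul_apply]
    rw [Finset.sum_congr rfl (fun j hj => ?_), Finset.sum_const, Finset.card_range, ← Nat.cast_smul_eq_nsmul F,
      smul_smul, inv_mul_cancel₀ hk, one_smul]
    rw [hπfix _ (hTk _ u hu), ← Module.End.mul_apply, ← pow_add, Nat.add_sub_cancel' (Finset.mem_range.1 hj).le, hT]
    rfl
  have hkpos : 0 < k := Nat.pos_of_ne_zero fun h => hk (by rw [h, Nat.cast_zero])
  have hcomm : T * π = π * T := by
    simp only [π, mul_smul_comm, smul_mul_assoc, Finset.mul_sum, Finset.sum_mul]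
    congr 1
    have hs := Finset.sum_range_succ' (fun j => T ^ j * π₀ * T ^ (k - j) * T) k
    rw [Finset.sum_range_succ] at hs
    have h0 : T ^ k * π₀ * T ^ (k - k) * T = T ^ 0 * π₀ * T ^ (k - 0) * T := by simp [hT]
    rw [h0, add_left_inj] at hs
    rw [hs]
    refine Finset.sum_congr rfl fun j hj => ?_
    have hj' := Finset.mem_range.1 hj
    rw [pow_succ', show k - j = k - (j + 1) + 1 by omega, pow_succ]
    noncomm_ring
  have hsup : U ⊔ W ⊓ LinearMap.ker π = W := by
    refine le_antisymm (sup_le hUW inf_le_left) fun w hw => ?_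
    refine Submodule.mem_sup.2 ⟨π w, hmem w, w - π w, ⟨W.sub_mem hw (hUW (hmem w)), ?_⟩, add_sub_cancel _ _⟩
    show π (w - π w) = 0
    rw [map_sub, hfix _ (hmem w), sub_self]
  have hinf : U ⊓ (W ⊓ LinearMap.ker π) = ⊥ := (Submodule.eq_bot_iff _).2 fun x hx => by
    rw [← hfix x hx.1]; exact hx.2.2
  refine ⟨W ⊓ LinearMap.ker π, inf_le_left, fun w hw => ⟨hW w hw.1, ?_⟩, ?_, hinf, hsup⟩
  · show π (T w) = 0
    rw [← Module.End.mul_apply, ← hcomm, Module.End.mul_apply, LinearMap.mem_ker.1 hw.2, map_zero]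
  · have h2 := Submodule.finrank_sup_add_finrank_inf_eq U (W ⊓ LinearMap.ker π)
    rw [hsup, hinf, finrank_bot, add_zero] at h2
    exact h2.symm

end Pow

section Split

variable [FiniteDimensional F V] {k : ℕ}

/-- An atom is irreducible. -/
theorem Atoms.eq_of_le {W C U : Submodule F V} {d : ℕ} (hA : Atoms T W d) (hCW : C ≤ W)
    (hC : finrank F C = d) (hU : Inv T U) (hUC : U ≤ C) (hU0 : U ≠ ⊥) : U = C := by
  obtain ⟨D, hDU, -, hD⟩ := hA U (hUC.trans hCW) hU hU0
  have h := Submodule.finrank_mono hDU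
  exact Submodule.eq_of_le_of_finrank_le hUC (by omega)

/-- Invariant subspaces of `W` have dimension divisible by `d`. -/
theorem Atoms.dvd_finrank (hk : (k : F) ≠ 0) (hT : T ^ k = 1) {W : Submodule F V} {d : ℕ} (hd : 0 < d)
    (hA : Atoms T W d) : ∀ U : Submodule F V, U ≤ W → Inv T U → d ∣ finrank F U := by
  intro U
  induction h : finrank F U using Nat.strong_induction_on generalizing U with
  | _ n ih =>
    intro hUW hU
    rcases eq_or_ne U ⊥ with rfl | hU0
    · rw [← h, finrank_bot]; exact dvd_zero d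
    obtain ⟨C, hCU, hC, hdC⟩ := hA U hUW hU hU0
    obtain ⟨M, hMU, hM, hdM, -, -⟩ := exists_inv_compl_of_pow hk hT hC hU hCU
    have h1 := ih (finrank F M) (by omega) M rfl (hMU.trans hUW) hM
    rw [← h, ← hdM, hdC]
    exact dvd_add dvd_rfl h1

/-- Splitting off a nondegenerate subspace. -/
theorem NonDeg.split (hsymm : ∀ u w, B w u = ε * σ (B u w)) {W Y : Submodule F V} (hW : NonDeg B W)
    (hY : NonDeg B Y) (hYW : Y ≤ W) :
    NonDeg B (W ⊓ Y.orthogonalBilin B) ∧ finrank F Y + finrank F ↥(W ⊓ Y.orthogonalBilin B) = finrank F W ∧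
      Y ⊔ W ⊓ Y.orthogonalBilin B = W := by
  set Z := W ⊓ Y.orthogonalBilin B
  have hinf : Y ⊓ Z = ⊥ := eq_bot_iff.2 ((inf_le_inf_left Y inf_le_right).trans (hY.inf_orth_eq_bot hsymm).le)
  have h1 := Submodule.finrank_sup_add_finrank_inf_eq Y Z
  rw [hinf, finrank_bot, add_zero] at h1
  have h2 := finrank_le_orth_add B W Y
  have h2' : finrank F W ≤ finrank F Z + finrank F Y := h2
  have h3 : Y ⊔ Z ≤ W := sup_le hYW inf_le_left
  have h4 : Y ⊔ Z = W := Submodule.eq_of_le_of_finrank_le h3 (by omega)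
  refine ⟨fun u hu huo => hW u hu.1 fun w hw => ?_, by rw [← h4]; omega, h4⟩
  rw [← h4] at hw
  obtain ⟨y, hy, z, hz, rfl⟩ := Submodule.mem_sup.1 hw
  rw [map_add, eq_zero_symm hsymm (hu.2 y hy), huo z hz, add_zero]

variable (hk : (k : F) ≠ 0) (hT : T ^ k = 1) (hB : ∀ u w, B (T u) (T w) = B u w)
  (hsymm : ∀ u w, B w u = ε * σ (B u w))

include hk hT hB hsymm

/-- Nondegenerate invariant subspaces of every dimension a multiple of `c`. -/
theorem HasUnit.exists_nonDeg {W : Submodule F V} {c : ℕ} (hU : HasUnit B T W c) (hW : Inv T W)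
    (hWnd : NonDeg B W) : ∀ j : ℕ, j * c ≤ finrank F W →
      ∃ Y : Submodule F V, Y ≤ W ∧ Inv T Y ∧ NonDeg B Y ∧ finrank F Y = j * c
  | 0, _ => ⟨⊥, bot_le, fun w hw => by simp [(Submodule.mem_bot F).1 hw], nonDeg_bot, by simp⟩
  | j + 1, hj => by
    have hkpos : 0 < k := Nat.pos_of_ne_zero fun h => hk (by rw [h, Nat.cast_zero])
    rw [add_mul, one_mul] at hj
    obtain ⟨Y, hYW, hY, hYnd, hdY⟩ := HasUnit.exists_nonDeg hU hW hWnd j (by omega)
    obtain ⟨hZnd, hdZ, -⟩ := hWnd.split hsymm hYnd hYW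
    have hZ : Inv T (W ⊓ Y.orthogonalBilin B) := inv_inf hW (inv_orth_of_pow hkpos hT hB hY)
    rcases Nat.eq_zero_or_pos c with rfl | hc
    · exact ⟨Y, hYW, hY, hYnd, by simpa using hdY⟩
    obtain ⟨U, hUZ, hUi, hUnd, hdU⟩ := hU _ inf_le_left hZ hZnd (fun h => by
      rw [h, finrank_bot] at hdZ; omega)
    have horth : ∀ y ∈ Y, ∀ u ∈ U, B y u = 0 := fun y hy u hu => (hUZ hu).2 y hy
    refine ⟨Y ⊔ U, sup_le hYW (hUZ.trans inf_le_left), inv_sup hY hUi, hYnd.sup hUnd hsymm horth, ?_⟩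
    have h := Submodule.finrank_sup_add_finrank_inf_eq Y U
    have h0 : Y ⊓ U = ⊥ := eq_bot_iff.2 ((inf_le_inf_left Y (hUZ.trans inf_le_right)).trans
      (hYnd.inf_orth_eq_bot hsymm).le)
    rw [h0, finrank_bot, add_zero, hdY, hdU] at h
    rw [h, add_mul, one_mul]

/-- Nondegenerate invariant subspaces have dimension a multiple of `c`. -/
theorem HasUnit.dvd_finrank {W : Submodule F V} {c : ℕ} (hc : 0 < c) (hU : HasUnit B T W c) :
    ∀ M : Submodule F V, M ≤ W → Inv T M → NonDeg B M → c ∣ finrank F M := by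
  intro M
  induction h : finrank F M using Nat.strong_induction_on generalizing M with
  | _ n ih =>
    intro hMW hM hMnd
    rcases eq_or_ne M ⊥ with rfl | hM0
    · rw [← h, finrank_bot]; exact dvd_zero c
    obtain ⟨Y, hYM, hY, hYnd, hdY⟩ := hU M hMW hM hMnd hM0
    obtain ⟨hZnd, hdZ, -⟩ := hMnd.split hsymm hYnd hYM
    have hkpos : 0 < k := Nat.pos_of_ne_zero fun h => hk (by rw [h, Nat.cast_zero])
    have h1 := ih _ (by omega) _ rfl (inf_le_left.trans hMW) (inv_inf hM (inv_orth_of_pow hkpos hT hB hY)) hZnd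
    rw [← h, ← hdZ, hdY]
    exact dvd_add dvd_rfl h1

/-- Invariant totally isotropic subspaces of prescribed dimension. -/
theorem HasIso.exists_isotropic {W₀ : Submodule F V} {d s : ℕ} (hd : 0 < d) (hI : HasIso B T W₀ d s)
    (hW₀ : Inv T W₀) {a : ℕ} (hdim : finrank F W₀ = a * d) :
    ∀ j : ℕ, (j = 0 ∨ 2 * j + s ≤ a + 1) → ∃ U : Submodule F V, U ≤ W₀ ∧ Inv T U ∧ Isotropic B U ∧
      finrank F U = j * d
  | 0, _ => ⟨⊥, bot_le, fun w hw => by simp [(Submodule.mem_bot F).1 hw],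
      fun u hu w _ => by simp [(Submodule.mem_bot F).1 hu], by simp⟩
  | j + 1, hj => by
    have hkpos : 0 < k := Nat.pos_of_ne_zero fun h => hk (by rw [h, Nat.cast_zero])
    have hj' : 2 * (j + 1) + s ≤ a + 1 := hj.resolve_left (by omega)
    obtain ⟨U, hUW, hU, hiso, hdU⟩ := HasIso.exists_isotropic hd hI hW₀ hdim j (Or.inr (by omega))
    set W := W₀ ⊓ U.orthogonalBilin B
    have hUle : U ≤ W := le_inf hUW fun u hu x hx => hiso x hx u hu
    have hW : Inv T W := inv_inf hW₀ (inv_orth_of_pow hkpos hT hB hU)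
    obtain ⟨M, hMW, hM, hdM, hdisj, -⟩ := exists_inv_compl_of_pow hk hT hU hW hUle
    have hdW := finrank_le_orth_add B W₀ U
    have hdW' : finrank F W₀ ≤ finrank F W + finrank F U := hdW
    have hbig : s * d < finrank F M := by
      rw [hdim, hdU] at hdW'
      rw [hdU] at hdM
      have h1 : (s + (2 * j + 1)) * d ≤ a * d := Nat.mul_le_mul_right _ (by omega)
      rw [add_mul, add_mul, one_mul, mul_assoc] at h1
      generalize a * d = A at hdW' h1
      generalize j * d = J at hdW' hdM h1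
      generalize s * d = S at h1 ⊢
      omega
    obtain ⟨Y, hYM, hY, hYiso, hdY⟩ := hI M (hMW.trans inf_le_left) hM hbig
    have horth : ∀ x ∈ U, ∀ y ∈ Y, B x y = 0 := fun x hx y hy => (hMW (hYM hy)).2 x hx
    refine ⟨U ⊔ Y, sup_le hUW (hYM.trans (hMW.trans inf_le_left)), inv_sup hU hY, ?_, ?_⟩
    · intro x hx y hy
      obtain ⟨x₁, hx₁, x₂, hx₂, rfl⟩ := Submodule.mem_sup.1 hx
      obtain ⟨y₁, hy₁, y₂, hy₂, rfl⟩ := Submodule.mem_sup.1 hy
      rw [map_add B, LinearMap.add_apply, map_add, map_add, hiso x₁ hx₁ y₁ hy₁, hYiso x₂ hx₂ y₂ hy₂,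
        horth x₁ hx₁ y₂ hy₂, eq_zero_symm hsymm (horth y₁ hy₁ x₂ hx₂)]
      simp
    · have h := Submodule.finrank_sup_add_finrank_inf_eq U Y
      rw [eq_bot_iff.2 ((inf_le_inf_left U hYM).trans hdisj.le), finrank_bot, add_zero, hdU, hdY] at h
      rw [h, add_mul, one_mul]

/-- An atom of a nondegenerate subspace has a partner. -/
theorem exists_partner {M C : Submodule F V} {d : ℕ} (hA : Atoms T M d) (hM : Inv T M) (hMnd : NonDeg B M)
    (hCM : C ≤ M) (hC : Inv T C) (hdC : finrank F C = d) (hC0 : C ≠ ⊥) (hCiso : Isotropic B C) :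
    ∃ C' : Submodule F V, C' ≤ M ∧ Inv T C' ∧ finrank F C' = d ∧ C ⊓ C' = ⊥ ∧ NonDeg B (C ⊔ C') ∧
      (∀ v ∈ C', (∀ c ∈ C, B c v = 0) → v = 0) := by
  have hkpos : 0 < k := Nat.pos_of_ne_zero fun h => hk (by rw [h, Nat.cast_zero])
  set P := M ⊓ C.orthogonalBilin B with hP
  have hPinv : Inv T P := inv_inf hM (inv_orth_of_pow hkpos hT hB hC)
  obtain ⟨C', hC'M, hC', hdC', hinf, hsup⟩ := exists_inv_compl_of_pow hk hT hPinv hM inf_le_left
  have hCP : C ≤ P := le_inf hCM fun c hc x hx => hCiso x hx c hc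
  have hle : finrank F C' ≤ d := by
    have h := finrank_le_orth_add B M C
    have h' : finrank F M ≤ finrank F P + finrank F C := h
    omega
  have hne : C' ≠ ⊥ := by
    rintro rfl
    rw [sup_bot_eq] at hsup
    obtain ⟨c, hc, hc0⟩ := Submodule.exists_mem_ne_zero_of_ne_bot hC0
    refine hc0 (hMnd c (hCM hc) fun w hw => ?_)
    rw [← hsup] at hw
    exact hw.2 c hc
  obtain ⟨D, hDC', -, hdD⟩ := hA C' hC'M hC' hne
  have hd : finrank F C' = d := le_antisymm hle (hdD ▸ Submodule.finrank_mono hDC')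
  have hkey : ∀ v ∈ C', (∀ c ∈ C, B c v = 0) → v = 0 := fun v hv h => by
    have hvP : v ∈ P ⊓ C' := ⟨⟨hC'M hv, fun c hc => h c hc⟩, hv⟩
    rwa [hinf, Submodule.mem_bot] at hvP
  refine ⟨C', hC'M, hC', hd, eq_bot_iff.2 ((inf_le_inf_right C' hCP).trans hinf.le), ?_, hkey⟩
  intro x hx hxo
  obtain ⟨u, hu, v, hv, rfl⟩ := Submodule.mem_sup.1 hx
  have hv0 : v = 0 := hkey v hv fun c hc => eq_zero_symm hsymm (by
    have h := hxo c (Submodule.mem_sup_left hc)
    rwa [map_add, LinearMap.add_apply, hCiso u hu c hc, zero_add] at h)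
  subst hv0
  rw [add_zero] at hxo ⊢
  refine hMnd u (hCM hu) fun w hw => ?_
  rw [← hsup] at hw
  obtain ⟨a, ha, b, hb, rfl⟩ := Submodule.mem_sup.1 hw
  rw [map_add, hxo b (Submodule.mem_sup_right hb), show B u a = 0 from ha.2 u hu, add_zero]

/-- If all atoms are isotropic then nondegenerate units have dimension `2 d`. -/
theorem hasUnit_two_mul {W : Submodule F V} {d : ℕ} (hd : 0 < d) (hA : Atoms T W d)
    (hiso : ∀ C : Submodule F V, C ≤ W → Inv T C → finrank F C = d → Isotropic B C) :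
    HasUnit B T W (2 * d) := by
  intro M hMW hM hMnd hM0
  obtain ⟨C, hCM, hC, hdC⟩ := hA M hMW hM hM0
  have hC0 : C ≠ ⊥ := fun h => by rw [h, finrank_bot] at hdC; omega
  obtain ⟨C', hC'M, hC', hdC', hinf, hnd, -⟩ := exists_partner hk hT hB hsymm (hA.mono hMW) hM hMnd hCM hC hdC hC0
    (hiso C (hCM.trans hMW) hC hdC)
  refine ⟨C ⊔ C', sup_le hCM hC'M, inv_sup hC hC', hnd, ?_⟩
  have h := Submodule.finrank_sup_add_finrank_inf_eq C C'
  rw [hinf, finrank_bot, add_zero, hdC, hdC'] at h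
  omega

omit hk hT hB hsymm in
/-- If all atoms are isotropic, every nonzero subspace contains an isotropic atom. -/
theorem hasIso_zero {W : Submodule F V} {d : ℕ} (hA : Atoms T W d)
    (hiso : ∀ C : Submodule F V, C ≤ W → Inv T C → finrank F C = d → Isotropic B C) :
    HasIso B T W d 0 := by
  intro M hMW hM hdim
  obtain ⟨C, hCM, hC, hdC⟩ := hA M hMW hM (fun h => by rw [h, finrank_bot] at hdim; omega)
  exact ⟨C, hCM, hC, hiso C (hCM.trans hMW) hC hdC, hdC⟩

end Split

section Kinds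

variable [FiniteDimensional F V]

/-- Pairwise different monic irreducible polynomials of degree `d` whose product kills `W`. -/
structure Kinds (T : Module.End F V) (W : Submodule F V) (d : ℕ) (G : Finset F[X]) : Prop where
  monic : ∀ g ∈ G, g.Monic
  irr : ∀ g ∈ G, Irreducible g
  deg : ∀ g ∈ G, g.natDegree = d
  kills : ∀ w ∈ W, aeval T (∏ g ∈ G, g) w = 0

omit [FiniteDimensional F V] in
theorem finrank_cyc_of_irreducible [Fintype F] {v : V} {f : F[X]} (hf : f.Monic) (hirr : Irreducible f)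
    (hfv : aeval T f v = 0) (hv : v ≠ 0) : finrank F (cyc T v) = f.natDegree := by
  rw [← range_act hf hfv, LinearMap.finrank_range_of_inj (act_injective hf hirr hfv hv),
    (AdjoinRoot.powerBasis' hf).finrank, AdjoinRoot.powerBasis'_dim]

theorem finrank_le_sum_inf_ker {W : Submodule F V} (hW : Inv T W) (G : Finset F[X]) :
    finrank F ↥(W ⊓ LinearMap.ker (aeval T (∏ g ∈ G, g))) ≤
      ∑ g ∈ G, finrank F ↥(W ⊓ LinearMap.ker (aeval T g)) := by
  classical
  induction G using Finset.induction_on with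
  | empty =>
    rw [Finset.prod_empty, Finset.sum_empty, Nat.le_zero, Submodule.finrank_eq_zero, Submodule.eq_bot_iff]
    rintro x ⟨-, hx⟩
    simpa using hx
  | @insert a G ha ih =>
    rw [Finset.prod_insert ha, Finset.sum_insert ha]
    exact (finrank_inf_ker_mul_le hW a _).trans (Nat.add_le_add_left ih _)

/-- Some kind has a large kernel. -/
theorem Kinds.exists_lt {W U : Submodule F V} {d : ℕ} {G : Finset F[X]} (hG : Kinds T W d G) (hUW : U ≤ W)
    (hU : Inv T U) {c : ℕ} (hc : G.card * c < finrank F U) :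
    ∃ g ∈ G, c < finrank F ↥(U ⊓ LinearMap.ker (aeval T g)) := by
  by_contra hnot
  push Not at hnot
  have h1 : finrank F U ≤ finrank F ↥(U ⊓ LinearMap.ker (aeval T (∏ g ∈ G, g))) :=
    Submodule.finrank_mono fun u hu => Submodule.mem_inf.2 ⟨hu, hG.kills u (hUW hu)⟩
  have h2 := h1.trans ((finrank_le_sum_inf_ker hU G).trans (Finset.sum_le_sum fun g hg => hnot g hg))
  rw [Finset.sum_const, smul_eq_mul] at h2
  omega

theorem Kinds.exists_cyc [Fintype F] {W U : Submodule F V} {d : ℕ} {G : Finset F[X]} (hG : Kinds T W d G)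
    (hUW : U ≤ W) (hU : Inv T U) (hU0 : U ≠ ⊥) :
    ∃ g ∈ G, ∃ v : V, v ∈ U ∧ v ≠ 0 ∧ aeval T g v = 0 ∧ finrank F (cyc T v) = d := by
  obtain ⟨g, hg, hlt⟩ := hG.exists_lt hUW hU (c := 0)
    (by rw [mul_zero]; exact Nat.pos_of_ne_zero fun h => hU0 (Submodule.finrank_eq_zero.1 h))
  obtain ⟨v, hv, hv0⟩ := Submodule.exists_mem_ne_zero_of_ne_bot (p := U ⊓ LinearMap.ker (aeval T g))
    (fun h => by rw [h, finrank_bot] at hlt; omega)
  exact ⟨g, hg, v, hv.1, hv0, hv.2, by rw [finrank_cyc_of_irreducible (hG.monic g hg) (hG.irr g hg) hv.2 hv0, hG.deg g hg]⟩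

theorem Kinds.atoms [Fintype F] {W : Submodule F V} {d : ℕ} {G : Finset F[X]} (hG : Kinds T W d G) :
    Atoms T W d := fun U hUW hU hU0 => by
  obtain ⟨g, -, v, hv, -, -, hd⟩ := hG.exists_cyc hUW hU hU0
  exact ⟨cyc T v, cyc_le hU hv, inv_cyc T v, hd⟩

end Kinds

section Paired

variable [FiniteDimensional F V] [Fintype F] (p e : ℕ) [ExpChar F p] (hσ : ∀ c : F, σ c = c ^ (p ^ e))
  (hTN : T ^ (p ^ e + 1) = 1) (hB : ∀ u w, B (T u) (T w) = B u w) (hsymm : ∀ u w, B w u = ε * σ (B u w))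
  {W : Submodule F V} {d : ℕ} {G : Finset F[X]} (hG : Kinds T W d G)
  (hcard : p ^ e * p ^ e = Fintype.card F ^ d)

omit [FiniteDimensional F V] [Fintype F] in
include hσ hTN hB in
theorem eq_kind_of_pairing {f g : F[X]} (hf : f.Monic) (hg : g.Monic) (hfirr : Irreducible f)
    (hgirr : Irreducible g) {u w : V} (hfu : aeval T f u = 0) (hgw : aeval T g w = 0) (hw : w ≠ 0)
    (hne : ∃ y ∈ cyc T w, B u y ≠ 0) : f = g := by
  haveI := Fact.mk hgirr
  haveI : ExpChar (AdjoinRoot g) p := expChar_of_injective_algebraMap (algebraMap F (AdjoinRoot g)).injective p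
  obtain ⟨y, hy, hBy⟩ := hne
  set Z := AdjoinRoot.mk g ((f.map σ).comp (X ^ (p ^ e))) with hZ
  have hZeq : Z = aeval (AdjoinRoot.root g) f ^ (p ^ e) := by
    rw [hZ, frob_aeval p e hσ, ← AdjoinRoot.aeval_eq, aeval_comp, map_pow, aeval_X]
  by_cases hZ0 : Z = 0
  · have h0 : aeval (AdjoinRoot.root g) f = 0 := by
      rw [hZeq] at hZ0
      exact (pow_eq_zero_iff (pow_ne_zero _ (expChar_pos F p).ne')).1 hZ0
    rw [AdjoinRoot.aeval_eq, AdjoinRoot.mk_eq_zero] at h0
    exact (Polynomial.eq_of_monic_of_associated hg hf (hgirr.associated_of_dvd hfirr h0)).symm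
  · exfalso
    obtain ⟨Y, rfl⟩ : y ∈ LinearMap.range (act T w hg) := by rwa [range_act hg hgw]
    apply hBy
    have hY : act T w hg Y = aeval (T ^ (p ^ e)) (f.map σ) (act T w hg (Z⁻¹ * Y)) := by
      rw [aeval_pow_eq, ← act_mul hg hgw, ← hZ, mul_inv_cancel_left₀ hZ0]
    rw [hY, ← aeval_adjoint hB hTN f u, hfu, map_zero, LinearMap.zero_apply]

include hσ hTN hB hsymm hG hcard

theorem hasIso_paired : HasIso B T W d G.card := by
  intro M hMW hM hdim
  obtain ⟨f, hfG, hker⟩ := hG.exists_lt hMW hM hdim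
  set K := M ⊓ LinearMap.ker (aeval T f)
  obtain ⟨v, hv, hv0⟩ := Submodule.exists_mem_ne_zero_of_ne_bot
    (p := K) (fun h => by rw [h, finrank_bot] at hker; omega)
  have hd := finrank_le_orth_add B K (cyc T v)
  rw [finrank_cyc_of_irreducible (hG.monic f hfG) (hG.irr f hfG) hv.2 hv0, hG.deg f hfG] at hd
  obtain ⟨v', hv', hv'0⟩ := Submodule.exists_mem_ne_zero_of_ne_bot
    (p := K ⊓ (cyc T v).orthogonalBilin B) (fun h => by rw [h, finrank_bot] at hd; omega)
  obtain ⟨u, hu, hu0, hfu, hiso⟩ := exists_isotropic_kind hsymm p e hσ hTN hB (hG.monic f hfG) (hG.irr f hfG)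
    (by rw [hG.deg f hfG]; exact hcard) hv.2 hv'.1.2 hv0 hv'0 fun x hx => hv'.2 x hx
  exact ⟨cyc T u, cyc_le hM ((sup_le (cyc_le hM hv.1) (cyc_le hM hv'.1.1)) hu), inv_cyc T u, hiso,
    by rw [finrank_cyc_of_irreducible (hG.monic f hfG) (hG.irr f hfG) hfu hu0, hG.deg f hfG]⟩

theorem hasUnit_paired (hd0 : 0 < d) : HasUnit B T W d := by
  intro M hMW hM hMnd hM0
  have hA := (hG.atoms).mono hMW
  -- an atom that is not isotropic is nondegenerate
  have hatom : ∀ C : Submodule F V, C ≤ M → Inv T C → finrank F C = d → ¬ Isotropic B C → NonDeg B C := by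
    intro C hCM hC hdC hni x hx hxo
    by_contra hx0
    have hinv : Inv T (C ⊓ C.orthogonalBilin B) :=
      inv_inf hC (inv_orth_of_pow (Nat.succ_pos _) hTN hB hC)
    have hxmem : x ∈ C ⊓ C.orthogonalBilin B := ⟨hx, fun c hc => eq_zero_symm hsymm (hxo c hc)⟩
    have heq := hA.eq_of_le hCM hdC hinv inf_le_left fun h => hx0 (by rwa [h, Submodule.mem_bot] at hxmem)
    refine hni fun a ha b hb => ?_
    rw [← heq] at hb
    exact hb.2 a ha
  have hk : ((p ^ e + 1 : ℕ) : F) ≠ 0 := by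
    have hN0 : ((p ^ e : ℕ) : F) = 0 := by
      rcases Nat.eq_zero_or_pos e with rfl | he
      · exfalso
        rw [pow_zero, mul_one] at hcard
        have := Fintype.one_lt_card (α := F)
        exact absurd hcard.symm (Nat.one_lt_pow hd0.ne' this).ne'
      · have hp : (p : F) = 0 := by
          cases ‹ExpChar F p› with
          | zero =>
            exfalso
            haveI : Infinite F := Infinite.of_injective ((↑) : ℕ → F) Nat.cast_injective
            exact not_finite F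
          | prime hp => exact CharP.cast_eq_zero F p
        rw [Nat.cast_pow, hp, zero_pow he.ne']
    rw [Nat.cast_add, hN0, zero_add, Nat.cast_one]
    exact one_ne_zero
  obtain ⟨f, hfG, u, huM, hu0, hfu, hdu⟩ := hG.exists_cyc hMW hM hM0
  set C := cyc T u
  have hCM : C ≤ M := cyc_le hM huM
  by_cases hCiso : Isotropic B C
  swap
  · exact ⟨C, hCM, inv_cyc T u, hatom C hCM (inv_cyc T u) hdu hCiso, hdu⟩
  have hC0 : C ≠ ⊥ := fun h => hu0 (by
    have := self_mem_cyc T u
    rwa [show cyc T u = ⊥ from h, Submodule.mem_bot] at this)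
  obtain ⟨C', hC'M, hC', hdC', hinf, -, hkey⟩ :=
    exists_partner hk hTN hB hsymm hA hM hMnd hCM (inv_cyc T u) hdu hC0 hCiso
  by_cases hC'iso : Isotropic B C'
  swap
  · exact ⟨C', hC'M, hC', hatom C' hC'M hC' hdC' hC'iso, hdC'⟩
  have hC'0 : C' ≠ ⊥ := fun h => by rw [h, finrank_bot] at hdC'; omega
  obtain ⟨g, hgG, w, hwC', hw0, hgw, hdw⟩ := hG.exists_cyc (hC'M.trans hMW) hC' hC'0
  have hC'eq : cyc T w = C' :=
    Submodule.eq_of_le_of_finrank_le (cyc_le hC' hwC') (by rw [hdw, hdC'])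
  -- the two atoms have the same kind
  obtain rfl : f = g := eq_kind_of_pairing p e hσ hTN hB (hG.monic f hfG) (hG.monic g hgG) (hG.irr f hfG)
      (hG.irr g hgG) hfu hgw hw0 (by
    by_contra hh
    push Not at hh
    refine hw0 (hkey w hwC' ?_)
    rintro c ⟨h, rfl⟩
    show B (aeval T h u) w = 0
    rw [aeval_adjoint hB hTN]
    exact hh _ (by rw [aeval_pow_eq]; exact inv_aeval (inv_cyc T w) _ (self_mem_cyc T w)))
  haveI := Fact.mk (hG.irr f hfG)
  set hf := hG.monic f hfG
  haveI := hf.finite_adjoinRoot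
  haveI : Finite (AdjoinRoot f) := Module.finite_of_finite F
  haveI : Fintype (AdjoinRoot f) := Fintype.ofFinite _
  obtain ⟨x, hx⟩ : ∃ x : AdjoinRoot f, x ^ (p ^ e) ≠ x := by
    by_contra hh
    push Not at hh
    have hN1 : 1 < p ^ e := by
      have h2 : 1 < Fintype.card F ^ d := Nat.one_lt_pow hd0.ne' Fintype.one_lt_card
      rw [← hcard] at h2
      by_contra h3
      have : p ^ e * p ^ e ≤ 1 * 1 := Nat.mul_le_mul (by omega) (by omega)
      omega
    have hcardK : Fintype.card (AdjoinRoot f) = p ^ e * p ^ e := by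
      rw [hcard, ← hG.deg f hfG, Fintype.card_eq_nat_card, Module.natCard_eq_pow_finrank (K := F),
        (AdjoinRoot.powerBasis' hf).finrank, AdjoinRoot.powerBasis'_dim, Nat.card_eq_fintype_card]
    have hle := Polynomial.card_le_degree_of_subset_roots (p := (X ^ (p ^ e) - X : (AdjoinRoot f)[X]))
      (Z := Finset.univ) (fun y _ => by
        rw [mem_roots (FiniteField.X_pow_card_sub_X_ne_zero _ hN1)]
        simp [hh y])
    rw [FiniteField.X_pow_card_sub_X_natDegree_eq _ hN1, Finset.card_univ, hcardK] at hle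
    have : p ^ e * 2 ≤ p ^ e * p ^ e := Nat.mul_le_mul_left _ hN1
    omega
  -- some vector `u + y` spans a nondegenerate atom
  by_contra hnone
  have hall : ∀ y ∈ C', ∀ h : F[X], B u (aeval T h y) + ε * σ (B u (aeval (T ^ (p ^ e)) (h.map σ) y)) = 0 := by
    intro y hy h
    have hfy : aeval T f y = 0 := by
      obtain ⟨g', rfl⟩ : y ∈ cyc T w := hC'eq.symm ▸ hy
      show aeval T f (aeval T g' w) = 0
      rw [← Module.End.mul_apply, ← map_mul, mul_comm, map_mul, Module.End.mul_apply, hgw, map_zero]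
    have hu'0 : u + y ≠ 0 := fun h0 => hu0 (by
      have hmem : u ∈ C ⊓ C' := ⟨self_mem_cyc T u, by rw [eq_neg_of_add_eq_zero_left h0]; exact C'.neg_mem hy⟩
      rwa [hinf, Submodule.mem_bot] at hmem)
    have hfu' : aeval T f (u + y) = 0 := by rw [map_add, hfu, hfy, add_zero]
    have hcycM : cyc T (u + y) ≤ M := cyc_le hM (M.add_mem huM (hC'M hy))
    have hiso' : Isotropic B (cyc T (u + y)) := by
      by_contra hni
      have hd' : finrank F (cyc T (u + y)) = d := by
        rw [finrank_cyc_of_irreducible hf (hG.irr f hfG) hfu' hu'0, hG.deg f hfG]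
      exact hnone ⟨_, hcycM, inv_cyc T _, hatom _ hcycM (inv_cyc T _) hd' hni, hd'⟩
    have h0 := hiso' _ (self_mem_cyc T (u + y)) (aeval T h (u + y)) (inv_aeval (inv_cyc T _) h (self_mem_cyc T _))
    rw [map_add (aeval T h), map_add B, LinearMap.add_apply, map_add, map_add,
      hCiso u (self_mem_cyc T u) _ (inv_aeval (inv_cyc T u) h (self_mem_cyc T u)),
      hC'iso y hy _ (inv_aeval hC' h hy), zero_add, add_zero, hsymm (aeval T h u) y,
      aeval_adjoint hB hTN] at h0
    exact h0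
  obtain ⟨H, hH⟩ := AdjoinRoot.mk_surjective x
  have hzero : ∀ y ∈ C', B u y = 0 := by
    intro y hy
    obtain ⟨Y, rfl⟩ : y ∈ LinearMap.range (act T w hf) := by rw [range_act hf hgw, hC'eq]; exact hy
    set Z := (x - x ^ (p ^ e))⁻¹ * Y
    have hzC : act T w hf Z ∈ C' := by rw [← hC'eq, ← range_act hf hgw]; exact ⟨Z, rfl⟩
    set z := act T w hf Z
    have h1 := hall _ hzC H
    have h2 := hall (aeval (T ^ (p ^ e)) (H.map σ) z) (by rw [aeval_pow_eq]; exact inv_aeval hC' _ hzC) 1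
    simp only [map_one, Polynomial.map_one, Module.End.one_apply] at h2
    have h3 : B u (aeval T H z) - B u (aeval (T ^ (p ^ e)) (H.map σ) z) = 0 := by linear_combination h1 - h2
    haveI : ExpChar (AdjoinRoot f) p := expChar_of_injective_algebraMap (algebraMap F (AdjoinRoot f)).injective p
    have hxN : AdjoinRoot.mk f ((H.map σ).comp (X ^ (p ^ e))) = x ^ (p ^ e) := by
      rw [← hH, ← AdjoinRoot.aeval_eq H, frob_aeval p e hσ, ← AdjoinRoot.aeval_eq, aeval_comp, map_pow, aeval_X]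
    rw [aeval_pow_eq, ← map_sub (B u), ← act_mul hf hgw, ← act_mul hf hgw, hH, hxN, ← map_sub, ← sub_mul,
      mul_inv_cancel_left₀ (sub_ne_zero.2 (Ne.symm hx))] at h3
    exact h3
  refine hw0 (hkey w hwC' ?_)
  rintro c ⟨h, rfl⟩
  show B (aeval T h u) w = 0
  rw [aeval_adjoint hB hTN]
  exact hzero _ (by rw [aeval_pow_eq]; exact inv_aeval hC' _ hwC')

end Paired

end CfsgLib.PrimeFix
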