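import Mathlib
import Cfsg.Agent.Lib.PrimeFix.Semi
import Cfsg.Agent.Lib.LinFix.Jordan

/-!
Nondegenerate invariant subspaces of unipotent isometries: chains, units and the resulting lists of units.
-/

set_option autoImplicit false

namespace CfsgLib.PrimeFix

open Module

variable {F : Type*} [Field F] {V : Type*} [AddCommGroup V] [Module F V] {σ : F →+* F}
  {B : V →ₛₗ[σ] V →ₗ[F] F} {T : Module.End F V} {ε : F}

/-- Splitting a nondegenerate invariant subspace into units. -/
theorem exists_unit_list [FiniteDimensional F V] {k : ℕ} (hk : 0 < k) (hT : T ^ k = 1)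
    (hB : ∀ u w, B (T u) (T w) = B u w) (hsymm : ∀ u w, B w u = ε * σ (B u w)) {α : Type*} (w : α → ℕ)
    (P : α → Prop) (hunit : ∀ M : Submodule F V, Inv T M → NonDeg B M → M ≠ ⊥ → ∃ (a : α) (Y : Submodule F V),
      P a ∧ 0 < w a ∧ Y ≤ M ∧ Inv T Y ∧ NonDeg B Y ∧ finrank F Y = w a) :
    ∀ M : Submodule F V, Inv T M → NonDeg B M → ∃ L : Multiset α, (∀ a ∈ L, P a) ∧
      (L.map w).sum = finrank F M ∧
      ∀ S ≤ L, ∃ W : Submodule F V, W ≤ M ∧ Inv T W ∧ NonDeg B W ∧ finrank F W = (S.map w).sum := by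
  classical
  intro M
  induction h : finrank F M using Nat.strong_induction_on generalizing M with
  | _ n ih =>
    intro hM hMnd
    rcases eq_or_ne M ⊥ with rfl | hM0
    · refine ⟨0, by simp, by rw [← h]; simp, fun S hS => ⟨⊥, le_rfl, hM, hMnd, ?_⟩⟩
      rw [Multiset.le_zero] at hS
      subst hS
      simp
    obtain ⟨a, Y, hPa, hwa, hYM, hY, hYnd, hdY⟩ := hunit M hM hMnd hM0
    obtain ⟨hZnd, hdZ, -⟩ := hMnd.split hsymm hYnd hYM
    set Z := M ⊓ Y.orthogonalBilin B
    have hZ : Inv T Z := inv_inf hM (inv_orth_of_pow hk hT hB hY)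
    obtain ⟨L, hL, hsum, hsub⟩ := ih (finrank F Z) (by omega) Z rfl hZ hZnd
    refine ⟨a ::ₘ L, ?_, ?_, fun S hS => ?_⟩
    · intro b hb
      rcases Multiset.mem_cons.1 hb with rfl | hb
      exacts [hPa, hL b hb]
    · rw [Multiset.map_cons, Multiset.sum_cons, hsum]; omega
    · by_cases haS : a ∈ S
      · obtain ⟨S', rfl⟩ := Multiset.exists_cons_of_mem haS
        obtain ⟨W, hWZ, hW, hWnd, hdW⟩ := hsub S' ((Multiset.cons_le_cons_iff a).1 hS)
        have horth : ∀ y ∈ Y, ∀ x ∈ W, B y x = 0 := fun y hy x hx => (hWZ hx).2 y hy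
        refine ⟨Y ⊔ W, sup_le hYM (hWZ.trans inf_le_left), inv_sup hY hW, hYnd.sup hWnd hsymm horth, ?_⟩
        have h1 := Submodule.finrank_sup_add_finrank_inf_eq Y W
        have h0 : Y ⊓ W = ⊥ := eq_bot_iff.2 ((inf_le_inf_left Y (hWZ.trans inf_le_right)).trans
          (hYnd.inf_orth_eq_bot hsymm).le)
        rw [h0, finrank_bot, add_zero, hdY, hdW] at h1
        rw [h1, Multiset.map_cons, Multiset.sum_cons]
      · obtain ⟨W, hWZ, hW, hWnd, hdW⟩ := hsub S ((Multiset.le_cons_of_notMem haS).1 hS)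
        exact ⟨W, hWZ.trans inf_le_left, hW, hWnd, hdW⟩

/-- Sub-multisets of block sizes with prescribed divisibility of multiplicities come from sub-lists of units. -/
theorem exists_sub_units (L : Multiset (ℕ × ℕ)) (k : ℕ → ℕ) (hk : ∀ x ∈ L, x.2 = k x.1) :
    ∀ ν : Multiset ℕ, ν ≤ L.bind (fun x => Multiset.replicate x.2 x.1) → (∀ a, k a ∣ ν.count a) →
      ∃ S ≤ L, (S.map fun x => x.1 * x.2).sum = ν.sum := by
  classical
  induction L using Multiset.induction with
  | empty =>
    intro ν hν _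
    rw [Multiset.zero_bind, Multiset.le_zero] at hν
    subst hν
    exact ⟨0, le_rfl, by simp⟩
  | cons x L ih =>
    intro ν hν hdvd
    rw [Multiset.cons_bind] at hν
    have hx := hk x (Multiset.mem_cons_self x L)
    have ih' := ih fun y hy => hk y (Multiset.mem_cons_of_mem hy)
    by_cases hle : Multiset.replicate x.2 x.1 ≤ ν
    · obtain ⟨ν', rfl⟩ := le_iff_exists_add.1 hle
      obtain ⟨S, hS, hsum⟩ := ih' ν' (le_of_add_le_add_left hν) fun a => by
        have h1 := hdvd a
        rw [Multiset.count_add, Multiset.count_replicate] at h1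
        split_ifs at h1 with ha
        · rw [hx, ha] at h1
          exact (Nat.dvd_add_right dvd_rfl).1 h1
        · rwa [zero_add] at h1
      refine ⟨x ::ₘ S, (Multiset.cons_le_cons_iff x).2 hS, ?_⟩
      rw [Multiset.map_cons, Multiset.sum_cons, hsum, Multiset.sum_add, Multiset.sum_replicate, smul_eq_mul,
        mul_comm x.1]
    · have h0 : ν.count x.1 = 0 := by
        have h1 := hdvd x.1
        rw [← hx] at h1
        by_contra h2
        exact hle (Multiset.le_count_iff_replicate_le.1 (Nat.le_of_dvd (Nat.pos_of_ne_zero h2) h1))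
      obtain ⟨S, hS, hsum⟩ := ih' ν (Multiset.le_iff_count.2 fun a => by
        rcases eq_or_ne a x.1 with rfl | ha
        · omega
        · have h1 := Multiset.le_iff_count.1 hν a
          rwa [Multiset.count_add, Multiset.count_replicate, if_neg (Ne.symm ha), zero_add] at h1) hdvd
      exact ⟨S, hS.trans (Multiset.le_cons_self L x), hsum⟩

/-- The block sizes of a list of units. -/
theorem units_props (L : Multiset (ℕ × ℕ)) (k : ℕ → ℕ) (hk : ∀ x ∈ L, x.2 = k x.1) :
    (L.bind fun x => Multiset.replicate x.2 x.1).sum = (L.map fun x => x.1 * x.2).sum ∧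
      ∀ a, k a ∣ (L.bind fun x => Multiset.replicate x.2 x.1).count a := by
  classical
  refine ⟨?_, fun a => ?_⟩
  · induction L using Multiset.induction with
    | empty => simp
    | cons x L ih =>
      rw [Multiset.cons_bind, Multiset.sum_add, Multiset.map_cons, Multiset.sum_cons,
        ih fun y hy => hk y (Multiset.mem_cons_of_mem hy), Multiset.sum_replicate, smul_eq_mul, mul_comm]
  · rw [Multiset.count_bind]
    refine Multiset.dvd_sum fun b hb => ?_
    obtain ⟨x, hx, rfl⟩ := Multiset.mem_map.1 hb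
    rw [Multiset.count_replicate]
    split_ifs with ha
    · rw [hk x hx, ha]
    · exact dvd_zero _

section Chains

variable {k : ℕ} (hk : 0 < k) (hT : T ^ k = 1) (hB : ∀ u w, B (T u) (T w) = B u w)

include hk hT hB

/-- The adjoint of a power of `T - 1`. -/
theorem sub_one_pow_adjoint (j : ℕ) : ∀ u w, B (((T - 1) ^ j) u) w =
    (-1 : F) ^ j * B u (((T ^ (k - 1)) ^ j) (((T - 1) ^ j) w)) := by
  have hS : T * T ^ (k - 1) = 1 := by rw [← pow_succ', Nat.sub_add_cancel hk, hT]
  have hSc : Commute (T ^ (k - 1)) T := (Commute.refl T).pow_left _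
  have h1 : ∀ u w, B ((T - 1) u) w = - B u ((T ^ (k - 1)) ((T - 1) w)) := fun u w => by
    have h := hB u ((T ^ (k - 1)) w)
    rw [← Module.End.mul_apply, hS, Module.End.one_apply] at h
    have e : (T ^ (k - 1)) (T w) = w := by
      rw [← Module.End.mul_apply, hSc.eq, hS, Module.End.one_apply]
    simp only [LinearMap.sub_apply, Module.End.one_apply, map_sub, e, h]
    ring
  induction j with
  | zero => intro u w; simp
  | succ j ih =>
    intro u w
    conv_lhs => rw [pow_succ', Module.End.mul_apply]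
    rw [h1, ih]
    have e : ((T ^ (k - 1)) ^ (j + 1)) (((T - 1) ^ (j + 1)) w) =
        ((T ^ (k - 1)) ^ j) (((T - 1) ^ j) ((T ^ (k - 1)) ((T - 1) w))) := by
      have hc : Commute (T ^ (k - 1)) ((T - 1) ^ j) :=
        Commute.pow_right (hSc.sub_right (Commute.one_right _)) j
      rw [pow_succ, pow_succ, Module.End.mul_apply, Module.End.mul_apply]
      congr 1
      exact LinearMap.congr_fun hc.eq _
    rw [← e, pow_succ (-1 : F)]
    ring

omit hk hT hB in
/-- Vectors killed by `T - 1` are fixed by every power of the inverse. -/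
theorem inverse_pow_fix {v : V} (hv : (T - 1) v = 0) (j : ℕ) : ((T ^ (k - 1)) ^ j) v = v := by
  rw [← pow_mul]
  rw [LinearMap.sub_apply, Module.End.one_apply, sub_eq_zero] at hv
  induction ((k - 1) * j) with
  | zero => rfl
  | succ l ih => rw [pow_succ, Module.End.mul_apply, hv, ih]

/-- Chains of length `s` starting at vectors with nondegenerate `B u ((T - 1) ^ (s - 1) u')` span a nondegenerate
invariant subspace. -/
theorem chains_nonDeg [FiniteDimensional F V] {M : Submodule F V} (hM : Inv T M) {s : ℕ}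
    (hs : ∀ v ∈ M, ((T - 1) ^ s) v = 0) {ι : Type*} [Fintype ι] (u : ι → V) (hu : ∀ a, u a ∈ M)
    (hG : ∀ c : ι → F, (∀ b, ∑ a, σ (c a) * B (u a) (((T - 1) ^ (s - 1)) (u b)) = 0) → c = 0) :
    ∃ Y : Submodule F V, Y ≤ M ∧ Inv T Y ∧ NonDeg B Y ∧ finrank F Y = s * Fintype.card ι := by
  classical
  set N := T - 1 with hN
  have hNM : ∀ j, ∀ v ∈ M, (N ^ j) v ∈ M := fun j => by
    induction j with
    | zero => intro v hv; simpa using hv
    | succ j ih =>
      intro v hv
      rw [pow_succ', Module.End.mul_apply, hN, LinearMap.sub_apply, Module.End.one_apply]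
      exact M.sub_mem (hM _ (ih v hv)) (ih v hv)
  have hhigh : ∀ v ∈ M, ∀ j, s ≤ j → (N ^ j) v = 0 := fun v hv j hj => by
    rw [← Nat.sub_add_cancel hj, pow_add, Module.End.mul_apply, hs v hv, map_zero]
  have hpair : ∀ (i j : ℕ) a b, s ≤ i + j + 1 → B ((N ^ i) (u a)) ((N ^ j) (u b)) =
      if i + j + 1 = s then (-1 : F) ^ i * B (u a) ((N ^ (s - 1)) (u b)) else 0 := by
    intro i j a b hij
    rw [sub_one_pow_adjoint hk hT hB, ← Module.End.mul_apply (N ^ i), ← pow_add]
    split_ifs with h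
    · rw [show i + j = s - 1 by omega, inverse_pow_fix]
      rw [← Module.End.mul_apply, ← hN, ← pow_succ', show s - 1 + 1 = s by omega]
      exact hs _ (hu b)
    · rw [hhigh _ (hu b) _ (by omega), map_zero, map_zero, mul_zero]
  let g : (Fin s × ι → F) →ₗ[F] V := Fintype.linearCombination F fun x => (N ^ (x.1 : ℕ)) (u x.2)
  have hg : ∀ c, g c = ∑ x, c x • (N ^ (x.1 : ℕ)) (u x.2) := fun c => Fintype.linearCombination_apply F _ _
  have hkey : ∀ c, (∀ x : Fin s × ι, B (g c) ((N ^ (x.1 : ℕ)) (u x.2)) = 0) → c = 0 := by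
    intro c hc
    by_contra hne
    obtain ⟨x₀, hx₀⟩ := Function.ne_iff.1 hne
    have hex : ∃ i, ∃ a, ∃ h : i < s, c (⟨i, h⟩, a) ≠ 0 := ⟨x₀.1, x₀.2, x₀.1.2, hx₀⟩
    set i₀ := Nat.find hex
    obtain ⟨a₀, hi₀, hca⟩ := Nat.find_spec hex
    have hzero : (fun a => c (⟨i₀, hi₀⟩, a)) = 0 := hG _ fun b => by
      have h1 := hc (⟨s - 1 - i₀, by omega⟩, b)
      rw [hg, map_sum, LinearMap.sum_apply, Fintype.sum_prod_type, Finset.sum_eq_single (⟨i₀, hi₀⟩ : Fin s)] at h1
      · simp only [map_smulₛₗ, LinearMap.smul_apply, smul_eq_mul, RingHom.id_apply] at h1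
        have h2 : ∀ a, σ (c (⟨i₀, hi₀⟩, a)) * B ((N ^ i₀) (u a)) ((N ^ (s - 1 - i₀)) (u b)) =
            (-1 : F) ^ i₀ * (σ (c (⟨i₀, hi₀⟩, a)) * B (u a) ((N ^ (s - 1)) (u b))) := fun a => by
          rw [hpair _ _ _ _ (by omega), if_pos (by omega), mul_left_comm]
        rw [Finset.sum_congr rfl (fun a _ => h2 a), ← Finset.mul_sum] at h1
        exact (mul_eq_zero.1 h1).resolve_left (pow_ne_zero _ (neg_ne_zero.2 one_ne_zero))
      · intro i _ hi
        refine Finset.sum_eq_zero fun a _ => ?_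
        rw [map_smulₛₗ, LinearMap.smul_apply]
        rcases lt_or_gt_of_ne (Fin.val_ne_of_ne hi) with h | h
        · have : c (i, a) = 0 := by
            by_contra h'
            exact Nat.find_min hex h ⟨a, i.2, h'⟩
          rw [this, map_zero, zero_smul]
        · rw [hpair _ _ _ _ (by simp only at h ⊢; omega), if_neg (by simp only at h ⊢; omega), smul_zero]
      · simp
    exact hca (congrFun hzero a₀)
  have hinj : Function.Injective g := by
    rw [← LinearMap.ker_eq_bot, Submodule.eq_bot_iff]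
    intro c hc
    exact hkey c fun x => by rw [LinearMap.mem_ker.1 hc, map_zero, LinearMap.zero_apply]
  have hmem : ∀ (j : ℕ) a, (N ^ j) (u a) ∈ LinearMap.range g := fun j a => by
    rcases Nat.lt_or_ge j s with h | h
    · exact ⟨Pi.single (⟨j, h⟩, a) 1, by simp [g, Fintype.linearCombination_apply_single]⟩
    · rw [hhigh _ (hu a) _ h]; exact Submodule.zero_mem _
  refine ⟨LinearMap.range g, ?_, ?_, ?_, ?_⟩
  · rintro _ ⟨c, rfl⟩
    rw [hg]
    exact M.sum_mem fun x _ => M.smul_mem _ (hNM _ _ (hu _))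
  · rintro _ ⟨c, rfl⟩
    have e : T = N + 1 := by rw [hN, sub_add_cancel]
    rw [e, LinearMap.add_apply, Module.End.one_apply]
    refine Submodule.add_mem _ ?_ ⟨c, rfl⟩
    rw [hg, map_sum]
    refine Submodule.sum_mem _ fun x _ => ?_
    rw [map_smul, ← Module.End.mul_apply, ← pow_succ']
    exact Submodule.smul_mem _ _ (hmem _ _)
  · rintro _ ⟨c, rfl⟩ ho
    rw [hkey c fun x => ho _ (hmem _ _), map_zero]
  · rw [LinearMap.finrank_range_of_inj hinj, Module.finrank_fintype_fun_eq_card, Fintype.card_prod, Fintype.card_fin]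

/-- The largest block of a nondegenerate subspace carries a nonzero form. -/
theorem exists_top_block [FiniteDimensional F V] (hN : IsNilpotent (T - 1)) {M : Submodule F V}
    (hMnd : NonDeg B M) (hM : Inv T M) (hM0 : M ≠ ⊥) :
    ∃ s, 0 < s ∧ (∀ v ∈ M, ((T - 1) ^ s) v = 0) ∧ (∃ v ∈ M, ((T - 1) ^ (s - 1)) v ≠ 0) ∧
      ∃ u ∈ M, ∃ w ∈ M, B u (((T - 1) ^ (s - 1)) w) ≠ 0 := by
  classical
  obtain ⟨K, hK⟩ := hN
  have hex : ∃ s : ℕ, ∀ v ∈ M, ((T - 1 : Module.End F V) ^ s) v = 0 := ⟨K, fun v _ => by simp [hK]⟩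
  set s := Nat.find hex
  have hs : ∀ v ∈ M, ((T - 1) ^ s) v = 0 := Nat.find_spec hex
  have hs0 : 0 < s := Nat.pos_of_ne_zero fun h => hM0 ((Submodule.eq_bot_iff _).2 fun v hv => by
    simpa [h] using hs v hv)
  obtain ⟨v, hv, hv0⟩ : ∃ v ∈ M, ((T - 1) ^ (s - 1)) v ≠ 0 := by
    have h := Nat.find_min hex (show s - 1 < s by omega)
    push Not at h
    exact h
  refine ⟨s, hs0, hs, ⟨v, hv, hv0⟩, ?_⟩
  have hvM : ((T - 1) ^ (s - 1)) v ∈ M := by
    have h1 : CfsgLib.LinFix.Inv (T - 1) M := CfsgLib.LinFix.inv_sub_one_iff.2 hM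
    exact h1.pow (s - 1) v hv
  by_contra hall
  push Not at hall
  have hB0 : ∀ x, x ∈ M → B x (((T - 1) ^ (s - 1)) v) = 0 := fun x hx => hall x hx v hv
  refine hv0 (hMnd _ hvM fun x hx => ?_)
  rw [sub_one_pow_adjoint hk hT hB, mul_eq_zero]
  refine Or.inr ?_
  have h2 : (T - 1) (((T - 1) ^ (s - 1)) x) = 0 := by
    rw [← Module.End.mul_apply, ← pow_succ', Nat.sub_add_cancel hs0]; exact hs x hx
  rw [inverse_pow_fix h2]
  exact hall v hv x hx

end Chains

end CfsgLib.PrimeFix
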