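import Mathlib
import Cfsg.Prelude
import Cfsg.Agent.Lib.PrimeFix.Semi
import Cfsg.Agent.Lib.PrimeFix.Kinds
import Cfsg.Agent.Lib.Forms.Classify
import Cfsg.Agent.Lib.Classical.Herm.Std

/-!
The standard Hermitian space as a sesquilinear form, orthonormal frames, and the primes dividing the numbers of
totally isotropic and of nondegenerate subspaces of given dimension.
-/

set_option autoImplicit false

namespace CfsgLib.PrimeFix.Herm

open Module Cfsg CfsgLib.Classical.Herm

variable {F : Type*} [Field F] [Fintype F] {q n : ℕ}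

/-- The standard Hermitian form, semilinear in the first variable: `B u w = hermForm w u`. -/
def hermB (hF : Fintype.card F = q ^ 2) (n : ℕ) : (Fin n → F) →ₛₗ[qPow hF] (Fin n → F) →ₗ[F] F :=
  LinearMap.mk₂'ₛₗ (qPow hF) (RingHom.id F) (fun u w => hermForm n F q w u)
    (fun u u' w => by
      simp only [hermForm]
      rw [← Finset.sum_add_distrib]
      refine Finset.sum_congr rfl fun i _ => ?_
      rw [Pi.add_apply, ← qPow_apply hF, map_add, qPow_apply, qPow_apply, mul_add])
    (fun c u w => by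
      simp only [hermForm, Pi.smul_apply, smul_eq_mul, mul_pow, qPow_apply, Finset.mul_sum]
      exact Finset.sum_congr rfl fun i _ => by ring)
    (fun u w w' => by simp [hermForm, add_mul, Finset.sum_add_distrib])
    (fun c u w => by
      simp only [hermForm, Pi.smul_apply, smul_eq_mul, RingHom.id_apply, Finset.mul_sum]
      exact Finset.sum_congr rfl fun i _ => by ring)

@[simp] theorem hermB_apply (hF : Fintype.card F = q ^ 2) (u w : Fin n → F) :
    hermB hF n u w = hermForm n F q w u := rfl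

theorem qPow_hermForm (hF : Fintype.card F = q ^ 2) (u w : Fin n → F) :
    qPow hF (hermForm n F q u w) = hermForm n F q w u := by
  have h := (stdHerm hF n).symm' u w
  simpa using h

theorem hermB_symm (hF : Fintype.card F = q ^ 2) (u w : Fin n → F) :
    hermB hF n w u = 1 * qPow hF (hermB hF n u w) := by
  rw [one_mul, hermB_apply, hermB_apply, qPow_hermForm]

theorem hermB_nondeg (hF : Fintype.card F = q ^ 2) (u : Fin n → F) (h : ∀ w, hermB hF n u w = 0) : u = 0 :=
  (stdHerm hF n).nondeg u fun w => by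
    have h1 := h w
    rw [hermB_apply] at h1
    rw [stdHerm_h, ← qPow_hermForm hF, h1, map_zero]

theorem nonDeg_top (hF : Fintype.card F = q ^ 2) : NonDeg (hermB hF n) (⊤ : Submodule F (Fin n → F)) :=
  fun u _ h => hermB_nondeg hF u fun w => h w trivial

theorem qPow_ne_id (hF : Fintype.card F = q ^ 2) : qPow hF ≠ RingHom.id F := fun h => by
  obtain ⟨a, ha⟩ := exists_qPow_ne hF
  exact ha (by rw [h]; rfl)

theorem exists_exponent_pow {p : ℕ} [Fact p.Prime] [CharP F p] (hF : Fintype.card F = q ^ 2) :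
    ∃ k, 0 < k ∧ q = p ^ k := by
  obtain ⟨p', k, hp', hc, hq⟩ := exists_charP_pow hF
  haveI := hc
  obtain rfl := CharP.eq F ‹CharP F p'› ‹CharP F p›
  refine ⟨k, Nat.pos_of_ne_zero fun h => ?_, hq⟩
  have := two_le_of_card hF
  rw [hq, h, pow_zero] at this
  omega

/-- Exact dimension of an orthogonal space. -/
theorem finrank_orth (hF : Fintype.card F = q ^ 2) (S : Submodule F (Fin n → F)) :
    finrank F S + finrank F ↥(S.orthogonalBilin (hermB hF n)) = n := by
  set B := hermB hF n
  set P := S.orthogonalBilin B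
  have h1 := finrank_le_orth_add B ⊤ S
  rw [top_inf_eq, finrank_top, Module.finrank_fintype_fun_eq_card, Fintype.card_fin] at h1
  have h1' : n ≤ finrank F P + finrank F S := h1
  haveI : Finite ((Fin n → F) ⧸ P) := Module.finite_of_finite F
  haveI : Finite (((Fin n → F) ⧸ P) →ₗ[F] F) := Module.finite_of_finite F
  let φ : S → (((Fin n → F) ⧸ P) →ₗ[F] F) := fun u => P.liftQ (B (u : Fin n → F)) fun w hw => hw u u.2
  have hφ : Function.Injective φ := fun a b h => by
    refine Subtype.ext (sub_eq_zero.1 (hermB_nondeg hF _ fun w => ?_))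
    have := LinearMap.congr_fun h (Submodule.Quotient.mk w)
    show B _ w = 0
    rw [map_sub, LinearMap.sub_apply, sub_eq_zero]
    exact this
  have hcard := Nat.card_le_card_of_injective φ hφ
  rw [Module.natCard_eq_pow_finrank (K := F) (V := S),
    Module.natCard_eq_pow_finrank (K := F) (V := ((Fin n → F) ⧸ P) →ₗ[F] F), Subspace.dual_finrank_eq,
    Nat.pow_le_pow_iff_right (Nat.card_eq_fintype_card (α := F) ▸ Fintype.one_lt_card)] at hcard
  have h := P.finrank_quotient_add_finrank
  rw [Module.finrank_fintype_fun_eq_card, Fintype.card_fin] at h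
  omega

/-- A nondegenerate subspace is isometric to a standard space. -/
theorem exists_isometry (hF : Fintype.card F = q ^ 2) (M : Submodule F (Fin n → F)) (hM : NonDeg (hermB hF n) M)
    {e : ℕ} (he : finrank F M = e) :
    ∃ E : (Fin e → F) ≃ₗ[F] M, ∀ x y, hermB hF n (E x : Fin n → F) (E y) = hermB hF e x y := by
  classical
  obtain ⟨b, hb, hb'⟩ := Forms.exists_orthonormal_family (hermB hF n) (qPow_ne_id hF) (qPow_qPow hF)
    ⟨fun x y => by rw [hermB_apply, hermB_apply]; exact qPow_hermForm hF _ _⟩ e M he hM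
  have hmem : ∀ i, b i ∈ M := fun i => hb ▸ Submodule.subset_span (Set.mem_range_self i)
  let g : (Fin e → F) →ₗ[F] M := (Fintype.linearCombination F (fun i => (⟨b i, hmem i⟩ : M)))
  have hg : ∀ x, (g x : Fin n → F) = ∑ i, x i • b i := fun x => by
    simp [g, Fintype.linearCombination_apply]
  have hval : ∀ x y, hermB hF n (g x : Fin n → F) (g y) = hermB hF e x y := fun x y => by
    rw [hg, hg, map_sum]
    simp only [LinearMap.sum_apply, map_sum, map_smulₛₗ, LinearMap.smul_apply, smul_eq_mul, RingHom.id_apply, hb',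
      mul_ite, mul_one, mul_zero, Finset.sum_ite_eq', Finset.mem_univ, if_true, hermB_apply, hermForm, qPow_apply]
  have hinj : Function.Injective g := by
    rw [← LinearMap.ker_eq_bot, Submodule.eq_bot_iff]
    intro x hx
    refine hermB_nondeg hF x fun y => ?_
    rw [← hval, LinearMap.mem_ker.1 hx]
    simp
  refine ⟨LinearEquiv.ofBijective g ⟨hinj, ?_⟩, hval⟩
  exact (LinearMap.injective_iff_surjective_of_finrank_eq_finrank
    (by rw [he, Module.finrank_fintype_fun_eq_card, Fintype.card_fin])).1 hinj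

/-! ### Frames -/

/-- Tuples with Gram matrix `c`. -/
abbrev Frame (hF : Fintype.card F = q ^ 2) (n : ℕ) (c : F) (k : ℕ) : Type _ :=
  {t : Fin k → (Fin n → F) // LinearIndependent F t ∧ ∀ i j, hermB hF n (t i) (t j) = if i = j then c else 0}

theorem card_frame_zero (hF : Fintype.card F = q ^ 2) (c : F) : Nat.card (Frame hF n c 0) = 1 := by
  rw [Nat.card_eq_one_iff_unique]
  exact ⟨⟨fun a b => Subtype.ext (funext fun i => i.elim0)⟩,
    ⟨⟨Fin.elim0, linearIndependent_empty_type, fun i => i.elim0⟩⟩⟩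

theorem mem_orth_span (hF : Fintype.card F = q ^ 2) {ι : Type*} {t : ι → (Fin n → F)} {x : Fin n → F} :
    x ∈ (Submodule.span F (Set.range t)).orthogonalBilin (hermB hF n) ↔ ∀ i, hermB hF n (t i) x = 0 := by
  constructor
  · exact fun h i => h _ (Submodule.subset_span ⟨i, rfl⟩)
  · intro h y hy
    show hermB hF n y x = 0
    induction hy using Submodule.span_induction with
    | mem z hz => obtain ⟨i, rfl⟩ := hz; exact h i
    | zero => rw [map_zero, LinearMap.zero_apply]
    | add a b _ _ ha hb => rw [map_add, LinearMap.add_apply, ha, hb, add_zero]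
    | smul a v _ hv => rw [map_smulₛₗ, LinearMap.smul_apply, hv, smul_zero]

/-- Adding one vector to a frame. -/
theorem card_frame_succ (hF : Fintype.card F = q ^ 2) (c : F) (k N : ℕ)
    (hN : ∀ t : Frame hF n c k, Nat.card {x : Fin n → F // x ∈ (Submodule.span F (Set.range t.1)).orthogonalBilin
      (hermB hF n) ∧ x ∉ Submodule.span F (Set.range t.1) ∧ hermB hF n x x = c} = N) :
    Nat.card (Frame hF n c (k + 1)) = Nat.card (Frame hF n c k) * N := by
  classical
  have e : Frame hF n c (k + 1) ≃ Σ t : Frame hF n c k,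
      {x : Fin n → F // x ∈ (Submodule.span F (Set.range t.1)).orthogonalBilin (hermB hF n) ∧
        x ∉ Submodule.span F (Set.range t.1) ∧ hermB hF n x x = c} := by
    refine
      { toFun := fun t => ⟨⟨Fin.init t.1, t.2.1.comp _ (Fin.castSucc_injective k), fun i j => ?_⟩,
          ⟨t.1 (Fin.last k), ?_, ?_, by rw [t.2.2, if_pos rfl]⟩⟩
        invFun := fun p => ⟨Fin.snoc p.1.1 p.2.1, linearIndependent_fin_snoc.2 ⟨p.1.2.1, p.2.2.2.1⟩, ?_⟩
        left_inv := fun t => Subtype.ext (Fin.snoc_init_self t.1)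
        right_inv := fun p => Sigma.subtype_ext (Subtype.ext (Fin.init_snoc (α := fun _ => Fin n → F) p.2.1 p.1.1))
          (by exact Fin.snoc_last (α := fun _ => Fin n → F) p.2.1 p.1.1) }
    · show hermB hF n (t.1 i.castSucc) (t.1 j.castSucc) = _
      rw [t.2.2]; simp
    · rw [mem_orth_span hF]
      intro i
      show hermB hF n (t.1 i.castSucc) (t.1 (Fin.last k)) = 0
      rw [t.2.2, if_neg (Fin.castSucc_ne_last i)]
    · intro h
      have h' := t.2.1
      rw [linearIndependent_fin_succ'] at h'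
      exact h'.2 h
    · intro i j
      induction i using Fin.lastCases <;> induction j using Fin.lastCases <;>
        simp only [Fin.snoc_last, Fin.snoc_castSucc]
      · simpa using p.2.2.2.2
      · rw [if_neg (Fin.castSucc_ne_last _).symm, hermB_symm hF,
          (mem_orth_span hF).1 p.2.2.1 _, map_zero, mul_zero]
      · rw [if_neg (Fin.castSucc_ne_last _)]
        exact (mem_orth_span hF).1 p.2.2.1 _
      · rw [p.1.2.2]; simp
  rw [Nat.card_congr e, Nat.card_sigma, Finset.sum_congr rfl (fun t _ => hN t), Finset.sum_const,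
    Finset.card_univ, smul_eq_mul, Nat.card_eq_fintype_card]

theorem card_level (hF : Fintype.card F = q ^ 2) {M : Submodule F (Fin n → F)} (hM : NonDeg (hermB hF n) M)
    {e : ℕ} (he : finrank F M = e) (c : F) :
    Nat.card {x : M // hermB hF n (x : Fin n → F) x = c} = levelCount e F q c := by
  obtain ⟨E, hE⟩ := exists_isometry hF M hM he
  refine (Nat.card_congr (Equiv.subtypeEquiv E.toEquiv fun x => ?_)).symm
  show hermForm e F q x x = c ↔ hermB hF n (E x : Fin n → F) (E x) = c
  rw [hE, hermB_apply]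

theorem span_frame_nonDeg (hF : Fintype.card F = q ^ 2) {k : ℕ} (t : Frame hF n (1 : F) k) :
    NonDeg (hermB hF n) (Submodule.span F (Set.range t.1)) := by
  intro u hu huo
  obtain ⟨a, rfl⟩ := (Submodule.mem_span_range_iff_exists_fun F).1 hu
  have ha : ∀ j, a j = 0 := fun j => by
    have h := huo (t.1 j) (Submodule.subset_span ⟨j, rfl⟩)
    rw [map_sum, LinearMap.sum_apply, Finset.sum_eq_single j (fun i _ hne => by
      rw [map_smulₛₗ, LinearMap.smul_apply, t.2.2, if_neg hne, smul_zero]) (by simp), map_smulₛₗ,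
      LinearMap.smul_apply, t.2.2, if_pos rfl, smul_eq_mul, mul_one] at h
    exact (map_eq_zero (qPow hF)).1 h
  exact Finset.sum_eq_zero fun j _ => by rw [ha j, zero_smul]

theorem card_frame_one (hF : Fintype.card F = q ^ 2) :
    ∀ k, k ≤ n → Nat.card (Frame hF n (1 : F) k) = ∏ j ∈ Finset.range k, levelCount (n - j) F q 1
  | 0, _ => by rw [card_frame_zero, Finset.prod_range_zero]
  | k + 1, hk => by
    rw [Finset.prod_range_succ, ← card_frame_one hF k (by omega)]
    refine card_frame_succ hF 1 k _ fun t => ?_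
    set S := Submodule.span F (Set.range t.1) with hS
    have hSnd := span_frame_nonDeg hF t
    obtain ⟨hPnd, hdim, -⟩ := (nonDeg_top hF).split (hermB_symm hF) hSnd le_top
    rw [top_inf_eq] at hPnd hdim
    rw [finrank_top, Module.finrank_fintype_fun_eq_card, Fintype.card_fin,
      finrank_span_eq_card t.2.1, Fintype.card_fin] at hdim
    have hlev := card_level hF hPnd (e := n - k) (by omega) 1
    rw [← hlev]
    refine (Nat.card_congr
      { toFun := fun x => ⟨⟨x.1, x.2.1⟩, x.2.2.2⟩
        invFun := fun x => ⟨x.1.1, x.1.2, fun h => ?_, x.2⟩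
        left_inv := fun x => rfl
        right_inv := fun x => rfl })
    have h0 : (x.1.1 : Fin n → F) = 0 := hSnd _ h fun w hw => eq_zero_symm (hermB_symm hF) (x.1.2 w hw)
    have h1 := x.2
    rw [h0, map_zero] at h1
    exact zero_ne_one h1

theorem span_frame_isotropic (hF : Fintype.card F = q ^ 2) {k : ℕ} (t : Frame hF n (0 : F) k) :
    Isotropic (hermB hF n) (Submodule.span F (Set.range t.1)) := fun u hu w hw => by
  refine eq_zero_symm (hermB_symm hF) ?_
  refine (?_ : u ∈ (Submodule.span F (Set.range t.1)).orthogonalBilin (hermB hF n)) w hw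
  rw [mem_orth_span hF]
  intro i
  refine eq_zero_symm (hermB_symm hF) ?_
  obtain ⟨a, rfl⟩ := (Submodule.mem_span_range_iff_exists_fun F).1 hu
  rw [map_sum, LinearMap.sum_apply]
  refine Finset.sum_eq_zero fun j _ => ?_
  rw [map_smulₛₗ, LinearMap.smul_apply, t.2.2, ite_self, smul_zero]

theorem card_frame_iso (hF : Fintype.card F = q ^ 2) :
    ∀ k, 2 * k ≤ n → Nat.card (Frame hF n (0 : F) k) =
      ∏ j ∈ Finset.range k, q ^ (2 * j) * (levelCount (n - 2 * j) F q 0 - 1)
  | 0, _ => by rw [card_frame_zero, Finset.prod_range_zero]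
  | k + 1, hk => by
    classical
    rw [Finset.prod_range_succ, ← card_frame_iso hF k (by omega)]
    refine card_frame_succ hF 0 k _ fun t => ?_
    set S := Submodule.span F (Set.range t.1) with hS
    set P := S.orthogonalBilin (hermB hF n) with hP
    have hiso := span_frame_isotropic hF t
    have hSP : S ≤ P := fun u hu w hw => hiso w hw u hu
    obtain ⟨M, hMP, -, hdM, hinf, hsup⟩ := exists_inv_compl_of_pow (T := (1 : Module.End F (Fin n → F))) (k := 1)
      (by simp) (one_pow 1) (U := S) (W := P) (fun w hw => hw) (fun w hw => hw) hSP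
    have hdS : finrank F S = k := by rw [hS, finrank_span_eq_card t.2.1, Fintype.card_fin]
    have hdP := finrank_orth hF S
    have hMnd : NonDeg (hermB hF n) M := by
      intro u hu huo
      have huPP : u ∈ P.orthogonalBilin (hermB hF n) := fun w hw => by
        rw [← hsup] at hw
        obtain ⟨s, hs, x, hx, rfl⟩ := Submodule.mem_sup.1 hw
        show hermB hF n (s + x) u = 0
        rw [map_add, LinearMap.add_apply, hMP hu s hs, eq_zero_symm (hermB_symm hF) (huo x hx), add_zero]
      have hPP : P.orthogonalBilin (hermB hF n) = S := by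
        have hle : S ≤ P.orthogonalBilin (hermB hF n) := fun s hs x hx => eq_zero_symm (hermB_symm hF) (hx s hs)
        refine (Submodule.eq_of_le_of_finrank_le hle ?_).symm
        have := finrank_orth hF P
        rw [← hP] at hdP
        omega
      have : u ∈ S ⊓ M := ⟨hPP ▸ huPP, hu⟩
      rwa [hinf, Submodule.mem_bot] at this
    have hlev := card_level hF hMnd (e := n - 2 * k) (by rw [← hP] at hdP; omega) 0
    have hpair : ∀ s ∈ S, ∀ x ∈ M, hermB hF n (s + x) (s + x) = hermB hF n x x := fun s hs x hx => by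
      rw [map_add (hermB hF n), LinearMap.add_apply, map_add, map_add, hiso s hs s hs, hMP hx s hs,
        eq_zero_symm (hermB_symm hF) (hMP hx s hs)]
      simp
    have e : (S × {x : M // hermB hF n (x : Fin n → F) x = 0 ∧ x ≠ 0}) ≃
        {x : Fin n → F // x ∈ P ∧ x ∉ S ∧ hermB hF n x x = 0} := by
      refine Equiv.ofBijective (fun y => ⟨(y.1 : Fin n → F) + y.2.1, P.add_mem (hSP y.1.2) (hMP y.2.1.2), ?_,
        by rw [hpair _ y.1.2 _ y.2.1.2]; exact y.2.2.1⟩) ⟨?_, ?_⟩
      · intro h
        have h1 : (y.2.1 : Fin n → F) ∈ S ⊓ M := ⟨(S.add_mem_iff_right y.1.2).1 h, y.2.1.2⟩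
        rw [hinf, Submodule.mem_bot] at h1
        exact y.2.2.2 (Subtype.ext h1)
      · rintro ⟨s, x, hx⟩ ⟨s', x', hx'⟩ h
        have h0 : (s : Fin n → F) + x = (s' : Fin n → F) + x' := congrArg Subtype.val h
        have h1 : (s : Fin n → F) - s' ∈ S ⊓ M := ⟨S.sub_mem s.2 s'.2, by
          rw [sub_eq_sub_iff_add_eq_add.2 (h0.trans (add_comm _ _))]; exact M.sub_mem x'.2 x.2⟩
        rw [hinf, Submodule.mem_bot, sub_eq_zero] at h1
        obtain rfl : s = s' := Subtype.ext h1
        obtain rfl : x = x' := Subtype.ext (add_left_cancel h0)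
        rfl
      · rintro ⟨y, hyP, hyS, hy0⟩
        rw [← hsup] at hyP
        obtain ⟨s, hs, x, hx, rfl⟩ := Submodule.mem_sup.1 hyP
        refine ⟨⟨⟨s, hs⟩, ⟨x, hx⟩, by rw [← hpair s hs x hx]; exact hy0, fun h0 => hyS ?_⟩, rfl⟩
        rw [show x = 0 from congrArg Subtype.val h0, add_zero]
        exact hs
    rw [← Nat.card_congr e, Nat.card_prod, Module.natCard_eq_pow_finrank (K := F) (V := S), hdS,
      Nat.card_eq_fintype_card, hF, ← pow_mul, ← hlev]
    congr 1
    haveI : Finite M := Subtype.finite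
    let o : {x : M // hermB hF n (x : Fin n → F) x = 0} := ⟨0, by simp⟩
    rw [← Nat.card_congr ((Equiv.subtypeEquivRight (p := fun y => y ≠ o)
      (q := fun y : {x : M // hermB hF n (x : Fin n → F) x = 0} => y.1 ≠ 0) fun y => not_congr
        Subtype.ext_iff).trans (Equiv.subtypeSubtypeEquivSubtypeInter (fun x : M => hermB hF n (x : Fin n → F) x = 0) (fun x => x ≠ 0)))]
    letI := Fintype.ofFinite {x : M // hermB hF n (x : Fin n → F) x = 0}
    rw [Nat.card_eq_fintype_card, Nat.card_eq_fintype_card, Fintype.card_subtype_compl, Fintype.card_subtype_eq]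

/-! ### Counts -/

theorem levelCount_zero_sub_one (hF : Fintype.card F = q ^ 2) (e : ℕ) :
    (((levelCount (e + 1) F q 0 - 1 : ℕ) : ℤ)) =
      ((q : ℤ) ^ (e + 1) - (-1) ^ (e + 1)) * ((q : ℤ) ^ e - (-1) ^ e) := by
  have hq := two_le_of_card hF
  have h := levelCount_zero_formula hF (e + 1)
  have h1 : 1 ≤ levelCount (e + 1) F q 0 := by
    haveI : Nonempty {v : Fin (e + 1) → F // hermForm (e + 1) F q v v = 0} := ⟨⟨0, by simp [hermForm]⟩⟩
    exact Nat.card_pos
  rw [Nat.cast_sub h1, Nat.cast_one]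
  refine mul_left_cancel₀ (show (q : ℤ) ≠ 0 by omega) ?_
  rw [mul_sub, mul_one, h, neg_pow]
  rcases Nat.even_or_odd e with he | ho
  · rw [(he.add_one).neg_one_pow, he.neg_one_pow]; ring
  · rw [(ho.add_one).neg_one_pow, ho.neg_one_pow]; ring

/-- The number of totally isotropic subspaces, times a product. -/
theorem card_iso_eq (hF : Fintype.card F = q ^ 2) {m : ℕ} (hm : 2 * m ≤ n) :
    Nat.card {W : Submodule F (Fin n → F) // finrank F ↥W = m ∧ (∀ u ∈ W, ∀ v ∈ W, hermForm n F q u v = 0)} *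
        ∏ j ∈ Finset.range m, ((q ^ 2) ^ (m - j) - 1) =
      ∏ j ∈ Finset.range m, (levelCount (n - 2 * j) F q 0 - 1) := by
  have h := card_tuples_eq (F := F) m
    (fun W : Submodule F (Fin n → F) => ∀ u ∈ W, ∀ v ∈ W, hermForm n F q u v = 0)
  have hfr : Nat.card (Frame hF n (0 : F) m) = Nat.card {t : Fin m → (Fin n → F) // LinearIndependent F t ∧
      ∀ u ∈ Submodule.span F (Set.range t), ∀ v ∈ Submodule.span F (Set.range t), hermForm n F q u v = 0} := by
    refine Nat.card_congr (Equiv.subtypeEquivRight fun t => and_congr_right fun ht => ?_)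
    constructor
    · intro hp u hu v hv
      exact span_frame_isotropic hF ⟨t, ht, hp⟩ v hv u hu
    · intro hp i j
      rw [ite_self]
      exact hp _ (Submodule.subset_span ⟨j, rfl⟩) _ (Submodule.subset_span ⟨i, rfl⟩)
  rw [← hfr, card_frame_iso hF m hm, hF,
    ← Finset.prod_range (fun j => (q ^ 2) ^ m - (q ^ 2) ^ j)] at h
  have h2 : ∀ j ∈ Finset.range m, (q ^ 2) ^ m - (q ^ 2) ^ j = q ^ (2 * j) * ((q ^ 2) ^ (m - j) - 1) := by
    intro j hj
    have := Finset.mem_range.1 hj
    rw [Nat.mul_sub, mul_one, ← pow_mul, ← pow_mul, ← pow_mul, ← pow_add,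
      show 2 * j + 2 * (m - j) = 2 * m by omega]
  rw [Finset.prod_congr rfl h2, Finset.prod_mul_distrib, Finset.prod_mul_distrib, mul_left_comm] at h
  exact (Nat.eq_of_mul_eq_mul_left
    (Finset.prod_pos fun j _ => pow_pos (by have := two_le_of_card hF; omega) _) h).symm

theorem not_char_dvd_iso {p : ℕ} [Fact p.Prime] [CharP F p] (hF : Fintype.card F = q ^ 2) {m : ℕ} (hm : 2 * m ≤ n) :
    ¬ p ∣ Nat.card {W : Submodule F (Fin n → F) // finrank F ↥W = m ∧ (∀ u ∈ W, ∀ v ∈ W, hermForm n F q u v = 0)} := by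
  intro hdvd
  have h := dvd_mul_of_dvd_left hdvd (∏ j ∈ Finset.range m, ((q ^ 2) ^ (m - j) - 1))
  rw [card_iso_eq hF hm, (Fact.out : p.Prime).prime.dvd_finset_prod_iff] at h
  obtain ⟨j, hj, hdj⟩ := h
  have hj' := Finset.mem_range.1 hj
  obtain ⟨e, he⟩ : ∃ e, n - 2 * j = e + 2 := ⟨n - 2 * j - 2, by omega⟩
  rw [he] at hdj
  have h1 : ((levelCount (e + 1 + 1) F q 0 - 1 : ℕ) : ZMod p) = 0 := (ZMod.natCast_eq_zero_iff _ _).2 hdj
  have h2 := congrArg (Int.cast (R := ZMod p)) (levelCount_zero_sub_one hF (e + 1))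
  obtain ⟨k, hk, hq⟩ := exists_exponent_pow (p := p) hF
  have hq0 : (q : ZMod p) = 0 := by rw [hq, Nat.cast_pow, ZMod.natCast_self, zero_pow hk.ne']
  push_cast at h2
  rw [h1, hq0, zero_pow (Nat.succ_ne_zero _), zero_pow (Nat.succ_ne_zero _)] at h2
  rw [pow_succ _ (e + 1)] at h2
  have h3 : ((-1 : ZMod p) ^ (e + 1)) ^ 2 = 1 := by rw [← pow_mul, mul_comm, pow_mul, neg_one_sq, one_pow]
  exact one_ne_zero (show (1 : ZMod p) = 0 by rw [← h3]; linear_combination h2)

variable {r : ℕ} [hr : Fact r.Prime]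

theorem neg_pow_eq_one_of_eq {e : ℕ} (h : ((q : ZMod r)) ^ e = (-1) ^ e) : (-(q : ZMod r)) ^ e = 1 := by
  rw [neg_pow, h, ← mul_pow, neg_one_mul, neg_neg, one_pow]

theorem exists_dvd_iso (hF : Fintype.card F = q ^ 2) {m : ℕ} (hm : 2 * m ≤ n)
    (h : r ∣ Nat.card {W : Submodule F (Fin n → F) // finrank F ↥W = m ∧ (∀ u ∈ W, ∀ v ∈ W, hermForm n F q u v = 0)}) :
    ∃ j, n < j + 2 * m ∧ j ≤ n ∧ (-(q : ZMod r)) ^ j = 1 := by
  have h' := dvd_mul_of_dvd_left h (∏ j ∈ Finset.range m, ((q ^ 2) ^ (m - j) - 1))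
  rw [card_iso_eq hF hm, hr.out.prime.dvd_finset_prod_iff] at h'
  obtain ⟨j, hj, hdj⟩ := h'
  have hj' := Finset.mem_range.1 hj
  obtain ⟨e, he⟩ : ∃ e, n - 2 * j = e + 1 := ⟨n - 2 * j - 1, by omega⟩
  rw [he] at hdj
  have h1 : ((levelCount (e + 1) F q 0 - 1 : ℕ) : ZMod r) = 0 := (ZMod.natCast_eq_zero_iff _ _).2 hdj
  have h2 := congrArg (Int.cast (R := ZMod r)) (levelCount_zero_sub_one hF e)
  push_cast at h2
  rw [h1, eq_comm, mul_eq_zero, sub_eq_zero, sub_eq_zero] at h2
  rcases h2 with h3 | h3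
  · exact ⟨e + 1, by omega, by omega, neg_pow_eq_one_of_eq h3⟩
  · exact ⟨e, by omega, by omega, neg_pow_eq_one_of_eq h3⟩

theorem exists_dvd_nonDeg (hF : Fintype.card F = q ^ 2) (hrq : (q : ZMod r) ≠ 0) {m : ℕ} (hm : m ≤ n)
    (h : r ∣ Nat.card {W : Submodule F (Fin n → F) //
      finrank F ↥W = m ∧ (∀ u ∈ W, u ≠ 0 → ∃ v ∈ W, hermForm n F q u v ≠ 0)}) :
    ∃ j, n < j + m ∧ j ≤ n ∧ (-(q : ZMod r)) ^ j = 1 := by
  classical
  let Ω := {W : Submodule F (Fin n → F) // finrank F ↥W = m ∧ (∀ u ∈ W, u ≠ 0 → ∃ v ∈ W, hermForm n F q u v ≠ 0)}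
  have hnd : ∀ W : Ω, NonDeg (hermB hF n) W.1 := fun W u hu huo => by
    by_contra hu0
    obtain ⟨v, hv, hne⟩ := W.2.2 u hu hu0
    exact hne (by rw [← qPow_hermForm hF, show hermForm n F q v u = 0 from huo v hv, map_zero])
  choose E hE using fun W : Ω => exists_isometry hF W.1 (hnd W) W.2.1
  haveI : Finite (Submodule F (Fin n → F)) :=
    Finite.of_injective (fun W : Submodule F (Fin n → F) => (W : Set (Fin n → F))) SetLike.coe_injective
  let φ : (Σ _W : Ω, Frame hF m (1 : F) m) → Frame hF n (1 : F) m := fun p =>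
    ⟨fun i => (E p.1 (p.2.1 i) : Fin n → F), by
      have h1 := p.2.2.1.map' ((Submodule.subtype p.1.1).comp (E p.1).toLinearMap)
        (LinearMap.ker_eq_bot.2 ((Submodule.injective_subtype _).comp (E p.1).injective))
      exact h1, fun i j => by rw [hE, p.2.2.2]⟩
  have hspan : ∀ p, Submodule.span F (Set.range (φ p).1) = p.1.1 := fun p => by
    refine Submodule.eq_of_le_of_finrank_eq ?_ (by rw [finrank_span_eq_card (φ p).2.1, Fintype.card_fin, p.1.2.1])
    rw [Submodule.span_le]; rintro _ ⟨i, rfl⟩; exact (E p.1 (p.2.1 i)).2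
  have hφ : Function.Bijective φ := by
    refine ⟨fun p p' hpp => ?_, fun t => ?_⟩
    · obtain ⟨W, s⟩ := p
      obtain ⟨W', s'⟩ := p'
      obtain rfl : W = W' := Subtype.ext (by rw [← hspan ⟨W, s⟩, ← hspan ⟨W', s'⟩, hpp])
      have : s = s' := Subtype.ext (funext fun i =>
        (E W).injective (Subtype.ext (congrFun (congrArg Subtype.val hpp) i)))
      rw [this]
    · have hW := span_frame_nonDeg hF t
      let W : Ω := ⟨Submodule.span F (Set.range t.1), by rw [finrank_span_eq_card t.2.1, Fintype.card_fin],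
        fun u hu hu0 => by
          by_contra hall
          push Not at hall
          exact hu0 (hW u hu fun w hw => by rw [hermB_apply, ← qPow_hermForm hF, hall w hw, map_zero])⟩
      let s : Fin m → (Fin m → F) := fun i => (E W).symm ⟨t.1 i, Submodule.subset_span ⟨i, rfl⟩⟩
      have hs : ∀ i, (E W (s i) : Fin n → F) = t.1 i := fun i => by simp [s]
      refine ⟨⟨W, s, ?_, fun i j => by rw [← hE W, hs, hs, t.2.2]⟩, Subtype.ext (funext hs)⟩
      refine LinearIndependent.of_comp ((Submodule.subtype W.1).comp (E W).toLinearMap) ?_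
      convert t.2.1 using 1
      exact funext hs
  have hcard : Nat.card (Frame hF n (1 : F) m) = Nat.card Ω * Nat.card (Frame hF m (1 : F) m) := by
    rw [← Nat.card_congr (Equiv.ofBijective φ hφ), Nat.card_sigma, Finset.sum_const, Finset.card_univ, smul_eq_mul,
      Nat.card_eq_fintype_card, Nat.card_eq_fintype_card]
  have h' : r ∣ ∏ j ∈ Finset.range m, levelCount (n - j) F q 1 := by
    rw [← card_frame_one hF m hm, hcard]
    exact dvd_mul_of_dvd_left h _
  rw [hr.out.prime.dvd_finset_prod_iff] at h'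
  obtain ⟨j, hj, hdj⟩ := h'
  have hj' := Finset.mem_range.1 hj
  obtain ⟨e, he⟩ : ∃ e, n - j = e + 1 := ⟨n - j - 1, by omega⟩
  rw [he] at hdj
  refine ⟨e + 1, by omega, by omega, neg_pow_eq_one_of_eq ?_⟩
  have h1 : ((levelCount (e + 1) F q 1 : ℕ) : ZMod r) = 0 := (ZMod.natCast_eq_zero_iff _ _).2 hdj
  have h2 := congrArg (Int.cast (R := ZMod r)) (levelCount_one_formula hF (e + 1))
  push_cast at h2
  rw [h1, mul_zero, eq_comm, sub_eq_zero, two_mul, pow_add, neg_pow (q : ZMod r) (e + 1), mul_comm ((-1) ^ (e + 1))] at h2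
  exact mul_left_cancel₀ (pow_ne_zero _ hrq) h2

end CfsgLib.PrimeFix.Herm
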