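import Mathlib
import Cfsg.Agent.Lib.PrimeFix.Semi
import Cfsg.Agent.Lib.PrimeFix.Kinds

/-!
The decomposition of an isometry of prime order into its fixed part and its fixed-point-free part, and the kinds
occurring in the latter.
-/

set_option autoImplicit false

namespace CfsgLib.PrimeFix

open Polynomial Module

variable {F : Type*} [Field F] {V : Type*} [AddCommGroup V] [Module F V] {σ : F →+* F}
  {B : V →ₛₗ[σ] V →ₗ[F] F} {T : Module.End F V} {ε : F} {r : ℕ}

/-- The fixed space. -/
abbrev fixSp (T : Module.End F V) : Submodule F V := LinearMap.ker (T - 1)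

/-- The kernel of `1 + T + ⋯ + T ^ (r - 1)`. -/
abbrev fpfSp (r : ℕ) (T : Module.End F V) : Submodule F V := LinearMap.ker (∑ k ∈ Finset.range r, T ^ k)

theorem mem_fixSp {v : V} : v ∈ fixSp T ↔ T v = v := by
  rw [LinearMap.mem_ker, LinearMap.sub_apply, Module.End.one_apply, sub_eq_zero]

theorem inv_fixSp : Inv T (fixSp T) := fun v hv => by
  rw [mem_fixSp] at hv ⊢
  rw [hv, hv]

theorem inv_fpfSp : Inv T (fpfSp r T) := by
  have h : (∑ k ∈ Finset.range r, T ^ k) = aeval T (∑ k ∈ Finset.range r, (X : F[X]) ^ k) := by simp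
  rw [fpfSp, h]
  exact inv_ker_aeval _

theorem pow_apply_of_fix {v : V} (hv : T v = v) (k : ℕ) : (T ^ k) v = v := by
  induction k with
  | zero => rfl
  | succ k ih => rw [pow_succ, Module.End.mul_apply, hv, ih]

theorem fpf_fpfSp (hrF : (r : F) ≠ 0) : Fpf T (fpfSp r T) := fun v hv h => by
  have h0 : (∑ k ∈ Finset.range r, T ^ k) v = 0 := hv
  rw [LinearMap.sum_apply, Finset.sum_congr rfl (fun k _ => pow_apply_of_fix h k), Finset.sum_const,
    Finset.card_range, ← Nat.cast_smul_eq_nsmul F, smul_eq_zero] at h0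
  exact h0.resolve_left hrF

theorem fix_inf_fpf (hrF : (r : F) ≠ 0) : fixSp T ⊓ fpfSp r T = ⊥ :=
  (Submodule.eq_bot_iff _).2 fun v hv => fpf_fpfSp hrF v hv.2 (mem_fixSp.1 hv.1)

section Prime

variable [hr : Fact r.Prime] (hrF : (r : F) ≠ 0) (hT : T ^ r = 1)

include hrF hT

/-- An invariant subspace is the sum of its fixed and fixed-point-free parts. -/
theorem inf_fix_sup_inf_fpf {W : Submodule F V} (hW : Inv T W) : W ⊓ fixSp T ⊔ W ⊓ fpfSp r T = W := by
  refine le_antisymm (sup_le inf_le_left inf_le_left) fun w hw => ?_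
  obtain ⟨c, hc, hc1, d, hd, hd1, rfl⟩ := exists_split hrF hT hW hw
  exact Submodule.add_mem_sup ⟨hc, mem_fixSp.2 hc1⟩ ⟨hd, hd1⟩

theorem finrank_split [FiniteDimensional F V] {W : Submodule F V} (hW : Inv T W) :
    finrank F ↥(W ⊓ fixSp T) + finrank F ↥(W ⊓ fpfSp r T) = finrank F W := by
  have h := Submodule.finrank_sup_add_finrank_inf_eq (W ⊓ fixSp T) (W ⊓ fpfSp r T)
  rw [inf_fix_sup_inf_fpf hrF hT hW,
    eq_bot_iff.2 ((inf_le_inf inf_le_right inf_le_right).trans (fix_inf_fpf hrF).le), finrank_bot, add_zero] at h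
  exact h.symm

theorem finrank_fix_add_fpf [FiniteDimensional F V] :
    finrank F (fixSp T) + finrank F (fpfSp r T) = finrank F V := by
  have h := finrank_split hrF hT (W := (⊤ : Submodule F V)) fun _ _ => trivial
  rwa [top_inf_eq, top_inf_eq, finrank_top] at h

omit hT in
theorem fix_orth_fpf (hB : ∀ u w, B (T u) (T w) = B u w) {u w : V} (hu : u ∈ fixSp T) (hw : w ∈ fpfSp r T) :
    B u w = 0 := by
  have hTk : ∀ k : ℕ, B u ((T ^ k) w) = B u w := fun k => by
    induction k with
    | zero => rfl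
    | succ k ih =>
      rw [pow_succ', Module.End.mul_apply]
      conv_lhs => rw [← mem_fixSp.1 hu]
      rw [hB, ih]
  have h0 : B u ((∑ k ∈ Finset.range r, T ^ k) w) = 0 := by
    rw [show (∑ k ∈ Finset.range r, T ^ k) w = 0 from hw, map_zero]
  rw [LinearMap.sum_apply, map_sum, Finset.sum_congr rfl (fun k _ => hTk k), Finset.sum_const, Finset.card_range,
    ← Nat.cast_smul_eq_nsmul F, smul_eq_mul, mul_eq_zero] at h0
  exact h0.resolve_left hrF

/-- The parts of an invariant nondegenerate subspace are nondegenerate. -/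
theorem nonDeg_parts (hB : ∀ u w, B (T u) (T w) = B u w) (hsymm : ∀ u w, B w u = ε * σ (B u w))
    {W : Submodule F V} (hW : Inv T W) (hWnd : NonDeg B W) :
    NonDeg B (W ⊓ fixSp T) ∧ NonDeg B (W ⊓ fpfSp r T) := by
  constructor
  · intro u hu huo
    refine hWnd u hu.1 fun w hw => ?_
    rw [← inf_fix_sup_inf_fpf hrF hT hW] at hw
    obtain ⟨a, ha, b, hb, rfl⟩ := Submodule.mem_sup.1 hw
    rw [map_add, huo a ha, fix_orth_fpf hrF hB hu.2 hb.2, add_zero]
  · intro u hu huo
    refine hWnd u hu.1 fun w hw => ?_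
    rw [← inf_fix_sup_inf_fpf hrF hT hW] at hw
    obtain ⟨a, ha, b, hb, rfl⟩ := Submodule.mem_sup.1 hw
    rw [map_add, huo b hb, eq_zero_symm hsymm (fix_orth_fpf hrF hB ha.2 hu.2), add_zero]

end Prime

/-- The only kind of a fixed subspace. -/
theorem kinds_one {W : Submodule F V} (hW : ∀ w ∈ W, T w = w) : Kinds T W 1 {X - C 1} where
  monic g hg := by rw [Finset.mem_singleton] at hg; subst hg; exact monic_X_sub_C _
  irr g hg := by rw [Finset.mem_singleton] at hg; subst hg; exact irreducible_X_sub_C _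
  deg g hg := by rw [Finset.mem_singleton] at hg; subst hg; exact natDegree_X_sub_C _
  kills w hw := by simp [hW w hw]

/-- The kinds of a fixed-point-free subspace. -/
theorem exists_kinds_cyclotomic [Fintype F] [hr : Fact r.Prime] (hrF : (r : F) ≠ 0) (hT : T ^ r = 1)
    {W : Submodule F V} (hW : Inv T W) (hfree : Fpf T W) :
    ∃ G : Finset F[X], Kinds T W (orderOf (Fintype.card F : ZMod r)) G ∧
      G.card = (r - 1) / orderOf (Fintype.card F : ZMod r) := by
  classical
  haveI : NeZero (r : F) := ⟨hrF⟩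
  set s := UniqueFactorizationMonoid.normalizedFactors (cyclotomic r F)
  have hnd : s.Nodup := (UniqueFactorizationMonoid.squarefree_iff_nodup_normalizedFactors (cyclotomic_ne_zero r F)).1
    (Polynomial.squarefree_cyclotomic r F)
  have hirr : ∀ f ∈ s, Irreducible f := fun f hf => UniqueFactorizationMonoid.irreducible_of_normalized_factor f hf
  have hmon : ∀ f ∈ s, f.Monic := fun f hf => by
    have := UniqueFactorizationMonoid.normalize_normalized_factor f hf
    exact this ▸ monic_normalize (hirr f hf).ne_zero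
  have hdeg : ∀ f ∈ s, f.natDegree = orderOf (Fintype.card F : ZMod r) := fun f hf =>
    natDegree_factor hrF (hirr f hf) (UniqueFactorizationMonoid.dvd_of_mem_normalizedFactors hf)
  have hprod : s.prod = cyclotomic r F := by
    have h := UniqueFactorizationMonoid.prod_normalizedFactors_eq (cyclotomic_ne_zero r F)
    rwa [(cyclotomic.monic r F).normalize_eq_self] at h
  have hcard : s.card * orderOf (Fintype.card F : ZMod r) = r - 1 := by
    have h := natDegree_multiset_prod_of_monic s hmon
    rw [hprod, natDegree_cyclotomic, Nat.totient_prime hr.out, Multiset.map_congr rfl hdeg, Multiset.map_const',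
      Multiset.sum_replicate] at h
    exact h.symm
  refine ⟨⟨s, hnd⟩, ⟨fun g hg => hmon g hg, fun g hg => hirr g hg, fun g hg => hdeg g hg, fun w hw => ?_⟩, ?_⟩
  · have hp : (∏ g ∈ (⟨s, hnd⟩ : Finset F[X]), g) = cyclotomic r F := by
      rw [Finset.prod_eq_multiset_prod, Multiset.map_id', hprod]
    rw [hp]
    exact aeval_cyclotomic_apply hT hW hfree hw
  · rw [Finset.card_mk, ← hcard, Nat.mul_div_cancel _ (ord_pos hrF)]

end CfsgLib.PrimeFix
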