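import Mathlib
import Cfsg.Prelude
import Cfsg.Agent.Lib.PrimeFix.Herm
import Cfsg.Agent.Lib.PrimeFix.SplitFix

/-!
Isometries of prime order of the standard Hermitian space: orders, determinants, units and isotropic atoms.
-/

set_option autoImplicit false

namespace CfsgLib.PrimeFix.Herm

open Module Polynomial Cfsg CfsgLib.Classical.Herm

section Order

variable {r : ℕ} [hr : Fact r.Prime]

/-- `c = ord (-x)` expressed through `i = ord x`. -/
theorem orderOf_neg_eq (hr2 : r ≠ 2) {x : ZMod r} (hx : x ≠ 0) :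
    orderOf (-x) = (if orderOf x % 4 = 0 then orderOf x else if orderOf x % 4 = 2 then orderOf x / 2 else 2 * orderOf x) ∧
    orderOf (x ^ 2) = (if Even (orderOf x) then orderOf x / 2 else orderOf x) := by
  have h20 : (2 : ZMod r) ≠ 0 := fun h => by
    have h' : ((2 : ℕ) : ZMod r) = 0 := h
    rw [ZMod.natCast_eq_zero_iff] at h'
    exact hr2 ((Nat.prime_dvd_prime_iff_eq hr.out Nat.prime_two).1 h')
  have hfin : ∀ y : ZMod r, y ≠ 0 → 0 < orderOf y := fun y hy =>
    orderOf_pos_iff.2 (isOfFinOrder_iff_pow_eq_one.2 ⟨r - 1, by have := hr.out.two_le; omega,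
      ZMod.pow_card_sub_one_eq_one hy⟩)
  have hneg1 : orderOf (-1 : ZMod r) = 2 := orderOf_eq_prime (by ring) fun h => h20 (by linear_combination -h)
  set i := orderOf x with hi
  have hipos : 0 < i := hfin x hx
  have hsq : orderOf (x ^ 2) = if Even i then i / 2 else i := by
    rw [orderOf_pow' x two_ne_zero, ← hi]
    split_ifs with he
    · rw [Nat.gcd_eq_right he.two_dvd]
    · rw [Nat.coprime_two_right.2 (Nat.not_even_iff_odd.1 he), Nat.div_one]
  refine ⟨?_, hsq⟩
  rcases Nat.even_or_odd i with he | ho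
  · obtain ⟨h, hh⟩ := he
    have hxh : x ^ h = -1 := by
      have h1 : x ^ h * x ^ h = 1 := by rw [← pow_add, ← hh, hi, pow_orderOf_eq_one]
      refine (mul_self_eq_one_iff.1 h1).resolve_left fun h2 => ?_
      have := Nat.le_of_dvd (by omega) (orderOf_dvd_of_pow_eq_one h2)
      omega
    have hdvd : h ∣ orderOf (-x) := by
      have h1 : orderOf (x ^ 2) ∣ orderOf (-x) := by
        rw [← neg_sq x]; exact orderOf_pow_dvd 2
      rwa [hsq, if_pos ⟨h, hh⟩, show i / 2 = h by omega] at h1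
    rcases Nat.even_or_odd h with heh | hoh
    · rw [if_pos (by obtain ⟨t, ht⟩ := heh; omega)]
      have h1 : orderOf (-x) ∣ 2 * h := orderOf_dvd_of_pow_eq_one (by
        rw [pow_mul, neg_sq, ← pow_mul, show 2 * h = i by omega, hi, pow_orderOf_eq_one])
      obtain ⟨u, hu⟩ := hdvd
      rw [hu, mul_comm 2 h] at h1
      have hu2 := (Nat.dvd_prime Nat.prime_two).1 (Nat.dvd_of_mul_dvd_mul_left (by omega) h1)
      rcases hu2 with rfl | rfl
      · exfalso
        have h3 := pow_orderOf_eq_one (-x)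
        rw [hu, mul_one, heh.neg_pow, hxh] at h3
        exact h20 (by linear_combination -h3)
      · rw [hu]; omega
    · rw [if_neg (by obtain ⟨t, ht⟩ := hoh; omega), if_pos (by obtain ⟨t, ht⟩ := hoh; omega)]
      refine Nat.dvd_antisymm (orderOf_dvd_of_pow_eq_one ?_) (by rwa [show i / 2 = h by omega])
      rw [show i / 2 = h by omega, hoh.neg_pow, hxh, neg_neg]
  · rw [if_neg (by obtain ⟨t, ht⟩ := ho; omega), if_neg (by obtain ⟨t, ht⟩ := ho; omega),
      ← neg_one_mul x, (Commute.all _ _).orderOf_mul_eq_mul_orderOf_of_coprime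
        (by rw [hneg1]; exact Nat.coprime_two_left.2 ho), hneg1]

variable {q : ℕ}

/-- The two cases for `c = ord (-q)` and `b = ord (q ^ 2)`. -/
theorem ord_facts (hr2 : r ≠ 2) (hq : (q : ZMod r) ≠ 0) :
    (Odd (orderOf (-(q : ZMod r))) → orderOf ((q : ZMod r) ^ 2) = orderOf (-(q : ZMod r)) ∧
      (q : ZMod r) ^ orderOf (-(q : ZMod r)) = -1) ∧
    (Even (orderOf (-(q : ZMod r))) → orderOf (-(q : ZMod r)) = 2 * orderOf ((q : ZMod r) ^ 2) ∧
      (q : ZMod r) ^ orderOf (-(q : ZMod r)) = 1 ∧ ∀ l : ℕ, (q : ZMod r) * ((q : ZMod r) ^ 2) ^ l + 1 ≠ 0) := by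
  set c := orderOf (-(q : ZMod r))
  have h1 : (-(q : ZMod r)) ^ c = 1 := pow_orderOf_eq_one _
  have hsq : orderOf ((q : ZMod r) ^ 2) = c / Nat.gcd c 2 := by
    rw [← neg_sq (q : ZMod r), orderOf_pow' _ two_ne_zero]
  refine ⟨fun ho => ⟨?_, ?_⟩, fun he => ⟨?_, ?_, fun l hl => ?_⟩⟩
  · rw [hsq, Nat.coprime_two_right.2 ho, Nat.div_one]
  · rw [ho.neg_pow] at h1
    rw [← neg_neg ((q : ZMod r) ^ c), h1]
  · rw [hsq, Nat.gcd_eq_right he.two_dvd]
    obtain ⟨h, hh⟩ := he
    omega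
  · rwa [he.neg_pow] at h1
  · have h2 : (-(q : ZMod r)) ^ (2 * l + 1) = 1 := by
      rw [(odd_two_mul_add_one l).neg_pow, pow_succ, pow_mul]
      linear_combination -hl
    exact Nat.not_even_iff_odd.2 (odd_two_mul_add_one l) (he.trans_dvd (orderOf_dvd_of_pow_eq_one h2))

end Order

variable {F : Type*} [Field F] [Fintype F] {q n : ℕ}

/-! ### Bridges -/

/-- An isometry with a nonzero determinant of norm one. -/
theorem det_pow_succ_eq_one (hF : Fintype.card F = q ^ 2) {T : Module.End F (Fin n → F)}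
    (hT : ∀ u w, hermB hF n (T u) (T w) = hermB hF n u w) : LinearMap.det T ^ (q + 1) = 1 := by
  have hinj : Function.Injective T := by
    rw [← LinearMap.ker_eq_bot, Submodule.eq_bot_iff]
    intro u hu
    refine hermB_nondeg hF u fun w => ?_
    rw [← hT, LinearMap.mem_ker.1 hu]
    simp
  let e := LinearEquiv.ofBijective T ⟨hinj, LinearMap.injective_iff_surjective.1 hinj⟩
  let g : Unit' (stdHerm hF n) := ⟨e, fun x y => by
    show hermForm n F q (T x) (T y) = hermForm n F q x y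
    exact hT y x⟩
  have h := detHom_normOne hF n g
  rw [MonoidHom.mem_ker, powMonoidHom_apply] at h
  have h2 := congrArg Units.val h
  rw [Units.val_pow_eq_pow_val, Units.val_one] at h2
  rwa [show ((detHom (stdHerm hF n) g : Fˣ) : F) = LinearMap.det T from LinearEquiv.coe_det e] at h2

/-- Isometries of determinant one as elements of `SU`. -/
theorem exists_su (hF : Fintype.card F = q ^ 2) {T : Module.End F (Fin n → F)}
    (hT : ∀ u w, hermB hF n (T u) (T w) = hermB hF n u w) (hdet : LinearMap.det T = 1) :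
    ∃ x : Matrix.SpecialLinearGroup (Fin n) F, x ∈ Cfsg.SU n F q ∧
      Matrix.toLin' (x : Matrix (Fin n) (Fin n) F) = T := by
  refine ⟨⟨LinearMap.toMatrix' T, by rw [LinearMap.det_toMatrix', hdet]⟩, fun u v => ?_,
    Matrix.toLin'_toMatrix' T⟩
  show hermForm n F q ((LinearMap.toMatrix' T).mulVec u) ((LinearMap.toMatrix' T).mulVec v) = _
  rw [LinearMap.toMatrix'_mulVec, LinearMap.toMatrix'_mulVec]
  exact hT v u

theorem isometry_of_su (hF : Fintype.card F = q ^ 2) {x : Matrix.SpecialLinearGroup (Fin n) F}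
    (hx : x ∈ Cfsg.SU n F q) (u w : Fin n → F) :
    hermB hF n (Matrix.toLin' (x : Matrix (Fin n) (Fin n) F) u) (Matrix.toLin' (x : Matrix (Fin n) (Fin n) F) w) =
      hermB hF n u w := by
  rw [hermB_apply, hermB_apply, Matrix.toLin'_apply, Matrix.toLin'_apply]
  exact hx w u

theorem isometry_pow (hF : Fintype.card F = q ^ 2) {T : Module.End F (Fin n → F)}
    (hT : ∀ u w, hermB hF n (T u) (T w) = hermB hF n u w) :
    ∀ (k : ℕ) u w, hermB hF n ((T ^ k) u) ((T ^ k) w) = hermB hF n u w := fun k => by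
  induction k with
  | zero => intro u w; rfl
  | succ k ih => intro u w; rw [pow_succ', Module.End.mul_apply, Module.End.mul_apply, hT, ih]

theorem isometry_smul (hF : Fintype.card F = q ^ 2) {T : Module.End F (Fin n → F)}
    (hT : ∀ u w, hermB hF n (T u) (T w) = hermB hF n u w) {a : F} (ha : a ^ (q + 1) = 1) (u w : Fin n → F) :
    hermB hF n ((a • T) u) ((a • T) w) = hermB hF n u w := by
  simp only [LinearMap.smul_apply, map_smulₛₗ, LinearMap.smul_apply, RingHom.id_apply, smul_eq_mul, hT]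
  rw [qPow_apply, ← mul_assoc, ← pow_succ', ha, one_mul]

/-- A scalar power of an isometry has norm one. -/
theorem scalar_norm_one (hF : Fintype.card F = q ^ 2) (hn : 0 < n) {T : Module.End F (Fin n → F)}
    (hT : ∀ u w, hermB hF n (T u) (T w) = hermB hF n u w) {k : ℕ} {z : F} (hz : T ^ k = z • 1) :
    z ^ (q + 1) = 1 := by
  have h := isometry_pow hF hT k (Pi.single ⟨0, hn⟩ 1) (Pi.single ⟨0, hn⟩ 1)
  have hq : q ≠ 0 := by have := two_le_of_card hF; omega
  have h1 : hermB hF n (Pi.single ⟨0, hn⟩ 1) (Pi.single ⟨0, hn⟩ 1) = 1 := by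
    rw [hermB_apply, hermForm, Finset.sum_eq_single (⟨0, hn⟩ : Fin n)
      (fun j _ hj => by simp [hj]) (by simp)]
    simp
  simp only [hz, LinearMap.smul_apply, Module.End.one_apply, map_smulₛₗ, LinearMap.smul_apply, RingHom.id_apply,
    smul_eq_mul, h1, qPow_apply, mul_one] at h
  rw [pow_succ']; exact h

/-! ### Fixed subspaces -/

/-- Nondegenerate and totally isotropic subspaces of all possible dimensions in a nondegenerate subspace. -/
theorem exists_sub (hF : Fintype.card F = q ^ 2) {p : ℕ} [Fact p.Prime] [CharP F p] {W : Submodule F (Fin n → F)}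
    (hW : NonDeg (hermB hF n) W) :
    (∀ j, j ≤ finrank F W → ∃ U, U ≤ W ∧ NonDeg (hermB hF n) U ∧ finrank F U = j) ∧
    (∀ j, 2 * j ≤ finrank F W → ∃ U, U ≤ W ∧ Isotropic (hermB hF n) U ∧ finrank F U = j) := by
  haveI : ExpChar F p := ExpChar.prime Fact.out
  obtain ⟨k, hk, hqk⟩ := exists_exponent_pow (p := p) hF
  have hσ : ∀ c : F, qPow hF c = c ^ (p ^ k) := fun c => by rw [qPow_apply, hqk]
  have hTN : (1 : Module.End F (Fin n → F)) ^ (p ^ k + 1) = 1 := one_pow _
  have hB : ∀ u w, hermB hF n ((1 : Module.End F (Fin n → F)) u) ((1 : Module.End F (Fin n → F)) w) =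
      hermB hF n u w := fun u w => rfl
  have hcard : p ^ k * p ^ k = Fintype.card F ^ 1 := by rw [pow_one, hF, hqk, sq]
  have hG : Kinds (1 : Module.End F (Fin n → F)) W 1 {X - C 1} := kinds_one fun w _ => rfl
  have hWinv : Inv (1 : Module.End F (Fin n → F)) W := fun w hw => hw
  have h1 : ((1 : ℕ) : F) ≠ 0 := by rw [Nat.cast_one]; exact one_ne_zero
  refine ⟨fun j hj => ?_, fun j hj => ?_⟩
  · obtain ⟨U, hU, -, hUnd, hdU⟩ := (hasUnit_paired p k hσ hTN hB (hermB_symm hF) hG hcard one_pos).exists_nonDeg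
      (k := 1) h1 (pow_one _) hB (hermB_symm hF) hWinv hW j (by rwa [mul_one])
    exact ⟨U, hU, hUnd, by rw [hdU, mul_one]⟩
  · obtain ⟨U, hU, -, hUiso, hdU⟩ := (hasIso_paired p k hσ hTN hB (hermB_symm hF) hG hcard).exists_isotropic
      (k := 1) h1 (pow_one _) hB (hermB_symm hF) one_pos hWinv (a := finrank F W) (by rw [mul_one]) j
      (by rw [Finset.card_singleton]; omega)
    exact ⟨U, hU, hUiso, by rw [hdU, mul_one]⟩

/-! ### Fixed-point-free parts -/

section Prime

variable {r : ℕ} [hr : Fact r.Prime] {p : ℕ} [Fact p.Prime] [CharP F p]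

theorem natCast_q_ne_zero (hF : Fintype.card F = q ^ 2) (hrp : r ≠ p) : (q : ZMod r) ≠ 0 := by
  obtain ⟨k, -, hqk⟩ := exists_exponent_pow (p := p) hF
  rw [hqk, Nat.cast_pow]
  refine pow_ne_zero _ fun h => hrp ?_
  exact (Nat.prime_dvd_prime_iff_eq hr.out Fact.out).1 ((ZMod.natCast_eq_zero_iff _ _).1 h)

theorem card_cast (hF : Fintype.card F = q ^ 2) : (Fintype.card F : ZMod r) = (q : ZMod r) ^ 2 := by
  rw [hF, Nat.cast_pow]

variable (hF : Fintype.card F = q ^ 2) (hrp : r ≠ p) (hr2 : r ≠ 2) {T : Module.End F (Fin n → F)}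
  (hT : ∀ u w, hermB hF n (T u) (T w) = hermB hF n u w) (hTr : T ^ r = 1)
  {W : Submodule F (Fin n → F)} (hW : Inv T W) (hfree : Fpf T W)

include hrp hr2 hT hTr hW hfree

theorem fpf_paired_data (hc : Odd (orderOf (-(q : ZMod r)))) :
    ∃ k : ℕ, (∀ x : F, qPow hF x = x ^ (p ^ k)) ∧ T ^ (p ^ k + 1) = 1 ∧
      p ^ k * p ^ k = Fintype.card F ^ orderOf (Fintype.card F : ZMod r) ∧
      ∃ G : Finset F[X], Kinds T W (orderOf (Fintype.card F : ZMod r)) G ∧
        G.card = (r - 1) / orderOf (Fintype.card F : ZMod r) := by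
  have hrF : (r : F) ≠ 0 := CfsgLib.LinFix.natCast_ne_zero_of_ne hrp
  obtain ⟨k, -, hqk⟩ := exists_exponent_pow (p := p) hF
  obtain ⟨hb, hqc⟩ := (ord_facts hr2 (natCast_q_ne_zero hF hrp)).1 hc
  set c := orderOf (-(q : ZMod r))
  refine ⟨k * c, fun x => ?_, ?_, ?_, exists_kinds_cyclotomic hrF hTr hW hfree⟩
  · obtain ⟨t, ht⟩ := hc
    rw [qPow_apply, pow_mul p, ← hqk, ht, pow_succ, pow_mul q, pow_mul x, ← hF, FiniteField.pow_card_pow]
  · refine pow_eq_one_of_cast hTr ?_
    rw [pow_mul, ← hqk, Nat.cast_add, Nat.cast_pow, Nat.cast_one, hqc, neg_add_cancel]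
  · rw [card_cast hF, hb, hF, pow_mul p, ← hqk, ← pow_mul, ← pow_add, two_mul]

theorem fpf_unpaired_iso (hc : Even (orderOf (-(q : ZMod r)))) :
    Atoms T W (orderOf (Fintype.card F : ZMod r)) ∧ ∀ C : Submodule F (Fin n → F), C ≤ W → Inv T C →
      finrank F C = orderOf (Fintype.card F : ZMod r) → Isotropic (hermB hF n) C := by
  have hrF : (r : F) ≠ 0 := CfsgLib.LinFix.natCast_ne_zero_of_ne hrp
  haveI : ExpChar F p := ExpChar.prime Fact.out
  obtain ⟨k, -, hqk⟩ := exists_exponent_pow (p := p) hF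
  obtain ⟨-, -, hno⟩ := (ord_facts hr2 (natCast_q_ne_zero hF hrp)).2 hc
  obtain ⟨G, hG, -⟩ := exists_kinds_cyclotomic hrF hTr hW hfree
  refine ⟨hG.atoms, fun C hCW hC hdC => ?_⟩
  have hC0 : C ≠ ⊥ := fun h => by
    rw [h, finrank_bot] at hdC
    have := ord_pos (F := F) hrF
    omega
  obtain ⟨g, hg, v, hv, hv0, hgv, hdv⟩ := hG.exists_cyc hCW hC hC0
  have hCeq : cyc T v = C := Submodule.eq_of_le_of_finrank_le (cyc_le hC hv) (by rw [hdv, hdC])
  rw [← hCeq]
  exact isotropic_of_unpaired p k (fun x => by rw [qPow_apply, hqk])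
    (by rw [← hqk]; exact natCast_q_ne_zero hF hrp) hTr hT
    (fun l => by rw [← hqk, card_cast hF]; exact hno l) (hG.monic g hg) (hG.irr g hg) hgv
    (fun h => hv0 (hfree v (hCW hv) h))

theorem hasUnit_fpf : HasUnit (hermB hF n) T W (orderOf (-(q : ZMod r))) := by
  have hrF : (r : F) ≠ 0 := CfsgLib.LinFix.natCast_ne_zero_of_ne hrp
  haveI : ExpChar F p := ExpChar.prime Fact.out
  have hof := ord_facts hr2 (natCast_q_ne_zero hF hrp)
  rcases Nat.even_or_odd (orderOf (-(q : ZMod r))) with he | ho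
  · obtain ⟨hA, hiso⟩ := fpf_unpaired_iso hF hrp hr2 hT hTr hW hfree he
    rw [(hof.2 he).1, ← card_cast hF]
    exact hasUnit_two_mul (k := r) hrF hTr hT (hermB_symm hF) (ord_pos hrF) hA hiso
  · obtain ⟨k, hσ, hTN, hcard, G, hG, -⟩ := fpf_paired_data hF hrp hr2 hT hTr hW hfree ho
    rw [← (hof.1 ho).1, ← card_cast hF]
    exact hasUnit_paired p k hσ hTN hT (hermB_symm hF) hG hcard (ord_pos hrF)

theorem hasIso_fpf : HasIso (hermB hF n) T W (orderOf (Fintype.card F : ZMod r))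
    (if Odd (orderOf (-(q : ZMod r))) then (r - 1) / orderOf (Fintype.card F : ZMod r) else 0) := by
  haveI : ExpChar F p := ExpChar.prime Fact.out
  split_ifs with ho
  · obtain ⟨k, hσ, hTN, hcard, G, hG, hGc⟩ := fpf_paired_data hF hrp hr2 hT hTr hW hfree ho
    rw [← hGc]
    exact hasIso_paired p k hσ hTN hT (hermB_symm hF) hG hcard
  · obtain ⟨hA, hiso⟩ := fpf_unpaired_iso hF hrp hr2 hT hTr hW hfree (Nat.not_odd_iff_even.1 ho)
    exact hasIso_zero hA hiso

omit hW hfree in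
/-- A nondegenerate invariant fixed-point-free subspace has dimension divisible by `c`. -/
theorem dvd_finrank_fpf {U : Submodule F (Fin n → F)} (hU : Inv T U) (hUfree : Fpf T U)
    (hUnd : NonDeg (hermB hF n) U) : orderOf (-(q : ZMod r)) ∣ finrank F U := by
  have hrF : (r : F) ≠ 0 := CfsgLib.LinFix.natCast_ne_zero_of_ne hrp
  have hpos : 0 < orderOf (-(q : ZMod r)) := by
    refine orderOf_pos_iff.2 (isOfFinOrder_iff_pow_eq_one.2 ⟨r - 1, by have := hr.out.two_le; omega,
      ZMod.pow_card_sub_one_eq_one (neg_ne_zero.2 (natCast_q_ne_zero hF hrp))⟩)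
  exact (hasUnit_fpf hF hrp hr2 hT hTr hU hUfree).dvd_finrank (k := r) hrF hTr hT (hermB_symm hF) hpos U le_rfl hU hUnd

end Prime

/-! ### A scalar power without a root -/

section NonPower

variable {r : ℕ} [hr : Fact r.Prime] {p : ℕ} [Fact p.Prime] [CharP F p]

/-- `(q + 1) r` divides `q ^ r + 1` when `r` divides `q + 1`, `r` odd. -/
theorem mul_dvd_pow_add_one (hr2 : r ≠ 2) (hq1 : (-(q : ZMod r)) = 1) : (q + 1) * r ∣ q ^ r + 1 := by
  have hodd := hr.out.odd_of_ne_two hr2
  obtain ⟨t, ht⟩ : q + 1 ∣ q ^ r + 1 := by simpa using hodd.nat_add_dvd_pow_add_pow q 1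
  rw [ht]
  refine Nat.mul_dvd_mul_left _ ((ZMod.natCast_eq_zero_iff t r).1 ?_)
  have h1 : (t : ℤ) = ∑ j ∈ Finset.range r, (-(q : ℤ)) ^ j := by
    refine mul_left_cancel₀ (show ((q : ℤ) + 1) ≠ 0 by positivity) ?_
    have h2 := geom_sum_mul (-(q : ℤ)) r
    rw [hodd.neg_pow] at h2
    have h3 : ((q : ℤ) + 1) * t = (q : ℤ) ^ r + 1 := by exact_mod_cast ht.symm
    rw [h3]; linear_combination h2
  have h4 := congrArg (Int.cast (R := ZMod r)) h1
  push_cast at h4
  simp only [hq1, one_pow, Finset.sum_const, Finset.card_range, nsmul_eq_mul, mul_one, ZMod.natCast_self] at h4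
  exact h4

variable (hF : Fintype.card F = q ^ 2) (hr2 : r ≠ 2) (hq1 : (-(q : ZMod r)) = 1)
  {T : Module.End F (Fin n → F)} (hT : ∀ u w, hermB hF n (T u) (T w) = hermB hF n u w) {z : F}
  (hTr : T ^ r = z • 1) (hzq : z ^ (q + 1) = 1) (hz : ∀ w : F, w ^ r ≠ z)

include hr2 hq1 hT hTr hzq hz p

/-- The engine for an element whose `r`-th power is a scalar without an `r`-th root. -/
theorem nonpower_data : HasUnit (hermB hF n) T ⊤ r ∧ HasIso (hermB hF n) T ⊤ r 1 ∧
    ∃ k : ℕ, T ^ k = 1 ∧ (k : F) ≠ 0 := by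
  haveI : ExpChar F p := ExpChar.prime Fact.out
  obtain ⟨k, hk, hqk⟩ := exists_exponent_pow (p := p) hF
  have hodd := hr.out.odd_of_ne_two hr2
  have hσ : ∀ x : F, qPow hF x = x ^ (p ^ (k * r)) := fun x => by
    obtain ⟨t, ht⟩ := hodd
    rw [qPow_apply, pow_mul p, ← hqk, ht, pow_succ, pow_mul q, pow_mul x, ← hF, FiniteField.pow_card_pow]
  have hTN : T ^ (p ^ (k * r) + 1) = 1 := by
    obtain ⟨t, ht⟩ := mul_dvd_pow_add_one (q := q) hr2 hq1
    rw [pow_mul, ← hqk, ht, show (q + 1) * r * t = r * ((q + 1) * t) by ring, pow_mul, hTr, _root_.smul_pow, one_pow,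
      pow_mul, hzq, one_pow, one_smul]
  have hcard : p ^ (k * r) * p ^ (k * r) = Fintype.card F ^ r := by
    rw [hF, pow_mul p, ← hqk, ← pow_mul, ← pow_add, two_mul]
  have hirr := X_pow_sub_C_irreducible_of_prime hr.out hz
  have hG : Kinds T ⊤ r {X ^ r - C z} := by
    refine ⟨fun g hg => ?_, fun g hg => ?_, fun g hg => ?_, fun w _ => ?_⟩
    · rw [Finset.mem_singleton] at hg; subst hg; exact monic_X_pow_sub_C _ hr.out.ne_zero
    · rw [Finset.mem_singleton] at hg; subst hg; exact hirr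
    · rw [Finset.mem_singleton] at hg; subst hg; exact natDegree_X_pow_sub_C
    · simp [hTr]
  refine ⟨hasUnit_paired p _ hσ hTN hT (hermB_symm hF) hG hcard hr.out.pos, ?_, _, hTN, ?_⟩
  · have := hasIso_paired p _ hσ hTN hT (hermB_symm hF) hG hcard
    rwa [Finset.card_singleton] at this
  · rw [Nat.cast_add, Nat.cast_pow, CharP.cast_eq_zero F p, zero_pow (Nat.mul_ne_zero hk.ne' hr.out.ne_zero),
      zero_add, Nat.cast_one]
    exact one_ne_zero

end NonPower

end CfsgLib.PrimeFix.Herm
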