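import Mathlib
import Cfsg.Prelude
import Cfsg.Agent.Lib.PrimeFix.HermOp

/-!
Block isometries of the standard Hermitian space and bounds for their invariant isotropic subspaces.
-/

set_option autoImplicit false

namespace CfsgLib.PrimeFix.Herm

open Module Polynomial Cfsg CfsgLib.Classical.Herm

variable {F : Type*} [Field F] [Fintype F] {q n : ℕ}

/-- The orthogonal sum of forms on `ι` copies of `F ^ h`. -/
def sumB (hF : Fintype.card F = q ^ 2) (ι : Type*) [Fintype ι] (h : ℕ) :
    (ι → Fin h → F) →ₛₗ[qPow hF] (ι → Fin h → F) →ₗ[F] F :=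
  LinearMap.mk₂'ₛₗ (qPow hF) (RingHom.id F) (fun u w => ∑ l, hermB hF h (u l) (w l))
    (fun u u' w => by simp only [Pi.add_apply, map_add, LinearMap.add_apply, Finset.sum_add_distrib])
    (fun c u w => by simp only [Pi.smul_apply, map_smulₛₗ, LinearMap.smul_apply, Finset.smul_sum])
    (fun u w w' => by simp only [Pi.add_apply, map_add, Finset.sum_add_distrib])
    (fun c u w => by simp only [Pi.smul_apply, map_smul, Finset.smul_sum, RingHom.id_apply])

theorem sumB_nondeg (hF : Fintype.card F = q ^ 2) {ι : Type*} [Fintype ι] [DecidableEq ι] {h : ℕ}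
    (u : ι → Fin h → F) (hu : ∀ w, sumB hF ι h u w = 0) : u = 0 := by
  funext l
  refine hermB_nondeg hF _ fun w => ?_
  have h0 := hu (Pi.single l w)
  change ∑ l', hermB hF h (u l') ((Pi.single l w : ι → Fin h → F) l') = 0 at h0
  rwa [Finset.sum_eq_single l (fun l' _ hne => by rw [Pi.single_eq_of_ne hne, map_zero]) (by simp),
    Pi.single_eq_same] at h0

/-- A block diagonal isometry. -/
theorem exists_model (hF : Fintype.card F = q ^ 2) {k₀ a h : ℕ} (hd : k₀ + a * h = n)
    (Y : Fin a → Module.End F (Fin h → F))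
    (hY : ∀ l u w, hermB hF h (Y l u) (Y l w) = hermB hF h u w) :
    ∃ (E : ((Fin k₀ → F) × (Fin a → Fin h → F)) ≃ₗ[F] (Fin n → F)) (T : Module.End F (Fin n → F)),
      (∀ p p', hermB hF n (E p) (E p') = hermB hF k₀ p.1 p'.1 + ∑ l, hermB hF h (p.2 l) (p'.2 l)) ∧
      (∀ p, T (E p) = E (p.1, fun l => Y l (p.2 l))) ∧
      (∀ u w, hermB hF n (T u) (T w) = hermB hF n u w) ∧ LinearMap.det T = ∏ l, LinearMap.det (Y l) := by
  classical
  let e₀ : Fin k₀ ⊕ Fin a × Fin h ≃ Fin n :=
    ((Equiv.refl _).sumCongr finProdFinEquiv).trans (finSumFinEquiv.trans (finCongr hd))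
  let E : ((Fin k₀ → F) × (Fin a → Fin h → F)) ≃ₗ[F] (Fin n → F) :=
    { toFun := fun p x => Sum.elim p.1 (fun x => p.2 x.1 x.2) (e₀.symm x)
      map_add' := fun p p' => funext fun x => by
        rcases hx : e₀.symm x with k | k <;> simp [hx]
      map_smul' := fun c p => funext fun x => by
        rcases hx : e₀.symm x with k | k <;> simp [hx]
      invFun := fun v => (fun k => v (e₀ (.inl k)), fun l t => v (e₀ (.inr (l, t))))
      left_inv := fun p => by simp
      right_inv := fun v => funext fun x => by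
        obtain ⟨z, rfl⟩ := e₀.surjective x
        rcases z with k | ⟨l, t⟩ <;> simp }
  have hE : ∀ p p', hermB hF n (E p) (E p') = hermB hF k₀ p.1 p'.1 + ∑ l, hermB hF h (p.2 l) (p'.2 l) := by
    intro p p'
    simp only [hermB_apply, hermForm]
    rw [← e₀.sum_comp, Fintype.sum_sum_type, Fintype.sum_prod_type]
    simp [E]
  let S : Module.End F ((Fin k₀ → F) × (Fin a → Fin h → F)) :=
    LinearMap.prodMap LinearMap.id (LinearMap.pi fun l => (Y l).comp (LinearMap.proj l))
  let T : Module.End F (Fin n → F) := E.toLinearMap.comp (S.comp E.symm.toLinearMap)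
  have hTE : ∀ p, T (E p) = E (p.1, fun l => Y l (p.2 l)) := fun p => by simp [T, S]; rfl
  refine ⟨E, T, hE, hTE, fun u w => ?_, ?_⟩
  · obtain ⟨p, rfl⟩ := E.surjective u
    obtain ⟨p', rfl⟩ := E.surjective w
    rw [hTE, hTE, hE, hE]
    simp only [hY]
  · show LinearMap.det (E.toLinearMap ∘ₗ S ∘ₗ E.symm.toLinearMap) = _
    rw [LinearMap.det_conj, LinearMap.det_prodMap, LinearMap.det_id, one_mul, LinearMap.det_pi]

section Model

variable {k₀ a h : ℕ} {hF : Fintype.card F = q ^ 2} {Y : Fin a → Module.End F (Fin h → F)}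
  {E : ((Fin k₀ → F) × (Fin a → Fin h → F)) ≃ₗ[F] (Fin n → F)} {T : Module.End F (Fin n → F)}
  (hTE : ∀ p, T (E p) = E (p.1, fun l => Y l (p.2 l)))

include hTE

theorem model_pow_apply (k : ℕ) : ∀ p, (T ^ k) (E p) = E (p.1, fun l => (Y l ^ k) (p.2 l)) := by
  induction k with
  | zero => intro p; simp
  | succ k ih => intro p; rw [pow_succ, Module.End.mul_apply, hTE, ih]; simp [pow_succ, Module.End.mul_apply]

theorem model_pow_eq_one {r : ℕ} (hY : ∀ l, Y l ^ r = 1) : T ^ r = 1 := LinearMap.ext fun v => by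
  obtain ⟨p, rfl⟩ := E.surjective v
  rw [model_pow_apply hTE]
  simp [hY]

theorem model_aeval (g : F[X]) : ∀ p, aeval T g (E p) =
    E (aeval (1 : Module.End F (Fin k₀ → F)) g p.1, fun l => aeval (Y l) g (p.2 l)) := by
  intro p
  induction g using Polynomial.induction_on' with
  | add f g hf hg => simp only [map_add, LinearMap.add_apply, hf, hg]; rw [← map_add]; rfl
  | monomial k c =>
    simp only [aeval_monomial, Module.End.mul_apply, Module.algebraMap_end_apply, model_pow_apply hTE, one_pow,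
      Module.End.one_apply]
    rw [← map_smul]; rfl

theorem model_not_scalar (ha : 0 < a) (hY : ∀ l, ∃ u, Y l u ≠ u) (hk : 0 < k₀ ∨ ∀ c : F, ∃ l u, Y l u ≠ c • u)
    (c : F) : ∃ v, T v ≠ c • v := by
  by_contra hc
  push Not at hc
  have h1 : ∀ p : (Fin k₀ → F) × (Fin a → Fin h → F), (p.1 = c • p.1) ∧ ∀ l, Y l (p.2 l) = c • p.2 l := fun p => by
    have h0 := hc (E p)
    rw [hTE, ← map_smul, E.injective.eq_iff] at h0
    exact ⟨congrArg Prod.fst h0, fun l => congrFun (congrArg Prod.snd h0) l⟩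
  rcases hk with hk | hk
  · have h2 := (h1 (Pi.single ⟨0, hk⟩ 1, 0)).1
    have h3 := congrFun h2 ⟨0, hk⟩
    simp at h3
    obtain ⟨u, hu⟩ := hY ⟨0, ha⟩
    refine hu ?_
    have h4 := (h1 (0, fun _ => u)).2 ⟨0, ha⟩
    rwa [← h3, one_smul] at h4
  · obtain ⟨l, u, hu⟩ := hk c
    exact hu ((h1 (0, fun _ => u)).2 l)

variable {r : ℕ} (hrF : (r : F) ≠ 0) (hY : ∀ l, Fpf (Y l) ⊤)

include hY in
theorem model_fix {p : (Fin k₀ → F) × (Fin a → Fin h → F)} (hp : E p ∈ fixSp T) : p.2 = 0 := by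
  have h0 := mem_fixSp.1 hp
  rw [hTE, E.injective.eq_iff] at h0
  funext l
  exact hY l _ trivial (congrFun (congrArg Prod.snd h0) l)

include hrF in
theorem model_fpf {p : (Fin k₀ → F) × (Fin a → Fin h → F)} (hp : E p ∈ fpfSp r T) : p.1 = 0 := by
  have h0 : (∑ k ∈ Finset.range r, T ^ k) (E p) = 0 := hp
  rw [LinearMap.sum_apply, Finset.sum_congr rfl (fun k _ => model_pow_apply hTE k p), ← map_sum, E.map_eq_zero_iff] at h0
  have := congrArg Prod.fst h0
  rw [Prod.fst_sum, Finset.sum_const, Finset.card_range, ← Nat.cast_smul_eq_nsmul F] at this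
  exact (smul_eq_zero.1 this).resolve_left hrF

include hY in
theorem finrank_inf_fix_le (hE : ∀ p p', hermB hF n (E p) (E p') =
      hermB hF k₀ p.1 p'.1 + ∑ l, hermB hF h (p.2 l) (p'.2 l)) (W : Submodule F (Fin n → F)) :
    finrank F ↥(W ⊓ fixSp T) ≤ k₀ ∧ (Isotropic (hermB hF n) W → 2 * finrank F ↥(W ⊓ fixSp T) ≤ k₀) := by
  let π : ↥(W ⊓ fixSp T) →ₗ[F] (Fin k₀ → F) :=
    ((LinearMap.fst F _ _).comp E.symm.toLinearMap).comp (W ⊓ fixSp T).subtype
  have hinj : Function.Injective π := by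
    rw [← LinearMap.ker_eq_bot, Submodule.eq_bot_iff]
    rintro ⟨v, hv⟩ h0
    obtain ⟨p, rfl⟩ := E.surjective v
    have hp1 : p.1 = 0 := by simpa [π] using LinearMap.mem_ker.1 h0
    refine Subtype.ext ?_
    show E p = 0
    rw [show p = (0, 0) from Prod.ext hp1 (model_fix hTE hY hv.2)]
    exact E.map_zero
  have hk : finrank F (Fin k₀ → F) = k₀ := by rw [Module.finrank_fintype_fun_eq_card, Fintype.card_fin]
  refine ⟨by rw [← LinearMap.finrank_range_of_inj hinj]; exact (Submodule.finrank_le _).trans hk.le, fun hiso => ?_⟩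
  have h2 : 2 * finrank F (LinearMap.range π) ≤ finrank F (Fin k₀ → F) := by
    refine two_mul_finrank_le (B := hermB hF k₀) (hermB_nondeg hF) ?_
    rintro x ⟨⟨v, hv⟩, rfl⟩ x' ⟨⟨v', hv'⟩, rfl⟩
    obtain ⟨p, rfl⟩ := E.surjective v
    obtain ⟨p', rfl⟩ := E.surjective v'
    have h0 := hiso _ hv.1 _ hv'.1
    rw [hE, model_fix hTE hY hv.2, model_fix hTE hY hv'.2] at h0
    simpa [π] using h0
  rwa [LinearMap.finrank_range_of_inj hinj, hk] at h2

end Model

section Kinds

variable {k₀ a h : ℕ} {r : ℕ} [hr : Fact r.Prime] {hF : Fintype.card F = q ^ 2}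
  {E : ((Fin k₀ → F) × (Fin a → Fin h → F)) ≃ₗ[F] (Fin n → F)} {T : Module.End F (Fin n → F)}
  {y : Module.End F (Fin h → F)}

/-- Isotropic fixed-point-free invariant subspaces meet each kind in at most half of its blocks. -/
theorem isotropic_fpf_le (hrF : (r : F) ≠ 0) (hi : orderOf (Fintype.card F : ZMod r) = h)
    (hE : ∀ p p', hermB hF n (E p) (E p') = hermB hF k₀ p.1 p'.1 + ∑ l, hermB hF h (p.2 l) (p'.2 l))
    (hyr : y ^ r = 1) (hy1 : y ≠ 1) {ι : Type*} [Fintype ι] [DecidableEq ι] (κ : Fin a → ι) (K : ι → ℕ)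
    (hK0 : ∀ A, (K A : ZMod r) ≠ 0)
    (hK : ∀ A A' (l : ℕ), (K A : ZMod r) = K A' * (Fintype.card F : ZMod r) ^ l → A = A')
    (hTE : ∀ p, T (E p) = E (p.1, fun l => (y ^ K (κ l)) (p.2 l))) (hTr : T ^ r = 1)
    {W : Submodule F (Fin n → F)} (hW : Inv T W) (hWD : W ≤ fpfSp r T) (hiso : Isotropic (hermB hF n) W) :
    ∃ j, finrank F W = j * h ∧ j ≤ ∑ A : ι, Fintype.card {l // κ l = A} / 2 := by
  classical
  have hdim : finrank F (Fin h → F) = orderOf (Fintype.card F : ZMod r) := by
    rw [Module.finrank_fintype_fun_eq_card, Fintype.card_fin, hi]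
  have hfree : Fpf T W := fun v hv => fpf_fpfSp hrF v (hWD hv)
  obtain ⟨j, hj⟩ := ord_dvd_finrank hTr hW hfree
  rw [hi, mul_comm] at hj
  refine ⟨j, hj, ?_⟩
  have hsep : ∀ A : ι, ∃ g : F[X], Function.Injective (aeval (y ^ K A) g) ∧
      ∀ A', A' ≠ A → aeval (y ^ K A') g = 0 := fun A => by
    obtain ⟨g, hg, hg0⟩ := exists_separator hrF hyr hy1 hdim (hK0 A) ((Finset.univ.erase A).image K) (fun b hb => by
      obtain ⟨A', hA', rfl⟩ := Finset.mem_image.1 hb
      exact ⟨hK0 A', fun l hl => (Finset.mem_erase.1 hA').1 (hK A A' l hl).symm⟩)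
    exact ⟨g, hg, fun A' hA' => hg0 _ (Finset.mem_image.2 ⟨A', Finset.mem_erase.2 ⟨hA', Finset.mem_univ _⟩, rfl⟩)⟩
  choose g hg hg0 using hsep
  let WA : ι → Submodule F (Fin n → F) := fun A => W.map (aeval T (g A))
  have hWA : ∀ A, WA A ≤ W := fun A => by rintro _ ⟨w, hw, rfl⟩; exact inv_aeval hW _ hw
  have hsupp : ∀ A p, E p ∈ WA A → p.1 = 0 ∧ ∀ l, κ l ≠ A → p.2 l = 0 := by
    intro A p hp
    refine ⟨model_fpf hTE hrF (hWD (hWA A hp)), fun l hl => ?_⟩
    obtain ⟨w, -, hw⟩ := hp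
    obtain ⟨p', rfl⟩ := E.surjective w
    rw [model_aeval hTE, E.injective.eq_iff] at hw
    have h1 := congrFun (congrArg Prod.snd hw) l
    rw [← h1]
    show aeval (y ^ K (κ l)) (g A) (p'.2 l) = 0
    rw [hg0 A _ hl, LinearMap.zero_apply]
  have hinj : finrank F W ≤ ∑ A, finrank F (WA A) := by
    let φ : W →ₗ[F] (∀ A, WA A) := LinearMap.pi fun A =>
      ((aeval T (g A)).comp W.subtype).codRestrict _ fun w => ⟨w, w.2, rfl⟩
    have hφ : Function.Injective φ := by
      rw [← LinearMap.ker_eq_bot, Submodule.eq_bot_iff]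
      rintro ⟨w, hw⟩ h0
      obtain ⟨p, rfl⟩ := E.surjective w
      refine Subtype.ext ?_
      show E p = 0
      rw [E.map_eq_zero_iff]
      refine Prod.ext (model_fpf hTE hrF (hWD hw)) (funext fun l => hg (κ l) ?_)
      have h1 : aeval T (g (κ l)) (E p) = 0 := congrArg Subtype.val (congrFun (LinearMap.mem_ker.1 h0) (κ l))
      rw [model_aeval hTE, E.map_eq_zero_iff] at h1
      simp only [Prod.snd_zero, Pi.zero_apply, map_zero]
      exact congrFun (congrArg Prod.snd h1) l
    rw [← Module.finrank_pi_fintype F]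
    exact LinearMap.finrank_le_finrank_of_injective hφ
  have hbound : ∀ A, finrank F (WA A) ≤ Fintype.card {l // κ l = A} / 2 * h := fun A => by
    have hinv : Inv T (WA A) := by
      rintro _ ⟨w, hw, rfl⟩
      refine ⟨T w, hW w hw, ?_⟩
      have hc := ((Commute.all (g A) X).map (aeval T)).eq
      rw [aeval_X] at hc
      exact LinearMap.congr_fun hc w
    obtain ⟨jA, hjA⟩ := ord_dvd_finrank hTr hinv (hfree.mono (hWA A))
    rw [hi, mul_comm] at hjA
    let L := {l // κ l = A}
    let π : WA A →ₗ[F] (L → Fin h → F) :=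
      ((LinearMap.pi fun l : L => LinearMap.proj l.1).comp ((LinearMap.snd F _ _).comp E.symm.toLinearMap)).comp
        (WA A).subtype
    have hπ : Function.Injective π := by
      rw [← LinearMap.ker_eq_bot, Submodule.eq_bot_iff]
      rintro ⟨v, hv⟩ h0
      obtain ⟨p, rfl⟩ := E.surjective v
      refine Subtype.ext ?_
      show E p = 0
      rw [E.map_eq_zero_iff]
      refine Prod.ext (hsupp A p hv).1 (funext fun l => ?_)
      by_cases hl : κ l = A
      · have := congrFun (LinearMap.mem_ker.1 h0) ⟨l, hl⟩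
        simpa [π] using this
      · exact (hsupp A p hv).2 l hl
    have h2 : 2 * finrank F (LinearMap.range π) ≤ finrank F (L → Fin h → F) := by
      refine two_mul_finrank_le (B := sumB hF L h) (sumB_nondeg hF) ?_
      rintro x ⟨⟨v, hv⟩, rfl⟩ x' ⟨⟨v', hv'⟩, rfl⟩
      obtain ⟨p, rfl⟩ := E.surjective v
      obtain ⟨p', rfl⟩ := E.surjective v'
      have h0 := hiso _ (hWA A hv) _ (hWA A hv')
      rw [hE, (hsupp A p hv).1, map_zero, LinearMap.zero_apply, zero_add,
        ← Finset.sum_filter_of_ne (p := fun l => κ l = A) (fun l _ hne => by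
          by_contra hl
          rw [(hsupp A p hv).2 l hl, map_zero, LinearMap.zero_apply] at hne
          exact hne rfl)] at h0
      show ∑ l : L, hermB hF h _ _ = 0
      rw [← h0]
      simp [π]
      exact (Finset.sum_subtype (Finset.univ.filter fun l => κ l = A) (fun x => by simp)
        (fun l => hermForm h F q (p'.2 l) (p.2 l))).symm
    rw [LinearMap.finrank_range_of_inj hπ, Module.finrank_pi_fintype,
      Finset.sum_congr rfl (fun l _ => show finrank F (Fin h → F) = h by rw [hdim, hi]), Finset.sum_const,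
      Finset.card_univ, smul_eq_mul, hjA, ← mul_assoc] at h2
    rw [hjA]
    refine Nat.mul_le_mul_right _ ((Nat.le_div_iff_mul_le two_pos).2 ?_)
    have hh : 0 < h := hi ▸ ord_pos hrF
    have := Nat.le_of_mul_le_mul_right h2 hh
    show jA * 2 ≤ Fintype.card L
    omega
  have h3 := hinj.trans (Finset.sum_le_sum fun A _ => hbound A)
  rw [hj, ← Finset.sum_mul] at h3
  exact Nat.le_of_mul_le_mul_right h3 (hi ▸ ord_pos hrF)

end Kinds

section Blocks

variable {r : ℕ} [hr : Fact r.Prime] {p : ℕ} [Fact p.Prime] [CharP F p]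

/-- An isometry of order `r` without fixed vectors in dimension `ord (-q)`. -/
theorem exists_block (hF : Fintype.card F = q ^ 2) (hrp : r ≠ p) (hr2 : r ≠ 2) {c : ℕ}
    (hc : c = orderOf (-(q : ZMod r))) :
    ∃ y : Module.End F (Fin c → F), (∀ u w, hermB hF c (y u) (y w) = hermB hF c u w) ∧ y ^ r = 1 ∧
      y ≠ 1 ∧ Fpf y ⊤ := by
  have hrF : (r : F) ≠ 0 := CfsgLib.LinFix.natCast_ne_zero_of_ne hrp
  have hq0 := natCast_q_ne_zero (p := p) hF hrp
  have hof := ord_facts hr2 hq0
  have hcpos : 0 < c := hc ▸ orderOf_pos_iff.2 (isOfFinOrder_iff_pow_eq_one.2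
    ⟨r - 1, by have := hr.out.two_le; omega, ZMod.pow_card_sub_one_eq_one (neg_ne_zero.2 hq0)⟩)
  obtain ⟨c', hc'⟩ : ∃ c', c = c' + 1 := ⟨c - 1, by omega⟩
  have hq2 := two_le_of_card hF
  have hcard := card_unit hF c
  haveI : Finite (Unit' (stdHerm hF c)) := Nat.finite_of_card_ne_zero (by
    rw [hcard]
    refine Nat.mul_ne_zero (pow_ne_zero _ (by omega)) (Finset.prod_ne_zero_iff.2 fun i _ => ?_)
    have h1 : 2 ≤ q ^ (i + 1) := le_trans hq2 (Nat.le_self_pow (Nat.succ_ne_zero i) q)
    split_ifs <;> omega)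
  obtain ⟨g, hg⟩ := exists_prime_orderOf_dvd_card' (G := Unit' (stdHerm hF c)) r (by
    rw [hcard]
    refine dvd_mul_of_dvd_right (dvd_trans ?_ (Finset.dvd_prod_of_mem _ (Finset.mem_range.2 (show c' < c by omega)))) _
    split_ifs with he
    · rw [← ZMod.natCast_eq_zero_iff, Nat.cast_add, Nat.cast_pow, Nat.cast_one, ← hc', hc,
        (hof.1 (by rw [← hc, hc']; exact he.add_one)).2, neg_add_cancel]
    · rw [← ZMod.natCast_eq_zero_iff, Nat.cast_sub (Nat.one_le_pow _ _ (by omega)), Nat.cast_pow, Nat.cast_one,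
        ← hc', hc, (hof.2 (by rw [← hc, hc']; exact (Nat.not_even_iff_odd.1 he).add_one)).2.1, sub_self])
  let y : Module.End F (Fin c → F) := g.1.toLinearMap
  have hy : ∀ u w, hermB hF c (y u) (y w) = hermB hF c u w := fun u w => g.2 w u
  have hypow : ∀ (k : ℕ) v, (y ^ k) v = (g ^ k).1 v := fun k => by
    induction k with
    | zero => intro v; rfl
    | succ k ih => intro v; rw [pow_succ, Module.End.mul_apply, ih, pow_succ]; rfl
  have hyr : y ^ r = 1 := LinearMap.ext fun v => by rw [hypow, ← hg, pow_orderOf_eq_one]; rfl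
  have hy1 : y ≠ 1 := fun h1 => hr.out.ne_one (by
    rw [← hg, orderOf_eq_one_iff]
    exact unit_ext fun v => LinearMap.congr_fun h1 v)
  refine ⟨y, hy, hyr, hy1, fun v _ hv => ?_⟩
  obtain ⟨hC, hD⟩ := nonDeg_parts hrF hyr hy (hermB_symm hF) (W := ⊤) (fun _ _ => trivial) (nonDeg_top hF)
  rw [top_inf_eq] at hC hD
  obtain ⟨s, hs⟩ := dvd_finrank_fpf hF hrp hr2 hy hyr inv_fpfSp (fpf_fpfSp hrF) hD
  have hsum := finrank_fix_add_fpf hrF hyr
  rw [Module.finrank_fintype_fun_eq_card, Fintype.card_fin, hs, ← hc] at hsum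
  rcases Nat.eq_zero_or_pos s with rfl | hs0
  · exfalso
    rw [mul_zero, add_zero] at hsum
    refine hy1 (LinearMap.ext fun w => mem_fixSp.1 ?_)
    rw [Submodule.eq_top_of_finrank_eq (S := fixSp y) (by
      rw [hsum, Module.finrank_fintype_fun_eq_card, Fintype.card_fin])]
    trivial
  · have h0 : finrank F (fixSp y) = 0 := by
      have : c ≤ c * s := Nat.le_mul_of_pos_right _ hs0
      omega
    exact (Submodule.eq_bot_iff _).1 (Submodule.finrank_eq_zero.1 h0) v (mem_fixSp.2 hv)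

omit [Fact p.Prime] [CharP F p] in
open Fin.NatCast in
/-- An isometry of `F ^ r` whose `r`-th power is the scalar `z` of norm one. -/
theorem exists_cycle_block (hF : Fintype.card F = q ^ 2) {z : F} (hz : z ^ (q + 1) = 1) :
    ∃ y : Module.End F (Fin r → F), (∀ u w, hermB hF r (y u) (y w) = hermB hF r u w) ∧ y ^ r = z • 1 := by
  haveI : NeZero r := ⟨hr.out.ne_zero⟩
  let s : Fin r → F := fun j => if j = 0 then z else 1
  let y : Module.End F (Fin r → F) :=
    { toFun := fun v j => s j * v (j - 1)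
      map_add' := fun u v => funext fun j => by simp [mul_add]
      map_smul' := fun c v => funext fun j => by simp [mul_left_comm] }
  have hy : ∀ u w, hermB hF r (y u) (y w) = hermB hF r u w := fun u w => by
    simp only [hermB_apply, hermForm]
    conv_rhs => rw [← (Equiv.subRight (1 : Fin r)).sum_comp]
    refine Finset.sum_congr rfl fun j _ => ?_
    show s j * w (j - 1) * (s j * u (j - 1)) ^ q = w (j - 1) * u (j - 1) ^ q
    have hs : s j * s j ^ q = 1 := by
      simp only [s]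
      split_ifs
      · rw [← pow_succ']; exact hz
      · simp
    rw [mul_pow]
    linear_combination (w (j - 1) * u (j - 1) ^ q) * hs
  have hk : ∀ (k : ℕ), k ≤ r → ∀ v j, (y ^ k) v j = (if (j : ℕ) < k then z else 1) * v (j - (k : Fin r)) := by
    intro k
    induction k with
    | zero => intro _ v j; simp
    | succ k ih =>
      intro hk v j
      rw [pow_succ', Module.End.mul_apply]
      show s j * (y ^ k) v (j - 1) = _
      rw [ih (by omega), Nat.cast_succ, sub_sub, add_comm (1 : Fin r) (k : Fin r), ← mul_assoc]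
      congr 1
      simp only [s]
      rcases eq_or_ne j 0 with rfl | hj
      · have h1 : ((0 - 1 : Fin r) : ℕ) = r - 1 := by
          rw [zero_sub, Fin.val_neg']
          have h1' : ((1 : Fin r) : ℕ) = 1 := by rw [Fin.val_one', Nat.mod_eq_of_lt hr.out.one_lt]
          rw [h1', Nat.mod_eq_of_lt (by omega)]
        rw [if_pos rfl, if_neg (by rw [h1]; omega), mul_one, if_pos (by simp)]
      · have h1 : ((j - 1 : Fin r) : ℕ) = (j : ℕ) - 1 := by
          rw [Fin.val_sub_one_of_ne_zero hj]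
        have h2 : 0 < (j : ℕ) := Nat.pos_of_ne_zero fun h => hj (Fin.ext (by simpa using h))
        rw [if_neg hj, one_mul, h1]
        by_cases h3 : (j : ℕ) < k + 1
        · rw [if_pos (by omega), if_pos h3]
        · rw [if_neg (by omega), if_neg h3]
  refine ⟨y, hy, LinearMap.ext fun v => funext fun j => ?_⟩
  rw [hk r le_rfl v j, if_pos j.2, Fin.natCast_self, sub_zero]
  rfl

end Blocks

end CfsgLib.PrimeFix.Herm
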