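import Mathlib
import Cfsg.Prelude
import Cfsg.Agent.Lib.PrimeFix.HermModel
import Cfsg.Agent.Lib.LinFix.Field

/-!
Scalars of norm one without roots, determinants, and witnesses for unitary isometries of prime order.
-/

set_option autoImplicit false

namespace CfsgLib.PrimeFix.Herm

open Module Polynomial Cfsg CfsgLib.Classical.Herm

variable {F : Type*} [Field F] [Fintype F] {q n : ℕ} {r : ℕ} [hr : Fact r.Prime]

omit [Fintype F] in
/-- Roots of norm one. -/
theorem exists_root_norm_one (hrq : ¬ r ∣ q + 1) {z : F} (hz : z ^ (q + 1) = 1) :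
    ∃ w : F, w ^ (q + 1) = 1 ∧ w ^ r = z := by
  obtain ⟨t, ht⟩ := exists_pow_eq_self_of_coprime
    (Nat.Coprime.coprime_dvd_right (orderOf_dvd_of_pow_eq_one hz) (hr.out.coprime_iff_not_dvd.2 hrq))
  exact ⟨z ^ t, by rw [← pow_mul, mul_comm, pow_mul, hz, one_pow], by rw [← pow_mul, mul_comm, pow_mul, ht]⟩

theorem not_dvd_pred (hF : Fintype.card F = q ^ 2) (hr2 : r ≠ 2) (hrq : r ∣ q + 1) : ¬ r ∣ q - 1 := fun h => by
  have h1 := Nat.dvd_sub hrq h
  rw [show q + 1 - (q - 1) = 2 by have := two_le_of_card hF; omega] at h1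
  exact hr2 ((Nat.prime_dvd_prime_iff_eq hr.out Nat.prime_two).1 h1)

/-- An `r`-th root of a scalar of norm one has norm one. -/
theorem norm_one_of_root (hF : Fintype.card F = q ^ 2) (hr2 : r ≠ 2) (hrq : r ∣ q + 1) {w : F}
    (hw : (w ^ r) ^ (q + 1) = 1) : w ^ (q + 1) = 1 := by
  have hw0 : w ≠ 0 := fun h => by simp [h, hr.out.ne_zero] at hw
  have h1 : (w ^ (q + 1)) ^ r = 1 := by rw [← pow_mul, mul_comm, pow_mul, hw]
  have h2 : (w ^ (q + 1)) ^ (q - 1) = 1 := by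
    rw [← pow_mul, ← Nat.sq_sub_sq, one_pow, ← hF, FiniteField.pow_card_sub_one_eq_one w hw0]
  have h3 := pow_gcd_eq_one.2 ⟨h1, h2⟩
  rwa [hr.out.coprime_iff_not_dvd.2 (not_dvd_pred hF hr2 hrq), pow_one] at h3

theorem padicValNat_pred (hF : Fintype.card F = q ^ 2) (hr2 : r ≠ 2) (hrq : r ∣ q + 1) :
    padicValNat r (Fintype.card F - 1) = padicValNat r (q + 1) := by
  have hq := two_le_of_card hF
  rw [hF, show q ^ 2 - 1 = (q + 1) * (q - 1) by rw [← Nat.sq_sub_sq, one_pow],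
    padicValNat.mul (by omega) (by omega), padicValNat.eq_zero_of_not_dvd (not_dvd_pred hF hr2 hrq), add_zero]

theorem dvd_card_sub_one (hF : Fintype.card F = q ^ 2) (hrq : r ∣ q + 1) : r ∣ Fintype.card F - 1 := by
  rw [hF, show q ^ 2 - 1 = (q + 1) * (q - 1) by rw [← Nat.sq_sub_sq, one_pow]]
  exact dvd_mul_of_dvd_left hrq _

/-- A scalar of norm one without `r`-th root whose `n / r`-th power is one. -/
theorem exists_nonpower_norm_one (hF : Fintype.card F = q ^ 2) (hr2 : r ≠ 2) (hrq : r ∣ q + 1) (hn0 : n ≠ 0)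
    (h : ¬ padicValNat r n ≤ padicValNat r (q + 1)) :
    r ∣ n ∧ ∃ z : F, (∀ w : F, w ^ r ≠ z) ∧ z ^ (q + 1) = 1 ∧ z ^ (n / r) = 1 := by
  have hodd := hr.out.odd_of_ne_two hr2
  have hrn : r ∣ n := by
    by_contra h1
    rw [padicValNat.eq_zero_of_not_dvd h1] at h
    exact h (Nat.zero_le _)
  obtain ⟨c, hc, hcn⟩ := (LinFix.exists_nonpower_iff (r := r) (F := F) rfl (dvd_card_sub_one hF hrq) hn0 hrn).2
    (fun h1 => h (by rw [← padicValNat_pred hF hr2 hrq]; exact h1.1))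
  rw [(hodd.add_one).neg_one_pow, one_mul] at hcn
  have hc0 : c ≠ 0 := fun h0 => hc 0 (by rw [h0, zero_pow hr.out.ne_zero])
  refine ⟨hrn, c ^ (q - 1), fun w hw => ?_, ?_, ?_⟩
  · obtain ⟨s, -, hs⟩ := Nat.exists_mul_mod_eq_one_of_coprime
      ((hr.out.coprime_iff_not_dvd.2 (not_dvd_pred hF hr2 hrq)).symm) hr.out.one_lt
    set t := (q - 1) * s / r
    have hst : (q - 1) * s = r * t + 1 := by
      have := Nat.div_add_mod ((q - 1) * s) r
      rw [hs] at this
      exact this.symm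
    refine hc (w ^ s / c ^ t) ?_
    rw [div_pow, ← pow_mul, mul_comm s r, pow_mul, hw, ← pow_mul, ← pow_mul, hst, pow_succ, mul_comm t r,
      mul_div_cancel_left₀ _ (pow_ne_zero _ hc0)]
  · rw [← pow_mul, mul_comm, ← Nat.sq_sub_sq, one_pow, ← hF, FiniteField.pow_card_sub_one_eq_one c hc0]
  · rw [← pow_mul, mul_comm, pow_mul, hcn, one_pow]

/-- The scalar of an element without root and of determinant one. -/
theorem padicValNat_lt_of_nonpower (hF : Fintype.card F = q ^ 2) (hr2 : r ≠ 2) (hrq : r ∣ q + 1) (hn0 : n ≠ 0)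
    {T : Module.End F (Fin n → F)} {z : F} (hz : ∀ w : F, w ^ r ≠ z) (hT : T ^ r = z • 1)
    (hdet : LinearMap.det T = 1) : r ∣ n ∧ ¬ padicValNat r n ≤ padicValNat r (q + 1) := by
  have hM : LinearMap.toMatrix' T ^ r = z • 1 := by
    refine Matrix.toLin'.injective ?_
    rw [Matrix.toLin'_pow, Matrix.toLin'_toMatrix', hT, map_smul, Matrix.toLin'_one]
    rfl
  obtain ⟨hrn, hd⟩ := LinFix.det_of_pow_eq_nonpower hz hM
  rw [LinearMap.det_toMatrix', hdet] at hd
  refine ⟨hrn, fun hle => (LinFix.exists_nonpower_iff (r := r) (F := F) rfl (dvd_card_sub_one hF hrq) hn0 hrn).1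
    ⟨z, hz, hd.symm⟩ ⟨by rw [padicValNat_pred hF hr2 hrq]; exact hle, fun h => absurd h hr2⟩⟩

variable {p : ℕ} [Fact p.Prime] [CharP F p]

/-- The determinant of an element of order `r` when `r` does not divide `q + 1`. -/
theorem det_eq_one (hF : Fintype.card F = q ^ 2) (hrq : ¬ r ∣ q + 1) {T : Module.End F (Fin n → F)}
    (hT : ∀ u w, hermB hF n (T u) (T w) = hermB hF n u w) (hTr : T ^ r = 1) : LinearMap.det T = 1 := by
  have h1 : LinearMap.det T ^ r = 1 := by rw [← map_pow, hTr, map_one]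
  have h3 := pow_gcd_eq_one.2 ⟨h1, det_pow_succ_eq_one hF hT⟩
  rwa [hr.out.coprime_iff_not_dvd.2 hrq, pow_one] at h3

theorem dvd_succ_iff : r ∣ q + 1 ↔ orderOf (-(q : ZMod r)) = 1 := by
  rw [orderOf_eq_one_iff, ← ZMod.natCast_eq_zero_iff, Nat.cast_add, Nat.cast_one, neg_eq_iff_eq_neg,
    add_eq_zero_iff_eq_neg]

/-- A block element with blocks of dimension `c = ord (-q)`, as small a fixed space as possible. -/
theorem exists_witness_min (hF : Fintype.card F = q ^ 2) (hrp : r ≠ p) (hr2 : r ≠ 2) {c : ℕ}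
    (hc : c = orderOf (-(q : ZMod r))) (hc1 : c ≠ 1) :
    ∃ T : Module.End F (Fin n → F), (∀ u w, hermB hF n (T u) (T w) = hermB hF n u w) ∧ T ^ r = 1 ∧
      LinearMap.det T = 1 ∧ finrank F (fixSp T) ≤ n % c ∧
      ∀ W : Submodule F (Fin n → F), Isotropic (hermB hF n) W → 2 * finrank F ↥(W ⊓ fixSp T) ≤ n % c := by
  obtain ⟨y, hy, hyr, hy1, hyf⟩ := exists_block hF hrp hr2 hc
  obtain ⟨E, T, hE, hTE, hTi, -⟩ := exists_model hF (n := n) (k₀ := n % c) (a := n / c) (h := c)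
    (by rw [mul_comm]; exact Nat.mod_add_div n c) (fun _ => y) (fun _ => hy)
  have hTr : T ^ r = 1 := model_pow_eq_one hTE fun _ => hyr
  refine ⟨T, hTi, hTr, det_eq_one hF (fun h => hc1 (hc.trans (dvd_succ_iff.1 h))) hTi hTr, ?_, fun W hW =>
    (finrank_inf_fix_le hTE (fun _ => hyf) hE W).2 hW⟩
  have h := (finrank_inf_fix_le hTE (fun _ => hyf) hE (⊤ : Submodule F (Fin n → F))).1
  rwa [top_inf_eq] at h

end CfsgLib.PrimeFix.Herm
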