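import Mathlib
import Cfsg.Prelude
import Cfsg.Agent.Lib.PrimeFix.HermWitness

/-!
Nondegenerate subspaces invariant under a unitary isometry whose prime power is a scalar, the prime differing from the
characteristic.
-/

set_option autoImplicit false

namespace CfsgLib.PrimeFix.Herm

open Module Polynomial Cfsg CfsgLib.Classical.Herm

variable {F : Type*} [Field F] [Fintype F] {p : ℕ} [Fact p.Prime] [CharP F p] {q n : ℕ}

omit [Fintype F] [Fact p.Prime] [CharP F p] in
theorem inv_of_smul_ne_zero {T : Module.End F (Fin n → F)} {W : Submodule F (Fin n → F)} {a : F} (ha : a ≠ 0)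
    (hW : Inv (a • T) W) : Inv T W := fun w hw => by
  have h := W.smul_mem a⁻¹ (hW w hw)
  rwa [LinearMap.smul_apply, smul_smul, inv_mul_cancel₀ ha, one_smul] at h

omit [Fintype F] [Fact p.Prime] [CharP F p] in
theorem ne_zero_of_norm_one {a : F} (ha : a ^ (q + 1) = 1) : a ≠ 0 := fun h => by
  rw [h, zero_pow (Nat.succ_ne_zero q)] at ha
  exact zero_ne_one ha

omit [Fact p.Prime] [CharP F p] in
theorem finrank_sup_orth (hF : Fintype.card F = q ^ 2) {U Y : Submodule F (Fin n → F)} (hU : NonDeg (hermB hF n) U)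
    (h : ∀ u ∈ U, ∀ y ∈ Y, hermB hF n u y = 0) : finrank F ↥(U ⊔ Y) = finrank F U + finrank F Y := by
  have h0 : U ⊓ Y = ⊥ := (Submodule.eq_bot_iff _).2 fun v hv =>
    hU v hv.1 fun w hw => eq_zero_symm (hermB_symm hF) (h w hw v hv.2)
  have h1 := Submodule.finrank_sup_add_finrank_inf_eq U Y
  rw [h0, finrank_bot, add_zero] at h1
  exact h1

include p in
/-- A scalar leaves invariant nondegenerate subspaces of every dimension. -/
theorem exists_scalar (hF : Fintype.card F = q ^ 2) {T : Module.End F (Fin n → F)} {c : F} (hc : ∀ v, T v = c • v)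
    {m : ℕ} (hm : m ≤ n) :
    ∃ W : Submodule F (Fin n → F), finrank F W = m ∧ NonDeg (hermB hF n) W ∧ Inv T W := by
  obtain ⟨U, -, hU, hdU⟩ := (exists_sub (p := p) hF (W := (⊤ : Submodule F (Fin n → F))) (nonDeg_top hF)).1 m
    (by rw [finrank_top, Module.finrank_fintype_fun_eq_card, Fintype.card_fin]; exact hm)
  exact ⟨U, hdU, hU, fun w hw => by rw [hc]; exact U.smul_mem c hw⟩

section Odd

variable {r : ℕ} [hr : Fact r.Prime]

/-- A nondegenerate invariant subspace assembled from the fixed part and the units. -/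
theorem exists_nonDeg_of_mod_le (hF : Fintype.card F = q ^ 2) (hrp : r ≠ p) (hr2 : r ≠ 2)
    {T : Module.End F (Fin n → F)} (hT : ∀ u w, hermB hF n (T u) (T w) = hermB hF n u w) (hTr : T ^ r = 1)
    {m c : ℕ} (hc : c = orderOf (-(q : ZMod r))) (hm : m ≤ n) (hk : m % c ≤ n % c) :
    ∃ W : Submodule F (Fin n → F), finrank F W = m ∧ NonDeg (hermB hF n) W ∧ Inv T W := by
  have hrF : (r : F) ≠ 0 := CfsgLib.LinFix.natCast_ne_zero_of_ne hrp
  obtain ⟨hC, hD⟩ := nonDeg_parts hrF hTr hT (hermB_symm hF) (W := ⊤) (fun _ _ => trivial) (nonDeg_top hF)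
  rw [top_inf_eq] at hC hD
  have hfree : Fpf T (fpfSp r T) := fpf_fpfSp hrF
  have hU := hasUnit_fpf hF hrp hr2 hT hTr inv_fpfSp hfree
  rw [← hc] at hU
  obtain ⟨a, ha⟩ := dvd_finrank_fpf hF hrp hr2 hT hTr inv_fpfSp hfree hD
  rw [← hc] at ha
  have hsum := finrank_fix_add_fpf hrF hTr
  rw [Module.finrank_fintype_fun_eq_card, Fintype.card_fin, ha] at hsum
  obtain ⟨j, hja, hjm, hrest⟩ : ∃ j, j ≤ a ∧ j * c ≤ m ∧ m - j * c ≤ finrank F (fixSp T) := by
    rcases Nat.le_total a (m / c) with h | h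
    · refine ⟨a, le_rfl, (Nat.mul_le_mul_right c h).trans (Nat.div_mul_le_self m c), ?_⟩
      rw [mul_comm a c]; omega
    · refine ⟨m / c, h, Nat.div_mul_le_self m c, ?_⟩
      have h1 : m - m / c * c = m % c := by
        have := Nat.mod_add_div m c
        rw [mul_comm c] at this; omega
      have h2 : n % c = finrank F (fixSp T) % c :=
        (congrArg (· % c) hsum.symm).trans (Nat.add_mul_mod_self_left _ _ _)
      have := Nat.mod_le (finrank F (fixSp T)) c
      omega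
  obtain ⟨Y, hYD, hY, hYnd, hdY⟩ := hU.exists_nonDeg (k := r) hrF hTr hT (hermB_symm hF) inv_fpfSp hD j
    (by rw [ha, mul_comm c]; exact Nat.mul_le_mul_right c hja)
  obtain ⟨U, hUC, hUnd, hdU⟩ := (exists_sub (p := p) hF hC).1 (m - j * c) hrest
  have horth : ∀ u ∈ U, ∀ y ∈ Y, hermB hF n u y = 0 := fun u hu y hy =>
    fix_orth_fpf hrF hT (hUC hu) (hYD hy)
  refine ⟨U ⊔ Y, ?_, hUnd.sup hYnd (hermB_symm hF) horth,
    inv_sup (fun u hu => by rw [mem_fixSp.1 (hUC hu)]; exact hu) hY⟩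
  rw [finrank_sup_orth hF hUnd horth, hdU, hdY]
  omega

/-- An isometry of determinant one with no nondegenerate invariant `m`-space. -/
theorem exists_no_nonDeg (hF : Fintype.card F = q ^ 2) (hrp : r ≠ p) (hr2 : r ≠ 2) {m c : ℕ}
    (hc : c = orderOf (-(q : ZMod r))) (hc1 : c ≠ 1) (hk : ¬ m % c ≤ n % c) :
    ∃ T : Module.End F (Fin n → F), (∀ u w, hermB hF n (T u) (T w) = hermB hF n u w) ∧ LinearMap.det T = 1 ∧
      T ^ r = 1 ∧ ∀ W : Submodule F (Fin n → F), Inv T W → NonDeg (hermB hF n) W → finrank F W ≠ m := by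
  have hrF : (r : F) ≠ 0 := CfsgLib.LinFix.natCast_ne_zero_of_ne hrp
  have hcpos : 0 < c := hc ▸ orderOf_pos_iff.2 (isOfFinOrder_iff_pow_eq_one.2 ⟨r - 1, by
    have := hr.out.two_le; omega, ZMod.pow_card_sub_one_eq_one (neg_ne_zero.2 (natCast_q_ne_zero (p := p) hF hrp))⟩)
  obtain ⟨T, hT, hTr, hdet, hfix, -⟩ := exists_witness_min (n := n) hF hrp hr2 hc hc1
  refine ⟨T, hT, hdet, hTr, fun W hW hWnd hd => hk ?_⟩
  obtain ⟨-, hD⟩ := nonDeg_parts hrF hTr hT (hermB_symm hF) hW hWnd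
  obtain ⟨j, hj⟩ := dvd_finrank_fpf hF hrp hr2 hT hTr (inv_inf hW inv_fpfSp) ((fpf_fpfSp hrF).mono inf_le_right) hD
  rw [← hc] at hj
  have h1 := finrank_split hrF hTr hW
  have h2 := (Submodule.finrank_mono (inf_le_right : W ⊓ fixSp T ≤ fixSp T)).trans hfix
  rw [← hd, ← h1, hj, Nat.add_mul_mod_self_left, Nat.mod_eq_of_lt (lt_of_le_of_lt h2 (Nat.mod_lt n hcpos))]
  exact h2

include p in
/-- The witness when a scalar of norm one without root is available. -/
theorem exists_no_nonDeg_nonpower (hF : Fintype.card F = q ^ 2) (hr2 : r ≠ 2) (hrq : r ∣ q + 1) (hn : 0 < n) {m : ℕ}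
    (hrm : ¬ r ∣ m) (hv : ¬ padicValNat r n ≤ padicValNat r (q + 1)) :
    ∃ (T : Module.End F (Fin n → F)) (z : F), (∀ u w, hermB hF n (T u) (T w) = hermB hF n u w) ∧
      LinearMap.det T = 1 ∧ T ^ r = z • 1 ∧
      ∀ W : Submodule F (Fin n → F), Inv T W → NonDeg (hermB hF n) W → finrank F W ≠ m := by
  obtain ⟨hrn, z, hz, hz1, hzn⟩ := exists_nonpower_norm_one hF hr2 hrq hn.ne' hv
  obtain ⟨y, hy, hyr⟩ := exists_cycle_block (r := r) hF hz1
  obtain ⟨E, T, -, hTE, hT, -⟩ := exists_model hF (n := n) (k₀ := 0) (a := n / r) (h := r)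
    (by rw [zero_add, Nat.div_mul_cancel hrn]) (fun _ => y) (fun _ => hy)
  have hTr : T ^ r = z • 1 := LinearMap.ext fun v => by
    obtain ⟨x, rfl⟩ := E.surjective v
    rw [model_pow_apply hTE, LinearMap.smul_apply, Module.End.one_apply, ← map_smul]
    congr 1
    exact Prod.ext (Subsingleton.elim _ _) (funext fun l => by rw [hyr]; rfl)
  have hM : LinearMap.toMatrix' T ^ r = z • 1 := by
    refine Matrix.toLin'.injective ?_
    rw [Matrix.toLin'_pow, Matrix.toLin'_toMatrix', hTr, map_smul, Matrix.toLin'_one]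
    rfl
  have hdet : LinearMap.det T = 1 := by
    rw [← LinearMap.det_toMatrix', (CfsgLib.LinFix.det_of_pow_eq_nonpower hz hM).2,
      ((hr.out.odd_of_ne_two hr2).add_one).neg_one_pow, one_mul, hzn]
  have hneg : (-(q : ZMod r)) = 1 := orderOf_eq_one_iff.1 (dvd_succ_iff.1 hrq)
  obtain ⟨hU, -, k, hTk, hk0⟩ := nonpower_data (p := p) hF hr2 hneg hT hTr hz1 hz
  refine ⟨T, z, hT, hdet, hTr, fun W hW hWnd hd => hrm ?_⟩
  rw [← hd]
  exact hU.dvd_finrank hk0 hTk hT (hermB_symm hF) hr.out.pos W le_top hW hWnd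

/-- Nondegenerate invariant subspaces for an element whose `r`-th power is a scalar, `r` odd. -/
theorem exists_nonDeg_odd (hF : Fintype.card F = q ^ 2) (hrp : r ≠ p) (hr2 : r ≠ 2)
    {T : Module.End F (Fin n → F)} (hT : ∀ u w, hermB hF n (T u) (T w) = hermB hF n u w)
    (hdet : LinearMap.det T = 1) {z : F} (hz : T ^ r = z • 1) {m c : ℕ} (hc : c = orderOf (-(q : ZMod r)))
    (hn : 0 < n) (hm : m ≤ n) (hk : m % c ≤ n % c)
    (hone : c = 1 → r ∣ m ∨ padicValNat r n ≤ padicValNat r (q + 1)) :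
    ∃ W : Submodule F (Fin n → F), finrank F W = m ∧ NonDeg (hermB hF n) W ∧ Inv T W := by
  have hz1 := scalar_norm_one hF hn hT hz
  by_cases hroot : ∃ w : F, w ^ (q + 1) = 1 ∧ w ^ r = z
  · obtain ⟨w, hw, hwr⟩ := hroot
    have hw0 : w ≠ 0 := ne_zero_of_norm_one hw
    obtain ⟨W, h1, h2, h3⟩ := exists_nonDeg_of_mod_le (p := p) hF hrp hr2 (T := w⁻¹ • T)
      (isometry_smul hF hT (by rw [inv_pow, hw, inv_one]))
      (by rw [_root_.smul_pow, hz, smul_smul, inv_pow, ← hwr, inv_mul_cancel₀ (pow_ne_zero _ hw0), one_smul])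
      hc hm hk
    exact ⟨W, h1, h2, inv_of_smul_ne_zero (inv_ne_zero hw0) h3⟩
  · have hrq : r ∣ q + 1 := by
      by_contra h
      exact hroot (exists_root_norm_one h hz1)
    have hnp : ∀ w : F, w ^ r ≠ z := fun w hw => hroot ⟨w, norm_one_of_root hF hr2 hrq (by rw [hw]; exact hz1), hw⟩
    have hc1 : c = 1 := hc.trans (dvd_succ_iff.1 hrq)
    obtain ⟨hrn, hv⟩ := padicValNat_lt_of_nonpower hF hr2 hrq hn.ne' hnp hz hdet
    obtain ⟨j, rfl⟩ := (hone hc1).resolve_right hv
    have hneg : (-(q : ZMod r)) = 1 := orderOf_eq_one_iff.1 (dvd_succ_iff.1 hrq)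
    obtain ⟨hU, -, k, hTk, hk0⟩ := nonpower_data (p := p) hF hr2 hneg hT hz hz1 hnp
    obtain ⟨W, -, hWi, hW, hdW⟩ := hU.exists_nonDeg (k := k) hk0 hTk hT (hermB_symm hF) (fun _ _ => trivial)
      (nonDeg_top hF) j (by rw [finrank_top, Module.finrank_fintype_fun_eq_card, Fintype.card_fin, mul_comm]; exact hm)
    exact ⟨W, by rw [hdW, mul_comm], hW, hWi⟩

end Odd

section Two

omit [Fintype F] [Fact p.Prime] [CharP F p] in
theorem neg_of_mem_fpfSp_two {S : Module.End F (Fin n → F)} {v : Fin n → F} (hv : v ∈ fpfSp 2 S) : S v = -v := by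
  have h0 : (∑ k ∈ Finset.range 2, S ^ k) v = 0 := hv
  simp [Finset.sum_range_succ] at h0
  exact eq_neg_of_add_eq_zero_right h0

omit [Fintype F] [Fact p.Prime] [CharP F p] in
/-- The determinant of an involution. -/
theorem det_involution (h2 : (2 : F) ≠ 0) {T : Module.End F (Fin n → F)} (hT : T ^ 2 = 1) :
    LinearMap.det T = (-1) ^ finrank F (fpfSp 2 T) := by
  haveI : Fact (Nat.Prime 2) := ⟨Nat.prime_two⟩
  have h2' : ((2 : ℕ) : F) ≠ 0 := by exact_mod_cast h2
  have hc : IsCompl (fixSp T) (fpfSp 2 T) := by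
    refine ⟨disjoint_iff.2 (fix_inf_fpf h2'), codisjoint_iff.2 ?_⟩
    have h := inf_fix_sup_inf_fpf h2' hT (W := (⊤ : Submodule F (Fin n → F))) fun _ _ => trivial
    rwa [top_inf_eq, top_inf_eq] at h
  let e := Submodule.prodEquivOfIsCompl _ _ hc
  let S : Module.End F (fixSp T × fpfSp 2 T) := LinearMap.prodMap LinearMap.id ((-1 : F) • LinearMap.id)
  have hTe : T = e.toLinearMap ∘ₗ S ∘ₗ e.symm.toLinearMap := LinearMap.ext fun v => by
    obtain ⟨⟨a, b⟩, rfl⟩ := e.surjective v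
    simp [e, S, mem_fixSp.1 a.2, neg_of_mem_fpfSp_two b.2]
  conv_lhs => rw [hTe]
  rw [LinearMap.det_conj, LinearMap.det_prodMap, LinearMap.det_id, one_mul, LinearMap.det_smul, LinearMap.det_id,
    mul_one]

include p in
/-- An isometric involution leaves invariant nondegenerate subspaces of every dimension. -/
theorem exists_nonDeg_involution (hF : Fintype.card F = q ^ 2) (h2 : (2 : F) ≠ 0) {S : Module.End F (Fin n → F)}
    (hS : ∀ u w, hermB hF n (S u) (S w) = hermB hF n u w) (hS2 : S ^ 2 = 1) {m : ℕ} (hm : m ≤ n) :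
    ∃ W : Submodule F (Fin n → F), finrank F W = m ∧ NonDeg (hermB hF n) W ∧ Inv S W := by
  haveI : Fact (Nat.Prime 2) := ⟨Nat.prime_two⟩
  have h2' : ((2 : ℕ) : F) ≠ 0 := by exact_mod_cast h2
  obtain ⟨hC, hD⟩ := nonDeg_parts h2' hS2 hS (hermB_symm hF) (W := ⊤) (fun _ _ => trivial) (nonDeg_top hF)
  rw [top_inf_eq] at hC hD
  have hsum := finrank_fix_add_fpf h2' hS2
  rw [Module.finrank_fintype_fun_eq_card, Fintype.card_fin] at hsum
  obtain ⟨U, hUC, hU, hdU⟩ := (exists_sub (p := p) hF hC).1 (min (finrank F (fixSp S)) m) (min_le_left _ _)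
  obtain ⟨Y, hYD, hY, hdY⟩ := (exists_sub (p := p) hF hD).1 (m - min (finrank F (fixSp S)) m) (by omega)
  have horth : ∀ u ∈ U, ∀ y ∈ Y, hermB hF n u y = 0 := fun u hu y hy => fix_orth_fpf h2' hS (hUC hu) (hYD hy)
  refine ⟨U ⊔ Y, ?_, hU.sup hY (hermB_symm hF) horth, inv_sup (fun u hu => ?_) fun u hu => ?_⟩
  · rw [finrank_sup_orth hF hU horth, hdU, hdY]; omega
  · rw [mem_fixSp.1 (hUC hu)]; exact hu
  · rw [neg_of_mem_fpfSp_two (hYD hu)]; exact Y.neg_mem hu

include p in
/-- An element squaring to a scalar whose square root has norm `-1`: two totally isotropic eigenspaces. -/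
theorem split_data (hF : Fintype.card F = q ^ 2) (h2 : (2 : F) ≠ 0) {T : Module.End F (Fin n → F)}
    (hT : ∀ u w, hermB hF n (T u) (T w) = hermB hF n u w) {z w : F} (hz : T ^ 2 = z • 1) (hw : w * w = z)
    (hw1 : w ^ (q + 1) = -1) :
    (HasUnit (hermB hF n) T ⊤ 2 ∧ ∃ k : ℕ, 0 < k ∧ (k : F) ≠ 0 ∧ T ^ k = 1) ∧
      ∃ h, n = 2 * h ∧ LinearMap.det T = (-z) ^ h := by
  classical
  haveI : Fact (Nat.Prime 2) := ⟨Nat.prime_two⟩
  haveI : ExpChar F p := ExpChar.prime Fact.out
  obtain ⟨e, he, hqe⟩ := exists_exponent_pow (p := p) hF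
  have hw0 : w ≠ 0 := fun h => by
    rw [h, zero_pow (Nat.succ_ne_zero q)] at hw1
    exact one_ne_zero (neg_eq_zero.1 hw1.symm)
  have hz1 : z ^ (q + 1) = 1 := by rw [← hw, mul_pow, hw1, neg_mul_neg, one_mul]
  have hkT : T ^ (2 * (q + 1)) = 1 := by rw [pow_mul, hz, _root_.smul_pow, hz1, one_pow, one_smul]
  have hk : ((2 * (q + 1) : ℕ) : F) ≠ 0 := by
    rw [hqe, Nat.cast_mul, Nat.cast_add, Nat.cast_pow, CharP.cast_eq_zero F p, zero_pow he.ne', zero_add,
      Nat.cast_one, mul_one]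
    exact_mod_cast h2
  have hiso : ∀ (s : F), s ^ (q + 1) = -1 → ∀ (S : Submodule F (Fin n → F)), (∀ u ∈ S, T u = s • u) →
      Isotropic (hermB hF n) S := fun s hs S hS u hu v hv => by
    have h := hT u v
    rw [hS u hu, hS v hv, map_smulₛₗ (hermB hF n), LinearMap.smul_apply, map_smul, smul_eq_mul, smul_eq_mul,
      qPow_apply, ← mul_assoc, ← pow_succ, hs] at h
    exact (mul_eq_zero.1 (show (2 : F) * hermB hF n u v = 0 by linear_combination -h)).resolve_left h2
  have hqodd : Even (q + 1) := by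
    have hchar : ringChar F ≠ 2 := fun h => h2 (by
      haveI : CharP F 2 := ringChar.of_eq h
      exact CharTwo.two_eq_zero)
    have h := FiniteField.odd_card_of_char_ne_two hchar
    rw [hF] at h
    rcases Nat.even_or_odd q with he | ho
    · exact absurd (Nat.even_iff.1 (he.pow_of_ne_zero two_ne_zero)) (by omega)
    · exact ho.add_one
  have hnw : (-w) ^ (q + 1) = -1 := by rw [hqodd.neg_pow, hw1]
  refine ⟨⟨?_, _, by omega, hk, hkT⟩, ?_⟩
  · have hne : (X - C w : F[X]) ≠ X - C (-w) := fun h => by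
      have h1 := congrArg (Polynomial.eval 0) h
      simp only [eval_sub, eval_X, eval_C, zero_sub, neg_neg] at h1
      exact hw0 ((mul_eq_zero.1 (show (2 : F) * w = 0 by linear_combination -h1)).resolve_left h2)
    have hTT : ∀ v, T (T v) = (w * w) • v := fun v => by rw [← Module.End.mul_apply, ← pow_two, hz, hw]; rfl
    have hG : Kinds T ⊤ 1 {X - C w, X - C (-w)} := by
      refine ⟨fun g hg => ?_, fun g hg => ?_, fun g hg => ?_, fun v _ => ?_⟩
      · rcases Finset.mem_insert.1 hg with rfl | hg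
        · exact monic_X_sub_C _
        · rw [Finset.mem_singleton.1 hg]; exact monic_X_sub_C _
      · rcases Finset.mem_insert.1 hg with rfl | hg
        · exact irreducible_X_sub_C _
        · rw [Finset.mem_singleton.1 hg]; exact irreducible_X_sub_C _
      · rcases Finset.mem_insert.1 hg with rfl | hg
        · exact natDegree_X_sub_C _
        · rw [Finset.mem_singleton.1 hg]; exact natDegree_X_sub_C _
      · rw [Finset.prod_pair hne, map_mul, map_sub, map_sub, aeval_X, aeval_C, aeval_C, Module.End.mul_apply]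
        simp only [LinearMap.sub_apply, Module.algebraMap_end_apply, map_sub, map_smul, hTT]
        module
    refine hasUnit_two_mul hk hkT hT (hermB_symm hF) one_pos hG.atoms fun C _ hC hdC => ?_
    have hC0 : C ≠ ⊥ := fun h => by rw [h, finrank_bot] at hdC; omega
    obtain ⟨g, hg, v, hv, hv0, hgv, -⟩ := hG.exists_cyc (le_top : C ≤ ⊤) hC hC0
    have hCv : C = F ∙ v := (Submodule.eq_of_le_of_finrank_eq ((Submodule.span_singleton_le_iff_mem _ _).2 hv)
      (by rw [finrank_span_singleton hv0, hdC])).symm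
    obtain ⟨s, hs, hvs⟩ : ∃ s : F, s ^ (q + 1) = -1 ∧ T v = s • v := by
      rcases Finset.mem_insert.1 hg with rfl | hg
      · refine ⟨w, hw1, sub_eq_zero.1 ?_⟩
        simpa [Module.algebraMap_end_apply] using hgv
      · rw [Finset.mem_singleton.1 hg] at hgv
        refine ⟨-w, hnw, sub_eq_zero.1 ?_⟩
        simpa [Module.algebraMap_end_apply] using hgv
    refine hiso s hs C fun u hu => ?_
    rw [hCv, Submodule.mem_span_singleton] at hu
    obtain ⟨a, rfl⟩ := hu
    rw [map_smul, hvs, smul_comm]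
  · have h2' : ((2 : ℕ) : F) ≠ 0 := by exact_mod_cast h2
    set S := w⁻¹ • T with hSdef
    have hS2 : S ^ 2 = 1 := by
      rw [hSdef, _root_.smul_pow, hz, smul_smul, ← hw, show w⁻¹ ^ 2 * (w * w) = 1 by field_simp, one_smul]
    have hTS : ∀ v, T v = w • S v := fun v => by
      rw [hSdef, LinearMap.smul_apply, smul_smul, mul_inv_cancel₀ hw0, one_smul]
    have hfr : finrank F (Fin n → F) = n := by rw [Module.finrank_fintype_fun_eq_card, Fintype.card_fin]
    have hsum := finrank_fix_add_fpf h2' hS2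
    have hP := two_mul_finrank_le (B := hermB hF n) (hermB_nondeg hF)
      (hiso w hw1 (fixSp S) fun u hu => by rw [hTS, mem_fixSp.1 hu])
    have hM := two_mul_finrank_le (B := hermB hF n) (hermB_nondeg hF)
      (hiso (-w) hnw (fpfSp 2 S) fun u hu => by rw [hTS, neg_of_mem_fpfSp_two hu, smul_neg, neg_smul])
    rw [hfr] at hsum hP hM
    refine ⟨finrank F (fpfSp 2 S), by omega, ?_⟩
    have hTw : T = w • S := LinearMap.ext hTS
    conv_lhs => rw [hTw]
    have hwn : w ^ n = z ^ finrank F (fpfSp 2 S) := by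
      rw [← hw, ← pow_two, ← pow_mul]
      congr 1
      omega
    rw [LinearMap.det_smul, hfr, det_involution h2 hS2, hwn, ← mul_pow, mul_neg_one]

theorem exists_pow_half_eq_neg_one (hF : Fintype.card F = q ^ 2) (hchar : ringChar F ≠ 2) (hqo : q % 2 = 1) :
    ∃ z : F, z ^ ((q + 1) / 2) = -1 := by
  have hcard := FiniteField.odd_card_of_char_ne_two hchar
  obtain ⟨a, ha⟩ := FiniteField.exists_nonsquare hchar
  have ha0 : a ≠ 0 := fun h => ha (h ▸ IsSquare.zero)
  refine ⟨a ^ (q - 1), ?_⟩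
  have hq2 := two_le_of_card hF
  have h : (q - 1) * ((q + 1) / 2) = Fintype.card F / 2 := by
    obtain ⟨t, ht⟩ : ∃ t, q = 2 * t + 1 := ⟨q / 2, by omega⟩
    rw [hF, ht]
    rw [show 2 * t + 1 - 1 = 2 * t by omega, show (2 * t + 1 + 1) / 2 = t + 1 by omega,
      show (2 * t + 1) ^ 2 = 1 + 2 * (2 * t * (t + 1)) by ring, Nat.add_mul_div_left _ _ two_pos]
    omega
  rw [← pow_mul, h]
  exact (FiniteField.pow_dichotomy hchar ha0).resolve_left fun h1 =>
    ha ((FiniteField.isSquare_iff hchar ha0).2 h1)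

/-- An isometry squaring to `z`, in dimension two. -/
theorem exists_block_two (hF : Fintype.card F = q ^ 2) {z : F} (hz : z ^ (q + 1) = 1) :
    ∃ y : Module.End F (Fin 2 → F), (∀ u w, hermB hF 2 (y u) (y w) = hermB hF 2 u w) ∧ y ^ 2 = z • 1 ∧
      LinearMap.det y = -z := by
  refine ⟨Matrix.toLin' !![0, z; 1, 0], fun u w => ?_, LinearMap.ext fun v => funext fun j => ?_, ?_⟩
  · simp only [hermB_apply, hermForm, Fin.sum_univ_two, Matrix.toLin'_apply]
    simp [Matrix.mulVec, dotProduct, Fin.sum_univ_two, mul_pow]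
    rw [show z * w 1 * (z ^ q * u 1 ^ q) = z ^ (q + 1) * (w 1 * u 1 ^ q) by ring, hz, one_mul, add_comm]
  · rw [pow_two, Module.End.mul_apply]
    fin_cases j <;> simp [Matrix.toLin'_apply, Matrix.mulVec, dotProduct, Fin.sum_univ_two]
  · rw [LinearMap.det_toLin', Matrix.det_fin_two_of]
    ring

/-- For `r = 2`: nondegenerate invariant subspaces of dimension `m`. -/
theorem exists_nonDeg_two (hF : Fintype.card F = q ^ 2) (hp2 : p ≠ 2) (hn : 0 < n)
    {T : Module.End F (Fin n → F)} (hT : ∀ u w, hermB hF n (T u) (T w) = hermB hF n u w)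
    (hdet : LinearMap.det T = 1) {z : F} (hz : T ^ 2 = z • 1) {m : ℕ} (hm : m ≤ n)
    (hcond : Odd n ∨ Even m ∨ (padicValNat 2 n ≤ padicValNat 2 (q + 1) ∧ q % 4 = 3)) :
    ∃ W : Submodule F (Fin n → F), finrank F W = m ∧ NonDeg (hermB hF n) W ∧ Inv T W := by
  haveI : Fact (Nat.Prime 2) := ⟨Nat.prime_two⟩
  have hchar : ringChar F ≠ 2 := by rw [ringChar.eq F p]; exact hp2
  have h2 : (2 : F) ≠ 0 := Ring.two_ne_zero hchar
  have hz1 := scalar_norm_one hF hn hT hz
  have hz0 : z ≠ 0 := ne_zero_of_norm_one hz1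
  have hqodd : q % 2 = 1 := by
    have h := FiniteField.odd_card_of_char_ne_two hchar
    rw [hF, Nat.pow_mod] at h
    rcases Nat.mod_two_eq_zero_or_one q with h0 | h0
    · rw [h0] at h; norm_num at h
    · exact h0
  obtain ⟨w, hw⟩ : ∃ w, w * w = z := by
    obtain ⟨w, hw⟩ : IsSquare z := by
      rw [FiniteField.isSquare_iff hchar hz0]
      obtain ⟨t, rfl⟩ : ∃ t, q = 2 * t + 1 := ⟨q / 2, by omega⟩
      have : Fintype.card F / 2 = (2 * t + 1 + 1) * t := by
        rw [hF, show (2 * t + 1) ^ 2 = 1 + 2 * ((2 * t + 1 + 1) * t) by ring, Nat.add_mul_div_left _ _ two_pos]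
        omega
      rw [this, pow_mul, hz1, one_pow]
    exact ⟨w, hw.symm⟩
  have hw0 : w ≠ 0 := fun h => hz0 (by rw [← hw, h, zero_mul])
  rcases mul_self_eq_one_iff.1 (show w ^ (q + 1) * w ^ (q + 1) = 1 by rw [← mul_pow, hw, hz1]) with hw1 | hw1
  · obtain ⟨W, h1, hnd, h3⟩ := exists_nonDeg_involution (p := p) hF h2 (S := w⁻¹ • T)
      (isometry_smul hF hT (by rw [inv_pow, hw1, inv_one]))
      (by rw [_root_.smul_pow, hz, smul_smul, ← hw, show w⁻¹ ^ 2 * (w * w) = 1 by field_simp, one_smul]) hm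
    exact ⟨W, h1, hnd, inv_of_smul_ne_zero (inv_ne_zero hw0) h3⟩
  · obtain ⟨⟨hU, k, -, hk, hkT⟩, h, hnh, hd⟩ := split_data (p := p) hF h2 hT hz hw hw1
    rcases hcond with ho | he | ⟨hv, hq4⟩
    · exact absurd ho (Nat.not_odd_iff_even.2 ⟨h, by omega⟩)
    · obtain ⟨j, rfl⟩ := he
      obtain ⟨W, -, hWi, hW, hdW⟩ := hU.exists_nonDeg hk hkT hT (hermB_symm hF) (fun _ _ => trivial) (nonDeg_top hF) j
        (by rw [finrank_top, Module.finrank_fintype_fun_eq_card, Fintype.card_fin]; omega)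
      exact ⟨W, by omega, hW, hWi⟩
    · exfalso
      rw [hdet] at hd
      -- the two-part of the order of `-z` exceeds that of `h`
      have hzh : z ^ ((q + 1) / 2) = -1 := by rw [← hw, ← pow_two, ← pow_mul, show 2 * ((q + 1) / 2) = q + 1 by omega, hw1]
      have hmz : (-z) ^ ((q + 1) / 2) = -1 := by
        rw [(Nat.even_iff.2 (show (q + 1) / 2 % 2 = 0 by omega)).neg_pow, hzh]
      have hh0 : h ≠ 0 := by omega
      obtain ⟨e, he⟩ : 2 ^ padicValNat 2 h ∣ h := pow_padicValNat_dvd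
      have heodd : Odd e := by
        rcases Nat.even_or_odd e with hev | ho
        · obtain ⟨e', he'⟩ := hev
          have h' : 2 ^ (padicValNat 2 h + 1) ∣ h := ⟨e', by rw [pow_succ, mul_assoc, two_mul, ← he', ← he]⟩
          rw [padicValNat_dvd_iff_le hh0] at h'
          omega
        · exact ho
      have hvn : padicValNat 2 n = padicValNat 2 h + 1 := by
        rw [hnh, padicValNat.mul two_ne_zero hh0, padicValNat.self one_lt_two, add_comm]
      obtain ⟨u, hu⟩ : 2 ^ padicValNat 2 h ∣ (q + 1) / 2 := by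
        refine Nat.dvd_div_of_mul_dvd ?_
        rw [← pow_succ', padicValNat_dvd_iff_le (show q + 1 ≠ 0 by omega)]
        omega
      have h1 : ((-z) ^ ((q + 1) / 2)) ^ e = ((-z) ^ h) ^ u := by
        rw [← pow_mul, ← pow_mul]
        congr 1
        calc (q + 1) / 2 * e = 2 ^ padicValNat 2 h * u * e := by rw [← hu]
          _ = 2 ^ padicValNat 2 h * e * u := by ring
          _ = h * u := by rw [← he]
      rw [hmz, heodd.neg_one_pow, ← hd, one_pow] at h1
      exact h2 (by linear_combination -h1)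

/-- For `r = 2`: the witness. -/
theorem exists_no_nonDeg_two (hF : Fintype.card F = q ^ 2) (hp2 : p ≠ 2) (hne : Even n) (hn : 0 < n) {m : ℕ}
    (hmo : Odd m) (hcond : ¬ (padicValNat 2 n ≤ padicValNat 2 (q + 1) ∧ q % 4 = 3)) :
    ∃ (T : Module.End F (Fin n → F)) (z : F), (∀ u w, hermB hF n (T u) (T w) = hermB hF n u w) ∧
      LinearMap.det T = 1 ∧ T ^ 2 = z • 1 ∧
      ∀ W : Submodule F (Fin n → F), Inv T W → NonDeg (hermB hF n) W → finrank F W ≠ m := by
  haveI : Fact (Nat.Prime 2) := ⟨Nat.prime_two⟩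
  have hchar : ringChar F ≠ 2 := by rw [ringChar.eq F p]; exact hp2
  have h2 : (2 : F) ≠ 0 := Ring.two_ne_zero hchar
  have hqodd : q % 2 = 1 := by
    have h := FiniteField.odd_card_of_char_ne_two hchar
    rw [hF, Nat.pow_mod] at h
    rcases Nat.mod_two_eq_zero_or_one q with h0 | h0
    · rw [h0] at h; norm_num at h
    · exact h0
  obtain ⟨h, hh⟩ := hne
  obtain ⟨z, hz, hzh⟩ : ∃ z : F, z ^ ((q + 1) / 2) = -1 ∧ (-z) ^ h = 1 := by
    by_cases hq4 : q % 4 = 3
    · have hv : ¬ padicValNat 2 n ≤ padicValNat 2 (q + 1) := fun hv => hcond ⟨hv, hq4⟩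
      obtain ⟨z₀, hz₀⟩ := exists_pow_half_eq_neg_one hF hchar hqodd
      obtain ⟨u, hu⟩ : 2 ^ padicValNat 2 (q + 1) ∣ q + 1 := pow_padicValNat_dvd
      have huodd : Odd u := by
        rcases Nat.even_or_odd u with hev | ho
        · obtain ⟨u', hu'⟩ := hev
          have h' : 2 ^ (padicValNat 2 (q + 1) + 1) ∣ q + 1 := ⟨u', by rw [pow_succ, mul_assoc, two_mul, ← hu', ← hu]⟩
          rw [padicValNat_dvd_iff_le (show q + 1 ≠ 0 by omega)] at h'
          omega
        · exact ho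
      refine ⟨-(z₀ ^ u), ?_, ?_⟩
      · rw [(Nat.even_iff.2 (show (q + 1) / 2 % 2 = 0 by omega)).neg_pow, ← pow_mul, mul_comm, pow_mul, hz₀,
          huodd.neg_one_pow]
      · rw [neg_neg]
        obtain ⟨e, he⟩ : 2 ^ padicValNat 2 (q + 1) ∣ h := by
          refine Nat.dvd_of_mul_dvd_mul_left two_pos ?_
          rw [← pow_succ', two_mul, ← hh, padicValNat_dvd_iff_le hn.ne']
          omega
        rw [← pow_mul, he, ← mul_assoc, mul_comm u, ← hu, pow_mul]
        rw [show z₀ ^ (q + 1) = 1 by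
          rw [show q + 1 = (q + 1) / 2 * 2 by omega, pow_mul, hz₀, neg_one_sq], one_pow]
    · exact ⟨-1, by rw [(Nat.odd_iff.2 (show (q + 1) / 2 % 2 = 1 by omega)).neg_one_pow], by rw [neg_neg, one_pow]⟩
  have hz1 : z ^ (q + 1) = 1 := by rw [show q + 1 = (q + 1) / 2 * 2 by omega, pow_mul, hz, neg_one_sq]
  obtain ⟨w, hw⟩ : ∃ w, w * w = z := by
    have hz0 : z ≠ 0 := ne_zero_of_norm_one hz1
    obtain ⟨w, hw⟩ : IsSquare z := by
      rw [FiniteField.isSquare_iff hchar hz0]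
      obtain ⟨t, rfl⟩ : ∃ t, q = 2 * t + 1 := ⟨q / 2, by omega⟩
      have : Fintype.card F / 2 = (2 * t + 1 + 1) * t := by
        rw [hF, show (2 * t + 1) ^ 2 = 1 + 2 * ((2 * t + 1 + 1) * t) by ring, Nat.add_mul_div_left _ _ two_pos]
        omega
      rw [this, pow_mul, hz1, one_pow]
    exact ⟨w, hw.symm⟩
  have hw1 : w ^ (q + 1) = -1 := by
    rw [show q + 1 = 2 * ((q + 1) / 2) by omega, pow_mul, pow_two, hw, hz]
  obtain ⟨y, hy, hy2, hdy⟩ := exists_block_two hF hz1
  obtain ⟨E, T, -, hTE, hT, hdT⟩ := exists_model hF (n := n) (k₀ := 0) (a := h) (h := 2) (by omega) (fun _ => y)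
    (fun _ => hy)
  have hTr : T ^ 2 = z • 1 := LinearMap.ext fun v => by
    obtain ⟨x, rfl⟩ := E.surjective v
    rw [model_pow_apply hTE, LinearMap.smul_apply, Module.End.one_apply, ← map_smul]
    congr 1
    exact Prod.ext (Subsingleton.elim _ _) (funext fun l => by rw [hy2]; rfl)
  refine ⟨T, z, hT, ?_, hTr, fun W hW hWnd hd => ?_⟩
  · rw [hdT, Finset.prod_const, Finset.card_univ, Fintype.card_fin, hdy, hzh]
  · obtain ⟨⟨hU, k, -, hk, hkT⟩, -⟩ := split_data (p := p) hF h2 hT hTr hw hw1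
    have := hU.dvd_finrank hk hkT hT (hermB_symm hF) two_pos W le_top hW hWnd
    rw [hd] at this
    exact Nat.not_even_iff_odd.2 hmo (even_iff_two_dvd.2 this)

end Two

end CfsgLib.PrimeFix.Herm
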