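import Mathlib
import Cfsg.Prelude
import Cfsg.Agent.Lib.PrimeFix.HermWitness
import Cfsg.Agent.Lib.PrimeFix.Chain
import Cfsg.Agent.Lib.UnipotentClassical.Assemble
import Cfsg.Agent.Lib.LinFix.Jordan

/-!
Nondegenerate subspaces invariant under unitary isometries of order the characteristic.
-/

set_option autoImplicit false

namespace CfsgLib.PrimeFix.Herm

open Module Polynomial Cfsg CfsgLib.Classical.Herm CfsgLib.UnipotentClassical

variable {F : Type*} [Field F] [Fintype F] {q n p : ℕ} [Fact p.Prime] [CharP F p]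

/-- The top block of a nondegenerate invariant subspace gives a cyclic unit. -/
theorem exists_unit_char (hF : Fintype.card F = q ^ 2) {T : Module.End F (Fin n → F)}
    (hT : ∀ u w, hermB hF n (T u) (T w) = hermB hF n u w) (hTp : T ^ p = 1)
    {M : Submodule F (Fin n → F)} (hM : Inv T M) (hMnd : NonDeg (hermB hF n) M) (hM0 : M ≠ ⊥) :
    ∃ s Y, 0 < s ∧ s ≤ p ∧ Y ≤ M ∧ Inv T Y ∧ NonDeg (hermB hF n) Y ∧ finrank F Y = s := by
  have hp0 : 0 < p := (Fact.out : p.Prime).pos
  have hN : (T - 1) ^ p = 0 := by rw [CfsgLib.LinFix.sub_one_pow_char, hTp, sub_self]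
  obtain ⟨s, hs0, hs, ⟨v, hv, hv0⟩, u, hu, w, hw, hne⟩ :=
    exists_top_block hp0 hTp hT (T := T) ⟨p, hN⟩ hMnd hM hM0
  have hsp : s ≤ p := by
    by_contra h
    refine hv0 ?_
    rw [← Nat.sub_add_cancel (show p ≤ s - 1 by omega), pow_add, hN, mul_zero, LinearMap.zero_apply]
  obtain ⟨x, hx, hx0⟩ : ∃ x ∈ M, hermB hF n x (((T - 1) ^ (s - 1)) x) ≠ 0 := by
    by_contra hall
    push Not at hall
    apply qPow_ne_id hF
    ext c
    have h : ∀ a b, a ∈ M → b ∈ M → hermB hF n a (((T - 1) ^ (s - 1)) b) + hermB hF n b (((T - 1) ^ (s - 1)) a) = 0 := by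
      intro a b ha hb
      have h := hall (a + b) (M.add_mem ha hb)
      simp only [map_add, LinearMap.add_apply, hall a ha, hall b hb, zero_add, add_zero] at h
      linear_combination h
    have h1 := h u w hu hw
    have h2 := h (c • u) w (M.smul_mem c hu) hw
    simp only [map_smulₛₗ, LinearMap.smul_apply, RingHom.id_apply, smul_eq_mul] at h2
    have h3 : (qPow hF c - c) * hermB hF n u (((T - 1) ^ (s - 1)) w) = 0 := by linear_combination h2 - c * h1
    exact sub_eq_zero.1 ((mul_eq_zero.1 h3).resolve_right hne)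
  obtain ⟨Y, hYM, hY, hYnd, hdY⟩ := chains_nonDeg hp0 hTp hT hM hs (fun _ : Fin 1 => x) (fun _ => hx)
    fun c hc => funext fun a => by
      have h := hc 0
      rw [Fin.sum_univ_one] at h
      rw [Fin.fin_one_eq_zero a]
      exact (map_eq_zero (qPow hF)).1 ((mul_eq_zero.1 h).resolve_right hx0)
  exact ⟨s, Y, hs0, hsp, hYM, hY, hYnd, by rw [hdY, Fintype.card_fin, mul_one]⟩

/-- An element of order `p` leaves invariant a nondegenerate `m`-space if the block sizes allow it. -/
theorem exists_nonDeg_char (hF : Fintype.card F = q ^ 2) {T : Module.End F (Fin n → F)}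
    (hT : ∀ u w, hermB hF n (T u) (T w) = hermB hF n u w) (hTp : T ^ p = 1) {m : ℕ}
    (hcond : ∀ μ : Multiset ℕ, (∀ a ∈ μ, 0 < a ∧ a ≤ p) → μ.sum = n → ∃ ν : Multiset ℕ, ν ≤ μ ∧ ν.sum = m) :
    ∃ W : Submodule F (Fin n → F), finrank F W = m ∧ NonDeg (hermB hF n) W ∧ Inv T W := by
  obtain ⟨L, hL, hsum, hsub⟩ := exists_unit_list (Fact.out : p.Prime).pos hTp hT (hermB_symm hF)
    (fun a : ℕ => a) (fun a => 0 < a ∧ a ≤ p) (fun M hM hMnd hM0 => by
      obtain ⟨s, Y, hs0, hsp, hY⟩ := exists_unit_char hF hT hTp hM hMnd hM0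
      exact ⟨s, Y, ⟨hs0, hsp⟩, hs0, hY⟩) ⊤ (fun _ _ => trivial) (nonDeg_top hF)
  rw [Multiset.map_id', finrank_top, Module.finrank_fintype_fun_eq_card, Fintype.card_fin] at hsum
  obtain ⟨ν, hν, hνs⟩ := hcond L hL hsum
  obtain ⟨W, -, hW, hWnd, hdW⟩ := hsub ν hν
  exact ⟨W, by rw [hdW, Multiset.map_id', hνs], hWnd, hW⟩

/-- Reversal inside each block. -/
def blockRev {t : ℕ} (d : Fin t → ℕ) (x : (k : Fin t) × Fin (d k)) : (k : Fin t) × Fin (d k) := ⟨x.1, Fin.rev x.2⟩

/-- The antidiagonal Hermitian form on a sum of blocks. -/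
def blockHerm (hF : Fintype.card F = q ^ 2) {t : ℕ} (d : Fin t → ℕ) :
    (((k : Fin t) × Fin (d k)) → F) →ₛₗ[qPow hF] (((k : Fin t) × Fin (d k)) → F) →ₗ[F] F :=
  LinearMap.mk₂'ₛₗ (qPow hF) (RingHom.id F) (fun u w => ∑ x, qPow hF (u x) * w (blockRev d x))
    (fun u u' w => by simp only [Pi.add_apply, map_add, add_mul, Finset.sum_add_distrib])
    (fun c u w => by simp only [Pi.smul_apply, smul_eq_mul, map_mul, Finset.mul_sum, mul_assoc])
    (fun u w w' => by simp [mul_add, Finset.sum_add_distrib])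
    (fun c u w => by simp [Finset.mul_sum, mul_left_comm])

omit [Fact p.Prime] [CharP F p] in
theorem blockHerm_apply (hF : Fintype.card F = q ^ 2) {t : ℕ} (d : Fin t → ℕ) (u w) :
    blockHerm hF d u w = ∑ x, qPow hF (u x) * w (blockRev d x) := rfl

omit [Fact p.Prime] [CharP F p] in
theorem blockHerm_symm (hF : Fintype.card F = q ^ 2) {t : ℕ} (d : Fin t → ℕ) :
    (blockHerm (F := F) hF d).IsSymm := ⟨fun u w => by
  have hinv : Function.Involutive (blockRev d) := fun x => by simp [blockRev]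
  rw [blockHerm_apply, blockHerm_apply, map_sum, ← Equiv.sum_comp (hinv.toPerm _)]
  refine Finset.sum_congr rfl fun x _ => ?_
  rw [map_mul, qPow_qPow, Function.Involutive.coe_toPerm, hinv x, mul_comm]⟩

omit [Fact p.Prime] [CharP F p] in
theorem blockHerm_nondeg (hF : Fintype.card F = q ^ 2) {t : ℕ} (d : Fin t → ℕ)
    (u : ((k : Fin t) × Fin (d k)) → F) (h : ∀ w, blockHerm hF d u w = 0) : u = 0 := by
  classical
  funext x
  have hinv : Function.Involutive (blockRev d) := fun x => by simp [blockRev]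
  have h1 := h (Pi.single (blockRev d x) 1)
  rw [blockHerm_apply, Finset.sum_eq_single x (fun y _ hy => by
    rw [Pi.single_eq_of_ne (fun h0 => hy (hinv.injective h0)), mul_zero]) (by simp), Pi.single_eq_same, mul_one] at h1
  exact (map_eq_zero (qPow hF)).1 h1

omit [Fact p.Prime] [CharP F p] in
/-- A skew multiple of the nilpotent shift is skew for the antidiagonal form. -/
theorem blockHerm_skew (hF : Fintype.card F = q ^ 2) {t : ℕ} (d : Fin t → ℕ) {δ : F} (hδ : qPow hF δ = -δ) (u w) :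
    blockHerm hF d ((δ • (jt F d - 1)) u) w = - blockHerm hF d u ((δ • (jt F d - 1)) w) := by
  have happ : ∀ v x, (δ • (jt F d - 1)) v x =
      δ * (jn F (d x.1) ^ 1) (fun b => v ⟨x.1, b⟩) x.2 := by
    rintro v ⟨k, a⟩
    rw [← jt_sub_pow_apply, pow_one]
    rfl
  rw [blockHerm_apply, blockHerm_apply, Fintype.sum_sigma, Fintype.sum_sigma, ← Finset.sum_neg_distrib]
  refine Finset.sum_congr rfl fun k _ => ?_
  simp only [happ, blockRev, jn_pow_apply, map_mul, hδ]
  generalize hf : (fun b => u ⟨k, b⟩) = f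
  generalize hg : (fun b => w ⟨k, b⟩) = g
  have hf' : ∀ b, u ⟨k, b⟩ = f b := fun b => congrFun hf b
  have hg' : ∀ b, w ⟨k, b⟩ = g b := fun b => congrFun hg b
  simp only [hf', hg']
  clear hf hg hf' hg' happ
  generalize d k = e at f g ⊢
  cases e with
  | zero => simp
  | succ e =>
    have hq : q ≠ 0 := by have := two_le_of_card hF; omega
    rw [Fin.sum_univ_succ, Fin.sum_univ_castSucc]
    simp [Fin.val_rev, zero_pow hq]
    refine Finset.sum_congr rfl fun x _ => ?_
    rw [if_pos (show 1 ≤ e - (x : ℕ) by omega)]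
    have e2 : ∀ h : e - (x : ℕ) - 1 < e + 1, (⟨e - (x : ℕ) - 1, h⟩ : Fin (e + 1)) = Fin.rev x.succ :=
      fun h => Fin.ext (by simp [Fin.val_rev]; omega)
    rw [e2, show (⟨(x : ℕ), _⟩ : Fin (e + 1)) = x.castSucc from rfl]
    ring

/-- An element of order `p` with prescribed block sizes and no nondegenerate invariant `m`-space. -/
theorem exists_no_nonDeg_char (hF : Fintype.card F = q ^ 2) {m : ℕ} {μ : Multiset ℕ}
    (hμ : ∀ a ∈ μ, 0 < a ∧ a ≤ p) (hμs : μ.sum = n) (hno : ∀ ν : Multiset ℕ, ν ≤ μ → ν.sum ≠ m) :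
    ∃ T : Module.End F (Fin n → F), (∀ u w, hermB hF n (T u) (T w) = hermB hF n u w) ∧ LinearMap.det T = 1 ∧
      T ^ p = 1 ∧ ∀ W : Submodule F (Fin n → F), Inv T W → NonDeg (hermB hF n) W → finrank F W ≠ m := by
  classical
  haveI : ExpChar F p := ExpChar.prime Fact.out
  set l := μ.toList
  let df : Fin l.length → ℕ := l.get
  have hmap : μ = (Finset.univ : Finset (Fin l.length)).val.map df := by
    rw [Fin.univ_val_map, List.ofFn_get, Multiset.coe_toList]
  have hrk : ∀ j, ∑ k, (df k - j) = CfsgLib.LinFix.blockRank μ j := fun j => by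
    conv_rhs => rw [hmap, CfsgLib.LinFix.blockRank, Multiset.map_map]
    rfl
  obtain ⟨δ, hδ0, hδ⟩ : ∃ δ : F, δ ≠ 0 ∧ qPow hF δ = -δ := by
    obtain ⟨a, ha⟩ := exists_qPow_ne hF
    exact ⟨a - qPow hF a, sub_ne_zero.2 (Ne.symm ha), by rw [map_sub, qPow_qPow, neg_sub]⟩
  set N := δ • (jt F df - 1) with hNdef
  have hrankN : ∀ j, finrank F (LinearMap.range (N ^ j)) = CfsgLib.LinFix.blockRank μ j := fun j => by
    rw [hNdef, _root_.smul_pow, LinearMap.range_smul _ _ (pow_ne_zero j hδ0), finrank_range_jt, hrk]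
  have hNp : N ^ p = 0 := by
    rw [← LinearMap.range_eq_bot, ← Submodule.finrank_eq_zero, hrankN, CfsgLib.LinFix.blockRank,
      Multiset.sum_eq_zero_iff]
    intro a ha
    obtain ⟨b, hb, rfl⟩ := Multiset.mem_map.1 ha
    have := (hμ b hb).2
    omega
  set B := blockHerm (F := F) hF df
  have hskew : ∀ u w, B (N u) w = - B u (N w) := blockHerm_skew hF df hδ
  -- the isometry
  obtain ⟨S, U, hSi, hSU, hcomm, hU⟩ : ∃ S U, (∀ u w, B (S u) (S w) = B u w) ∧ S - 1 = N * U ∧ Commute N U ∧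
      IsUnit U := by
    rcases eq_or_ne p 2 with rfl | hp2
    · refine ⟨1 + N, 1, fun u w => ?_, by rw [mul_one, add_sub_cancel_left], Commute.one_right N, isUnit_one⟩
      have h0 : N (N w) = 0 := by
        rw [← Module.End.mul_apply, ← pow_two, hNp, LinearMap.zero_apply]
      simp only [LinearMap.add_apply, Module.End.one_apply, map_add, hskew, h0, map_zero, neg_zero]
      abel
    · have h2 : (2 : F) ≠ 0 := Ring.two_ne_zero (by rw [ringChar.eq F p]; exact hp2)
      set g := ∑ k ∈ Finset.range p, N ^ k with hg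
      have hg1 : (1 - N) * g = 1 := by rw [hg, mul_neg_geom_sum, hNp, sub_zero]
      have hg2 : g * (1 - N) = 1 := by rw [hg, geom_sum_mul_neg, hNp, sub_zero]
      have hc : Commute N g := Commute.sum_right _ _ _ fun k _ => Commute.self_pow N k
      refine ⟨(1 + N) * g, (2 : F) • g, fun u w => ?_, ?_, hc.smul_right _, ?_⟩
      · have key : ∀ a b, B ((1 + N) a) ((1 + N) b) = B ((1 - N) a) ((1 - N) b) := fun a b => by
          simp only [LinearMap.add_apply, LinearMap.sub_apply, Module.End.one_apply, map_add, map_sub, hskew]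
          abel
        rw [Module.End.mul_apply, Module.End.mul_apply, key, ← Module.End.mul_apply, hg1, Module.End.one_apply,
          ← Module.End.mul_apply, hg1, Module.End.one_apply]
      · rw [mul_smul_comm, two_smul]
        conv_lhs => arg 2; rw [← hg1]
        rw [← sub_mul, ← add_mul]
        congr 1
        abel
      · refine (⟨(2 : F) • g, (2 : F)⁻¹ • (1 - N), ?_, ?_⟩ : (Module.End F _)ˣ).isUnit
        · rw [smul_mul_smul_comm, mul_inv_cancel₀ h2, one_smul, hg2]
        · rw [smul_mul_smul_comm, inv_mul_cancel₀ h2, one_smul, hg1]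
  have hrankS : ∀ j, finrank F (LinearMap.range ((S - 1) ^ j)) = CfsgLib.LinFix.blockRank μ j := fun j => by
    rw [hSU, hcomm.mul_pow, Module.End.mul_eq_comp, LinearMap.range_comp,
      LinearMap.range_eq_top.2 ((Module.End.isUnit_iff _).1 (hU.pow j)).2, Submodule.map_top, hrankN]
  have hSp : S ^ p = 1 := by
    rw [← sub_eq_zero, ← CfsgLib.LinFix.sub_one_pow_char, hSU, hcomm.mul_pow, hNp, zero_mul]
  -- transfer to the standard space
  have hfr : finrank F (((k : Fin l.length) × Fin (df k)) → F) = n := by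
    rw [Module.finrank_pi, Fintype.card_sigma, ← hμs, ← CfsgLib.LinFix.blockRank_zero, ← hrk 0]
    simp
  obtain ⟨b, hb, hb'⟩ := Forms.exists_orthonormal_family B (qPow_ne_id hF) (qPow_qPow hF) (blockHerm_symm hF df) n ⊤
    (by rw [finrank_top, hfr]) (fun x _ hx => blockHerm_nondeg hF df x fun w => hx w trivial)
  let e₀ : (Fin n → F) →ₗ[F] ((k : Fin l.length) × Fin (df k)) → F := Fintype.linearCombination F b
  have hval : ∀ x y, B (e₀ x) (e₀ y) = hermB hF n x y := fun x y => by
    simp only [e₀, Fintype.linearCombination_apply, map_sum, LinearMap.sum_apply, map_smulₛₗ, LinearMap.smul_apply,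
      smul_eq_mul, RingHom.id_apply, hb', mul_ite, mul_one, mul_zero, Finset.sum_ite_eq', Finset.mem_univ, if_true,
      hermB_apply, hermForm, qPow_apply]
  have hinj : Function.Injective e₀ := by
    rw [← LinearMap.ker_eq_bot, Submodule.eq_bot_iff]
    intro x hx
    refine hermB_nondeg hF x fun y => ?_
    rw [← hval, LinearMap.mem_ker.1 hx]
    simp
  let e := LinearEquiv.ofBijective e₀ ⟨hinj, (LinearMap.injective_iff_surjective_of_finrank_eq_finrank
    (by rw [hfr, Module.finrank_fintype_fun_eq_card, Fintype.card_fin])).1 hinj⟩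
  set T := e.symm.conjAlgEquiv F S with hTdef
  have hconj : ∀ (g : Module.End F (((k : Fin l.length) × Fin (df k)) → F)) x,
      e.symm.conjAlgEquiv F g x = e.symm (g (e x)) := fun g x => by simp
  have hTi : ∀ u w, hermB hF n (T u) (T w) = hermB hF n u w := fun u w => by
    rw [← hval, ← hval, hTdef, hconj, hconj]
    show B (e (e.symm (S (e u)))) (e (e.symm (S (e w)))) = B (e u) (e w)
    rw [e.apply_symm_apply, e.apply_symm_apply, hSi]
  have hTp : T ^ p = 1 := by rw [hTdef, ← map_pow, hSp, map_one]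
  have hdet : LinearMap.det T = 1 := by
    refine frobenius_inj F p ?_
    rw [frobenius_def, frobenius_def, ← map_pow, hTp, map_one, one_pow]
  have hrankT : ∀ j, finrank F (LinearMap.range ((T - 1) ^ j)) = CfsgLib.LinFix.blockRank μ j := fun j => by
    have h1 : (T - 1) ^ j = e.symm.conjAlgEquiv F ((S - 1) ^ j) := by rw [hTdef, map_pow, map_sub, map_one]
    have h2 : LinearMap.range ((T - 1) ^ j) = (LinearMap.range ((S - 1) ^ j)).map e.symm.toLinearMap := by
      ext y
      rw [h1]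
      constructor
      · rintro ⟨x, rfl⟩
        exact ⟨_, ⟨e x, rfl⟩, (hconj _ x).symm⟩
      · rintro ⟨_, ⟨x, rfl⟩, rfl⟩
        exact ⟨e.symm x, by rw [hconj, e.apply_symm_apply]; rfl⟩
    rw [h2, LinearEquiv.finrank_map_eq, hrankS]
  refine ⟨T, hTi, hdet, hTp, fun W hW hWnd hd => ?_⟩
  obtain ⟨-, -, hsup⟩ := (nonDeg_top hF).split (hermB_symm hF) hWnd le_top
  rw [top_inf_eq] at hsup
  obtain ⟨ν, hν, hνs⟩ := CfsgLib.LinFix.exists_sub_blocks hTp (fun a ha => (hμ a ha).1) hrankT hW
    (inv_orth_of_pow (Fact.out : p.Prime).pos hTp hTi hW)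
    ⟨disjoint_iff.2 (hWnd.inf_orth_eq_bot (hermB_symm hF)), codisjoint_iff.2 hsup⟩
  exact hno ν hν (hνs.trans hd)

end CfsgLib.PrimeFix.Herm
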