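import Mathlib

/-!
Arithmetic of the block decompositions used for invariant totally singular subspaces.
-/

set_option autoImplicit false

namespace CfsgLib.PrimeFix.OrthArith

/-- Enough room, blocks without pairing. -/
theorem success_unpaired {n i m δ : ℕ} (hi : 0 < i) (hnm : 2 * m + δ ≤ n) (hδ : δ ≤ 2)
    (hcond : i ≤ m ∧ (2 * (m % i) + δ ≤ n % (2 * i) ∨ (n % (2 * i) = 0 ∧ δ = 2))) {a : ℕ} (ha : Even a)
    (han : a * i + δ ≤ n) :
    ∃ j, j * i ≤ m ∧ (j = 0 ∨ 2 * j + 0 ≤ a + 1) ∧ 2 * (m - j * i) + δ + a * i ≤ n := by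
  obtain ⟨A, rfl⟩ := ha
  obtain ⟨him, hc⟩ := hcond
  have hm := Nat.div_add_mod m i
  have hn := Nat.div_add_mod n (2 * i)
  have hml := Nat.mod_lt m hi
  set M := m / i
  set N := n / (2 * i)
  set l := m % i
  set k := n % (2 * i)
  rw [add_mul] at han
  by_cases hAM : A < M
  · refine ⟨A, ?_, Or.inr (by omega), ?_⟩
    · have := Nat.mul_le_mul_right i hAM.le
      rw [mul_comm i M] at hm
      omega
    · rw [add_mul]
      have := Nat.mul_le_mul_right i hAM.le
      rw [mul_comm i M] at hm
      omega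
  · refine ⟨M, by rw [mul_comm]; omega, Or.inr (by omega), ?_⟩
    rw [show m - M * i = l by rw [mul_comm]; omega, add_mul]
    rcases hc with hc | ⟨hk, hδ2⟩
    · have hAN : A ≤ N := by
        by_contra h
        have h1 : (N + 1) * i ≤ A * i := Nat.mul_le_mul_right i (by omega)
        have := Nat.mod_lt n (show 2 * i > 0 by omega)
        rw [add_mul, one_mul] at h1
        rw [mul_assoc, mul_comm i N] at hn
        omega
      have := Nat.mul_le_mul_right i hAN
      rw [mul_assoc, mul_comm i N] at hn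
      omega
    · have hAN : A < N := by
        by_contra h
        have h1 : N * i ≤ A * i := Nat.mul_le_mul_right i (by omega)
        rw [mul_assoc, mul_comm i N] at hn
        omega
      have h1 : (A + 1) * i ≤ N * i := Nat.mul_le_mul_right i hAN
      rw [add_mul, one_mul] at h1
      rw [mul_assoc, mul_comm i N] at hn
      omega

/-- Too little room, blocks without pairing. -/
theorem fail_unpaired {n i m δ : ℕ} (hi : 0 < i) (hnm : 2 * m + δ ≤ n)
    (hlarge : m < i → n % (2 * i) < 2 * m + δ ∧ 2 * i ≤ n ∧ (δ = 2 → n % (2 * i) ≠ 0))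
    (hcond : ¬(i ≤ m ∧ (2 * (m % i) + δ ≤ n % (2 * i) ∨ (n % (2 * i) = 0 ∧ δ = 2))))
    (hpar : δ ≤ 1 ∧ n % 2 = δ ∨ δ = 2 ∧ n % 2 = 0) :
    ∃ A, 0 < A ∧ A * (2 * i) + δ ≤ n ∧ ∀ j e, m = e + j * i → ¬ 2 * e + δ + A * (2 * i) ≤ n := by
  have hn := Nat.div_add_mod n (2 * i)
  have hk := Nat.mod_lt n (show 2 * i > 0 by omega)
  have hml := Nat.mod_lt m hi
  have hk2 : n % (2 * i) % 2 = n % 2 := Nat.mod_mul_right_mod n 2 i
  have hN : 0 < n / (2 * i) := by
    refine Nat.div_pos ?_ (by omega)
    by_cases him : i ≤ m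
    · omega
    · exact (hlarge (by omega)).2.1
  rw [mul_comm (2 * i) (n / (2 * i))] at hn
  refine ⟨n / (2 * i), hN, ?_, fun j e hje => ?_⟩
  · by_cases him : i ≤ m
    · push Not at hcond
      have := hcond him
      omega
    · have := hlarge (by omega)
      omega
  · intro hle
    have he : e < i := by omega
    have hl : m % i = e := by rw [hje, Nat.add_mul_mod_self_right, Nat.mod_eq_of_lt he]
    by_cases him : i ≤ m
    · push Not at hcond
      have := (hcond him).1
      omega
    · have h1 := (hlarge (by omega)).1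
      rw [Nat.mod_eq_of_lt (by omega)] at hl
      omega

/-- Enough room, paired blocks. -/
theorem success_paired {n i m t : ℕ} {δ : ℕ → ℕ} (hi : 2 ≤ i) (hδ : ∀ a, δ a + δ (a + 1) = 2)
    (ht : t + 2 * (m / i) ≤ n / i)
    (hcond : (2 * (m % i) ≤ i ∧ n % i = 0 ∧ δ (n / i) = 2 ∧ t + 2 * (m / i) < n / i) ∨
      2 * (m % i) + δ (n / i) ≤ n % i)
    {a : ℕ} (han : a * i + δ a ≤ n) :
    ∃ j, j * i ≤ m ∧ (j = 0 ∨ 2 * j + t ≤ a + 1) ∧ 2 * (m - j * i) + δ a + a * i ≤ n := by
  have hm := Nat.div_add_mod m i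
  have hn := Nat.div_add_mod n i
  have hml := Nat.mod_lt m (show i > 0 by omega)
  have hnk := Nat.mod_lt n (show i > 0 by omega)
  have hper : ∀ a u, δ (a + 2 * u) = δ a := fun a u => by
    induction u with
    | zero => rfl
    | succ u ih =>
      have h1 := hδ (a + 2 * u)
      have h2 := hδ (a + 2 * u + 1)
      rw [show a + 2 * (u + 1) = a + 2 * u + 1 + 1 by ring]
      omega
  have hle2 : ∀ a, δ a ≤ 2 := fun a => by have := hδ a; omega
  set M := m / i
  set N := n / i
  set l := m % i
  set k := n % i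
  rw [mul_comm i M] at hm
  rw [mul_comm i N] at hn
  have haN : a ≤ N := by
    by_contra h
    have h1 : (N + 1) * i ≤ a * i := Nat.mul_le_mul_right i (by omega)
    rw [add_mul, one_mul] at h1
    omega
  have hd2 := hle2 a
  set j := min ((a + 1 - t) / 2) M with hj
  refine ⟨j, ?_, by omega, ?_⟩
  · have := Nat.mul_le_mul_right i (min_le_right ((a + 1 - t) / 2) M)
    rw [← hj] at this
    omega
  obtain ⟨u, hu⟩ : ∃ u, M = j + u := ⟨M - j, by omega⟩
  have hmj : m - j * i = u * i + l := by
    rw [hu, add_mul] at hm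
    omega
  rw [hmj]
  obtain ⟨g, hg⟩ : ∃ g, N = a + 2 * u + g := ⟨N - a - 2 * u, by omega⟩
  have hNi : N * i = a * i + 2 * (u * i) + g * i := by rw [hg]; ring
  rcases (by omega : 2 ≤ g ∨ g = 1 ∨ g = 0) with hg2 | rfl | rfl
  · have : 2 * i ≤ g * i := Nat.mul_le_mul_right i hg2
    omega
  · rw [one_mul] at hNi
    have h1 := hδ (a + 2 * u)
    rw [hper, ← hg] at h1
    rcases hcond with hc | hc <;> omega
  · rw [zero_mul] at hNi
    have h1 : δ N = δ a := by rw [hg, add_zero, hper]
    rcases hcond with hc | hc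
    · exfalso
      by_cases hu0 : u = 0
      · subst hu0
        have h2 : a = N := by omega
        rw [h2] at han
        omega
      · omega
    · omega

/-- Too little room, paired blocks. -/
theorem fail_paired {n i m t : ℕ} {δ : ℕ → ℕ} (hi : 2 ≤ i) (ht : 0 < t) (hδ : ∀ a, δ a + δ (a + 1) = 2)
    (hpar : ∀ a, δ a % 2 = n % 2) (hie : Even i) (hnm : 2 * m ≤ n)
    (hlarge : m < i → i ≤ n ∧ n % i < 2 * m + δ (n / i) ∧
      (n % i = 0 → δ (n / i) = 2 → i < 2 * m ∧ 2 * i ≤ n))
    (hcond : ¬(i ≤ m ∧ t + 2 * (m / i) ≤ n / i ∧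
      ((2 * (m % i) ≤ i ∧ n % i = 0 ∧ δ (n / i) = 2 ∧ t + 2 * (m / i) < n / i) ∨
        2 * (m % i) + δ (n / i) ≤ n % i))) :
    ∃ a, 0 < a ∧ a * i + δ a ≤ n ∧ ∀ j e, m = e + j * i →
      2 * j ≤ a - (if a ≤ t then a else t - 1) → ¬ 2 * e + δ a + a * i ≤ n := by
  have hm := Nat.div_add_mod m i
  have hn := Nat.div_add_mod n i
  have hml := Nat.mod_lt m (show i > 0 by omega)
  have hnk := Nat.mod_lt n (show i > 0 by omega)
  obtain ⟨h, hh⟩ := hie
  have hk2 : n % i % 2 = n % 2 := Nat.mod_mod_of_dvd n ⟨h, by omega⟩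
  have hle2 : ∀ a, δ a ≤ 2 := fun a => by have := hδ a; omega
  have hpred : ∀ a, 0 < a → δ (a - 1) + δ a = 2 := fun a ha => by
    have := hδ (a - 1)
    rwa [Nat.sub_add_cancel ha] at this
  set M := m / i
  set N := n / i
  set l := m % i
  set k := n % i
  rw [mul_comm i M] at hm
  rw [mul_comm i N] at hn
  -- the shape of a solution with few blocks
  have hsmall : ∀ j e, m = e + j * i → e < i → j = M ∧ e = l := fun j e hje he => by
    refine ⟨?_, ?_⟩
    · show j = m / i
      rw [hje, Nat.add_mul_div_right _ _ (by omega), Nat.div_eq_of_lt he, zero_add]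
    · show e = m % i
      rw [hje, Nat.add_mul_mod_self_right, Nat.mod_eq_of_lt he]
  have hpN := hpar N
  have hNpos : 0 < N := by
    refine Nat.div_pos ?_ (by omega)
    by_cases him : i ≤ m
    · omega
    · exact (hlarge (by omega)).1
  have hN2 : k = 0 → δ N = 2 → 2 ≤ N := fun hk hd => by
    refine (Nat.le_div_iff_mul_le (by omega)).2 ?_
    by_cases him : i ≤ m
    · omega
    · exact ((hlarge (by omega)).2.2 hk hd).2
  by_cases hfew : i ≤ m ∧ N < t + 2 * M
  · -- few pairs
    obtain ⟨him, hfew⟩ := hfew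
    have hMpos : 0 < M := Nat.div_pos him (by omega)
    have hN2' : 2 ≤ N := by
      refine (Nat.le_div_iff_mul_le (by omega)).2 ?_
      omega
    set a := if (t < N ∧ ¬ 2 ∣ N - t) ∨ (k = 0 ∧ δ N = 2) then N - 1 else N with hadef
    have haN : a ≤ N ∧ N ≤ a + 1 ∧ 0 < a := by rw [hadef]; split_ifs <;> omega
    have hfeas : a * i + δ a ≤ n := by
      rw [hadef]
      split_ifs with hc
      · have := hle2 (N - 1)
        rw [Nat.sub_mul, one_mul]
        have : i ≤ N * i := Nat.le_mul_of_pos_left i hNpos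
        omega
      · have := hle2 N
        omega
    refine ⟨a, haN.2.2, hfeas, fun j e hje hj hle => ?_⟩
    have hjM : j < M := by
      rw [hadef] at hj
      split_ifs at hj <;> omega
    have h1 : (j + 1) * i ≤ M * i := Nat.mul_le_mul_right i hjM
    have h2 : N * i ≤ (a + 1) * i := Nat.mul_le_mul_right i haN.2.1
    rw [add_mul, one_mul] at h1 h2
    omega
  by_cases hbad : k = 0 ∧ δ N = 2
  · obtain ⟨hk, hd⟩ := hbad
    have hN := hN2 hk hd
    by_cases hbig : i < 2 * l
    · -- one block less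
      have hd1 := hpred N hNpos
      refine ⟨N - 1, by omega, ?_, fun j e hje _ hle => ?_⟩ <;>
        rw [Nat.sub_mul, one_mul] at * <;> have : i ≤ N * i := Nat.le_mul_of_pos_left i hNpos
      · omega
      · have := hsmall j e hje (by omega)
        omega
    · -- two blocks less
      have him : i ≤ m := by
        by_contra him
        have := ((hlarge (by omega)).2.2 hk hd).1
        have : l = m := Nat.mod_eq_of_lt (by omega)
        omega
      have hMpos : 0 < M := Nat.div_pos him (by omega)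
      have hN' : N = t + 2 * M := by
        push Not at hfew hcond
        have h1 := hfew him
        have h2 := (hcond him h1).1 (by omega) hk hd
        omega
      have hd1 := hpred N hNpos
      have hd2 := hpred (N - 1) (by omega)
      rw [show N - 1 - 1 = N - 2 by omega] at hd2
      refine ⟨N - 2, by omega, ?_, fun j e hje hj hle => ?_⟩
      · rw [Nat.sub_mul]
        have : 2 * i ≤ N * i := Nat.mul_le_mul_right i hN
        omega
      · rw [Nat.sub_mul] at hle
        have : 2 * i ≤ N * i := Nat.mul_le_mul_right i hN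
        have hjM : j < M := by split_ifs at hj <;> omega
        have h1 : (j + 1) * i ≤ M * i := Nat.mul_le_mul_right i hjM
        rw [add_mul, one_mul] at h1
        omega
  · -- all blocks
    have hkd : δ N ≤ k := by
      have := hle2 N
      omega
    refine ⟨N, hNpos, by omega, fun j e hje _ hle => ?_⟩
    have := hsmall j e hje (by omega)
    by_cases him : i ≤ m
    · push Not at hfew hcond
      have := (hcond him (hfew him)).2
      omega
    · have h1 := (hlarge (by omega)).2.1
      have : l = m := Nat.mod_eq_of_lt (by omega)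
      omega

end CfsgLib.PrimeFix.OrthArith
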