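import Mathlib
import Cfsg.Agent.Lib.PrimeFix.OrthArith
import Cfsg.Agent.Lib.PrimeFix.OrthModel
import Cfsg.Agent.Lib.PrimeFix.OrthCount

/-!
The criterion for invariant totally singular subspaces of every element of a given odd prime order.
-/

set_option autoImplicit false

namespace CfsgLib.PrimeFix.Quad

open Module QuadraticMap
open CfsgLib.Classical.Quad (NDPolar)
open CfsgLib.RootCount (IsPlus)

/-- The defect alternating with the parity of the number of blocks. -/
def altDefect (δ a : ℕ) : ℕ := if a % 2 = 0 then δ else 2 - δ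

theorem altDefect_add {δ : ℕ} (hδ : δ ≤ 2) (a : ℕ) : altDefect δ a + altDefect δ (a + 1) = 2 := by
  unfold altDefect; split_ifs <;> omega

/-- Every element of the given prime order has an invariant totally singular subspace of dimension `m`. -/
def Crit (n δ i t m : ℕ) : Prop :=
  i ≤ m ∧ ((Odd i ∧ (2 * (m % i) + δ ≤ n % (2 * i) ∨ (n % (2 * i) = 0 ∧ δ = 2))) ∨
    (Even i ∧ t + 2 * (m / i) ≤ n / i ∧
      ((2 * (m % i) ≤ i ∧ n % i = 0 ∧ altDefect δ (n / i) = 2 ∧ t + 2 * (m / i) < n / i) ∨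
        2 * (m % i) + altDefect δ (n / i) ≤ n % i)))

/-- The consequences of a prime dividing the count, for odd order. -/
theorem large_odd {n K δ i m s : ℕ} (hn : n = 2 * K + δ) (hδ : δ ≤ 2) (hs : s < m) (hmK : m ≤ K) (hd : i ∣ K - s)
    (him : m < i) : n % (2 * i) < 2 * m + δ ∧ 2 * i ≤ n ∧ (δ = 2 → n % (2 * i) ≠ 0) := by
  obtain ⟨u, hu⟩ := hd
  have hupos : 0 < u := by
    rcases Nat.eq_zero_or_pos u with rfl | h
    · omega
    · exact h
  have hiu : i ≤ i * u := Nat.le_mul_of_pos_right i hupos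
  have hk : n % (2 * i) = 2 * s + δ := by
    rw [hn, show 2 * K + δ = (2 * s + δ) + 2 * i * u by rw [mul_assoc]; omega, Nat.add_mul_mod_self_left,
      Nat.mod_eq_of_lt (by omega)]
  omega

/-- The consequences of a prime dividing the count, for even order. -/
theorem large_even {n K δ h m s : ℕ} (hn : n = 2 * K + δ) (hδ : δ ≤ 2) (hs : s < m) (hmK : m ≤ K)
    (hKδ : m < K ∨ δ ≠ 0)
    (hd : 2 * h ∣ K - s ∨ ∃ v, K - s - 1 + δ = h * (2 * v + 1)) (him : m < 2 * h) :
    2 * h ≤ n ∧ n % (2 * h) < 2 * m + altDefect δ (n / (2 * h)) ∧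
      (n % (2 * h) = 0 → altDefect δ (n / (2 * h)) = 2 → 2 * h < 2 * m ∧ 2 * (2 * h) ≤ n) := by
  obtain ⟨N, R, hnNR, hR, hN0⟩ : ∃ N R, n = R + 2 * h * N ∧ R < 4 * h ∧ 0 < N ∧
      ((N % 2 = 0 ∧ R = 2 * s + δ) ∨ (N % 2 = 1 ∧ R + δ = 2 * s + 2)) := by
    rcases hd with ⟨u, hu⟩ | ⟨v, hv⟩
    · refine ⟨2 * u, 2 * s + δ, ?_, by omega, ?_, Or.inl ⟨by omega, rfl⟩⟩
      · rw [mul_left_comm]; omega
      · rcases Nat.eq_zero_or_pos u with rfl | hu0
        · omega
        · omega
    · refine ⟨2 * v + 1, 2 * s + 2 - δ, ?_, by omega, by omega, Or.inr ⟨by omega, by omega⟩⟩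
      rw [mul_assoc, ← hv]; omega
  obtain ⟨hN0, hcase⟩ := hN0
  have hkey : (R < 2 * h ∧ n % (2 * h) = R ∧ n / (2 * h) = N) ∨
      (2 * h ≤ R ∧ n % (2 * h) = R - 2 * h ∧ n / (2 * h) = N + 1) := by
    rcases Nat.lt_or_ge R (2 * h) with h' | h'
    · exact Or.inl ⟨h', by rw [hnNR, Nat.add_mul_mod_self_left, Nat.mod_eq_of_lt h'],
        by rw [hnNR, Nat.add_mul_div_left _ _ (by omega), Nat.div_eq_of_lt h', zero_add]⟩
    · have e : n = (R - 2 * h) + 2 * h * (N + 1) := by rw [hnNR, mul_add]; omega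
      exact Or.inr ⟨h', by rw [e, Nat.add_mul_mod_self_left, Nat.mod_eq_of_lt (by omega)],
        by rw [e, Nat.add_mul_div_left _ _ (by omega), Nat.div_eq_of_lt (by omega), zero_add]⟩
  have h1 : 2 * h ≤ 2 * h * N := Nat.le_mul_of_pos_right _ hN0
  rcases hkey with ⟨hlt, hk, hq⟩ | ⟨hge, hk, hq⟩ <;> rw [hk, hq] <;> unfold altDefect <;>
    refine ⟨by omega, ?_, fun h0 hd2 => ?_⟩
  · split_ifs <;> omega
  · split_ifs at hd2 <;> omega
  · split_ifs <;> omega
  · split_ifs at hd2 <;> omega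

variable {F : Type*} [Field F] [Fintype F] {r : ℕ} [hr : Fact r.Prime]
variable {V : Type*} [AddCommGroup V] [Module F V] [FiniteDimensional F V] {Q : QuadraticForm F V}

omit [Fintype F] in
theorem fixDefect_eq_odd {i : ℕ} (hio : Odd i) (a : ℕ) : fixDefect Q i a = defect Q := by
  by_cases hn : Odd (finrank F V)
  · rw [defect_of_odd hn, fixDefect, if_pos hn]
  · rw [fixDefect, if_neg hn, if_pos hio]

omit [Fintype F] in
theorem fixDefect_eq_even {i : ℕ} (hie : Even i) (a : ℕ) : fixDefect Q i a = altDefect (defect Q) a := by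
  unfold altDefect
  by_cases hn : Odd (finrank F V)
  · rw [defect_of_odd hn, fixDefect, if_pos hn]; split_ifs <;> rfl
  · rw [fixDefect, if_neg hn, if_neg (Nat.not_odd_iff_even.2 hie), defect, if_neg hn]
    by_cases hp : IsPlus Q <;> simp only [hp, if_true, if_false, true_iff, false_iff, Nat.even_iff] <;>
      split_ifs <;> omega

/-- Sufficiency. -/
theorem exists_of_crit {p : ℕ} [Fact p.Prime] [CharP F p] (hrp : r ≠ p) (hr2 : r ≠ 2) (hnd : NDPolar Q)
    (T : Module.End F V) (hT : ∀ v, Q (T v) = Q v) (hTr : T ^ r = 1) {m i : ℕ}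
    (hi : i = orderOf (Fintype.card F : ZMod r)) (hm : 2 * m + defect Q ≤ finrank F V)
    (hcrit : Crit (finrank F V) (defect Q) i ((r - 1) / i) m) :
    ∃ W : Submodule F V, finrank F W = m ∧ TotSing Q W ∧ ∀ w ∈ W, T w ∈ W := by
  have hrF : (r : F) ≠ 0 := CfsgLib.LinFix.natCast_ne_zero_of_ne hrp
  have hipos : 0 < i := hi ▸ ord_pos hrF
  obtain ⟨him, hc⟩ := hcrit
  refine exists_inv_singular (p := p) hrp hr2 hnd T hT hTr hi fun a han hev => ?_
  rcases hc with ⟨hio, hc⟩ | ⟨hie, ht, hc⟩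
  · rw [fixDefect_eq_odd hio] at han ⊢
    rw [if_neg (Nat.not_even_iff_odd.2 hio)]
    have haev : Even a := hev hio
    exact OrthArith.success_unpaired hipos hm (defect_le_two Q) ⟨him, hc⟩ haev han
  · simp only [fixDefect_eq_even hie] at han ⊢
    rw [if_pos hie]
    obtain ⟨h, hh⟩ := hie
    exact OrthArith.success_paired (by omega) (altDefect_add (defect_le_two Q)) ht hc han

/-- Necessity. -/
theorem exists_witness {p : ℕ} [Fact p.Prime] [CharP F p] (hrp : r ≠ p) (hr2 : r ≠ 2) (hnd : NDPolar Q)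
    (h2 : Odd (finrank F V) → (2 : F) ≠ 0) {m i K : ℕ} (hK : finrank F V = 2 * K + defect Q)
    (hi : i = orderOf (Fintype.card F : ZMod r)) (hmK : m ≤ K) (hKδ : m < K ∨ defect Q ≠ 0)
    (hdvd : r ∣ Nat.card {W : Submodule F V // finrank F ↥W = m ∧ TotSing Q W})
    (hcrit : ¬ Crit (finrank F V) (defect Q) i ((r - 1) / i) m) :
    ∃ T : Module.End F V, (∀ v, Q (T v) = Q v) ∧ T ^ r = 1 ∧ (∀ c : F, ∃ v, T v ≠ c • v) ∧
      ∀ U : Submodule F V, (∀ w ∈ U, T w ∈ U) → TotSing Q U → finrank F U ≠ m := by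
  have hrF : (r : F) ≠ 0 := CfsgLib.LinFix.natCast_ne_zero_of_ne hrp
  have hipos : 0 < i := hi ▸ ord_pos hrF
  have : Fact (2 < r) := ⟨lt_of_le_of_ne hr.out.two_le (Ne.symm hr2)⟩
  have hδ := defect_le_two Q
  obtain ⟨s, hs, hpow⟩ := exists_pow_eq (r := r) hnd hK hmK hdvd
  set n := finrank F V
  rcases Nat.even_or_odd i with hie | hio
  · obtain ⟨h, hh⟩ := hie
    have hhalf : (Fintype.card F : ZMod r) ^ h = -1 := by
      have hsq : ((Fintype.card F : ZMod r) ^ h) * ((Fintype.card F : ZMod r) ^ h) = 1 := by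
        rw [← pow_add, ← hh, hi, pow_orderOf_eq_one]
      rcases mul_self_eq_one_iff.1 hsq with h1 | h1
      · have := Nat.le_of_dvd (by omega) (orderOf_dvd_of_pow_eq_one h1); omega
      · exact h1
    have hd' : 2 * h ∣ K - s ∨ ∃ v, K - s - 1 + defect Q = h * (2 * v + 1) := by
      rcases hpow with h1 | h1
      · left
        rw [two_mul, ← hh, hi]
        exact orderOf_dvd_of_pow_eq_one h1
      · right
        generalize K - s - 1 + defect Q = E at h1 ⊢
        have h2e : 2 * h ∣ E * 2 := by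
          rw [two_mul, ← hh, hi]
          exact orderOf_dvd_of_pow_eq_one (by rw [pow_mul, h1, neg_one_sq])
        obtain ⟨w, hw⟩ : h ∣ E := Nat.dvd_of_mul_dvd_mul_left two_pos (by rwa [mul_comm E 2] at h2e)
        refine ⟨w / 2, ?_⟩
        have hwodd : Odd w := by
          by_contra hwe
          rw [hw, pow_mul, hhalf, (Nat.not_odd_iff_even.1 hwe).neg_one_pow] at h1
          exact ZMod.neg_one_ne_one h1.symm
        rw [Nat.two_mul_div_two_add_one_of_odd hwodd]; exact hw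
    set t := (r - 1) / i with ht
    have htpos : 0 < t := by
      refine Nat.div_pos ?_ hipos
      refine Nat.le_of_dvd (by have := hr.out.two_le; omega) (hi ▸ orderOf_dvd_of_pow_eq_one ?_)
      exact ZMod.pow_card_sub_one_eq_one (cast_card_ne_zero hrF)
    obtain ⟨a, ha, hfeas, hbad⟩ := OrthArith.fail_paired (n := n) (i := i) (m := m) (t := t)
      (δ := altDefect (defect Q)) (by omega) htpos (altDefect_add hδ)
      (fun a => by unfold altDefect; split_ifs <;> omega) ⟨h, hh⟩ (by omega)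
      (fun him => by
        have := large_even (n := n) hK hδ hs hmK hKδ hd' (by omega)
        rw [show i = 2 * h by omega]
        exact this)
      (fun hc => hcrit ⟨hc.1, Or.inr ⟨⟨h, hh⟩, hc.2⟩⟩)
    obtain ⟨T, hT, hTr, hTns, hTU⟩ := exists_bad_even hrF hr2 hnd h2 ha hi ⟨h, hh⟩
      (δ := altDefect (defect Q) a) (fixDefect_eq_even ⟨h, hh⟩ a).symm hfeas
    refine ⟨T, hT, hTr, hTns, fun U hU hsing hdU => ?_⟩
    obtain ⟨e, j, hej, hle, hj⟩ := hTU U hU hsing
    exact hbad j e (hdU ▸ hej) hj hle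
  · obtain ⟨A, hA, hfeas, hbad⟩ := OrthArith.fail_unpaired (n := n) (i := i) (m := m) (δ := defect Q) hipos
      (by omega) (fun him => by
        refine large_odd hK hδ hs hmK ?_ him
        rcases hpow with h1 | h1
        · exact hi ▸ orderOf_dvd_of_pow_eq_one h1
        · exfalso
          generalize K - s - 1 + defect Q = E at h1
          have hdvdE : i ∣ E := (Nat.Coprime.dvd_mul_right hio.coprime_two_right).1
            (hi ▸ orderOf_dvd_of_pow_eq_one (by rw [pow_mul, h1, neg_one_sq]))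
          rw [orderOf_dvd_iff_pow_eq_one.1 (hi ▸ hdvdE)] at h1
          exact ZMod.neg_one_ne_one h1.symm)
      (fun hc => hcrit ⟨hc.1, Or.inl ⟨hio, hc.2⟩⟩)
      (by omega)
    obtain ⟨T, hT, hTr, hTns, hTU⟩ := exists_bad_odd hrF hr2 hnd h2 hA hi hio
      (δ := defect Q) (fixDefect_eq_odd hio (2 * A)).symm hfeas
    refine ⟨T, hT, hTr, hTns, fun U hU hsing hdU => ?_⟩
    obtain ⟨e, j, hej, hle⟩ := hTU U hU hsing
    exact hbad j e (hdU ▸ hej) hle

end CfsgLib.PrimeFix.Quad
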