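import Mathlib
import Cfsg.Prelude
import Cfsg.Agent.Lib.PrimeFix.SplitFix
import Cfsg.Agent.Lib.PrimeFix.Symp
import Cfsg.Agent.Lib.PrimeFix.SympModel
import Cfsg.Agent.Lib.SympGeom.Basic

/-!
Nondegenerate invariant subspaces of isometries of prime order of the standard symplectic space, hyperbolic frames
and the primes dividing the number of nondegenerate subspaces of given dimension.
-/

set_option autoImplicit false

namespace CfsgLib.PrimeFix.Symp

open Module Polynomial Cfsg CfsgLib.Linear.Symp CfsgLib.SympGeom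

variable {F : Type*} [Field F] {d : ℕ}

theorem sympBilin_symm (u w : Fin d ⊕ Fin d → F) :
    sympBilin d F w u = (-1 : F) * (RingHom.id F) (sympBilin d F u w) := by
  simp only [sympBilin_apply, RingHom.id_apply, neg_one_mul]
  exact form_swap u w

theorem nonDeg_top : NonDeg (sympBilin d F) (⊤ : Submodule F (Fin d ⊕ Fin d → F)) :=
  fun _ _ h => eq_zero_of_forall_form fun w => h w trivial

theorem isometry_pow {T : Module.End F (Fin d ⊕ Fin d → F)}
    (hT : ∀ u w, sympBilin d F (T u) (T w) = sympBilin d F u w) :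
    ∀ (k : ℕ) u w, sympBilin d F ((T ^ k) u) ((T ^ k) w) = sympBilin d F u w := fun k => by
  induction k with
  | zero => intro u w; rfl
  | succ k ih => intro u w; rw [pow_succ', Module.End.mul_apply, Module.End.mul_apply, hT, ih]

/-- One-dimensional subspaces are totally isotropic. -/
theorem isotropic_of_finrank_one (C : Submodule F (Fin d ⊕ Fin d → F)) (hC : finrank F C = 1) :
    Isotropic (sympBilin d F) C := by
  intro u hu w hw
  obtain ⟨v, -, hv⟩ := finrank_eq_one_iff'.1 hC
  obtain ⟨a, ha⟩ := hv ⟨u, hu⟩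
  obtain ⟨b, hb⟩ := hv ⟨w, hw⟩
  have ha' : u = a • (v : Fin d ⊕ Fin d → F) := (congrArg Subtype.val ha).symm
  have hb' : w = b • (v : Fin d ⊕ Fin d → F) := (congrArg Subtype.val hb).symm
  rw [ha', hb', sympBilin_apply, form_smul_left, form_smul_right, form_self, mul_zero, mul_zero]

/-- Nondegenerate subspaces of all even dimensions inside a nondegenerate subspace. -/
theorem exists_sub {W : Submodule F (Fin d ⊕ Fin d → F)} (hW : NonDeg (sympBilin d F) W) :
    ∀ j, 2 * j ≤ finrank F W → ∃ U, U ≤ W ∧ NonDeg (sympBilin d F) U ∧ finrank F U = 2 * j := by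
  intro j hj
  have hA : Atoms (1 : Module.End F (Fin d ⊕ Fin d → F)) W 1 := fun U _ _ hU0 => by
    obtain ⟨v, hv, hv0⟩ := Submodule.exists_mem_ne_zero_of_ne_bot hU0
    exact ⟨F ∙ v, (Submodule.span_singleton_le_iff_mem _ _).2 hv, fun w hw => hw, finrank_span_singleton hv0⟩
  have h1 : ((1 : ℕ) : F) ≠ 0 := by rw [Nat.cast_one]; exact one_ne_zero
  have hU := hasUnit_two_mul (B := sympBilin d F) (k := 1) h1 (pow_one _) (fun _ _ => rfl) sympBilin_symm one_pos hA
    fun C _ _ hC => isotropic_of_finrank_one C hC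
  obtain ⟨U, hUW, -, hUnd, hdU⟩ := hU.exists_nonDeg h1 (pow_one _) (fun _ _ => rfl) sympBilin_symm
    (fun w hw => hw) hW j (by omega)
  exact ⟨U, hUW, hUnd, by omega⟩

/-- Nondegenerate subspaces have even dimension. -/
theorem even_finrank {W : Submodule F (Fin d ⊕ Fin d → F)} (hW : NonDeg (sympBilin d F) W) :
    Even (finrank F W) := (exists_isotropic_alt sympBilin_alt W hW).1

section Fpf

variable [Fintype F] {r : ℕ} [hr : Fact r.Prime] {p : ℕ} [Fact p.Prime] [CharP F p]

/-- The unit dimension `c`: the order `i` when even, twice the order otherwise. -/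
theorem hasUnit_fpf (hrp : r ≠ p) (hr2 : r ≠ 2) {T : Module.End F (Fin d ⊕ Fin d → F)}
    (hT : ∀ u w, sympBilin d F (T u) (T w) = sympBilin d F u w) (hTr : T ^ r = 1)
    {W : Submodule F (Fin d ⊕ Fin d → F)} (hW : Inv T W) (hfree : Fpf T W) {i : ℕ}
    (hi : i = orderOf (Fintype.card F : ZMod r)) :
    HasUnit (sympBilin d F) T W (if Even i then i else 2 * i) := by
  have hrF : (r : F) ≠ 0 := CfsgLib.LinFix.natCast_ne_zero_of_ne hrp
  haveI : ExpChar F p := ExpChar.prime Fact.out
  obtain ⟨G, hG, -⟩ := exists_kinds_cyclotomic hrF hTr hW hfree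
  rw [← hi] at hG
  have hipos : 0 < i := hi ▸ ord_pos hrF
  have hord : (Fintype.card F : ZMod r) ^ i = 1 := hi ▸ pow_orderOf_eq_one _
  split_ifs with he
  · obtain ⟨h, hh⟩ := he
    obtain ⟨k, -, hk⟩ := FiniteField.card F p
    have hqh : (Fintype.card F : ZMod r) ^ h = -1 := by
      refine (mul_self_eq_one_iff.1 (by rw [← pow_add, ← hh, hord])).resolve_left fun h2 => ?_
      have := Nat.le_of_dvd (by omega) (hi ▸ orderOf_dvd_of_pow_eq_one h2)
      omega
    refine hasUnit_paired (p := p) (e := k * h) (fun c => ?_) ?_ hT sympBilin_symm hG ?_ hipos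
    · rw [pow_mul p, ← hk, RingHom.id_apply, FiniteField.pow_card_pow]
    · refine pow_eq_one_of_cast hTr ?_
      rw [pow_mul p, ← hk, Nat.cast_add, Nat.cast_pow, Nat.cast_one, hqh, neg_add_cancel]
    · rw [pow_mul p, ← hk, ← pow_add, ← hh]
  · have hio : Odd i := Nat.not_even_iff_odd.1 he
    refine hasUnit_two_mul (k := r) hrF hTr hT sympBilin_symm hipos hG.atoms fun C hCW hC hdC => ?_
    have hC0 : C ≠ ⊥ := fun h => by rw [h, finrank_bot] at hdC; omega
    obtain ⟨g, hg, v, hv, hv0, hgv, hdv⟩ := hG.exists_cyc hCW hC hC0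
    have hCeq : cyc T v = C := Submodule.eq_of_le_of_finrank_le (cyc_le hC hv) (by rw [hdv, hdC])
    rw [← hCeq]
    refine isotropic_of_unpaired p 0 (fun c => by simp) (by simp) hTr hT (fun l h => ?_)
      (hG.monic g hg) (hG.irr g hg) hgv (fun h => hv0 (hfree v (hCW hv) h))
    have h1 : (Fintype.card F : ZMod r) ^ l = -1 := by
      rw [pow_zero, Nat.cast_one, one_mul] at h
      exact eq_neg_of_add_eq_zero_left h
    have h2 : i ∣ 2 * l := by rw [hi]; exact orderOf_dvd_of_pow_eq_one (by rw [mul_comm, pow_mul, h1, neg_one_sq])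
    have h3 : i ∣ l := (Nat.Coprime.dvd_mul_left hio.coprime_two_right).1 h2
    have h4 : (Fintype.card F : ZMod r) ^ l = 1 := orderOf_dvd_iff_pow_eq_one.1 (hi ▸ h3)
    have h5 : ((2 : ℕ) : ZMod r) = 0 := by
      rw [h1] at h4
      rw [Nat.cast_two]
      linear_combination -h4
    rw [ZMod.natCast_eq_zero_iff] at h5
    exact hr2 ((Nat.prime_dvd_prime_iff_eq hr.out Nat.prime_two).1 h5)

theorem dvd_finrank_fpf (hrp : r ≠ p) (hr2 : r ≠ 2) {T : Module.End F (Fin d ⊕ Fin d → F)}
    (hT : ∀ u w, sympBilin d F (T u) (T w) = sympBilin d F u w) (hTr : T ^ r = 1)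
    {U : Submodule F (Fin d ⊕ Fin d → F)} (hU : Inv T U) (hfree : Fpf T U)
    (hUnd : NonDeg (sympBilin d F) U) {i : ℕ} (hi : i = orderOf (Fintype.card F : ZMod r)) :
    (if Even i then i else 2 * i) ∣ finrank F U := by
  have hrF : (r : F) ≠ 0 := CfsgLib.LinFix.natCast_ne_zero_of_ne hrp
  have hipos : 0 < i := hi ▸ ord_pos hrF
  exact (hasUnit_fpf hrp hr2 hT hTr hU hfree hi).dvd_finrank (k := r) hrF hTr hT sympBilin_symm
    (by split_ifs <;> omega) U le_rfl hU hUnd

/-- An element of order `r` with the smallest possible fixed space. -/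
theorem exists_witness_min (hrp : r ≠ p) (hr2 : r ≠ 2) {i h : ℕ} (hi : i = orderOf (Fintype.card F : ZMod r))
    (hh : (Even i ∧ i = 2 * h) ∨ (Odd i ∧ i = h)) :
    ∃ T : Module.End F (Fin d ⊕ Fin d → F), (∀ u w, sympBilin d F (T u) (T w) = sympBilin d F u w) ∧ T ^ r = 1 ∧
      finrank F (fixSp T) ≤ 2 * (d % h) := by
  classical
  have hrF : (r : F) ≠ 0 := CfsgLib.LinFix.natCast_ne_zero_of_ne hrp
  obtain ⟨y, hy, hyr, -, hyf⟩ : ∃ y : Module.End F (Fin h ⊕ Fin h → F),
      (∀ u w, sympForm h F (y u) (y w) = sympForm h F u w) ∧ y ^ r = 1 ∧ y ≠ 1 ∧ Fpf y ⊤ := by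
    rcases hh with ⟨-, e⟩ | ⟨-, e⟩
    · exact exists_block_even hrF (by omega)
    · exact exists_block_odd hrF (by omega)
  set k₀ := d % h
  set a := d / h
  have hd : k₀ + a * h = d := by rw [mul_comm]; exact Nat.mod_add_div d h
  let e₀ : Fin k₀ ⊕ Fin a × Fin h ≃ Fin d :=
    ((Equiv.refl _).sumCongr finProdFinEquiv).trans (finSumFinEquiv.trans (finCongr hd))
  let E : ((Fin k₀ ⊕ Fin k₀ → F) × (Fin a → Fin h ⊕ Fin h → F)) ≃ₗ[F] (Fin d ⊕ Fin d → F) :=
    { toFun := fun p => Sum.elim
        (fun n => Sum.elim (fun k => p.1 (.inl k)) (fun q => p.2 q.1 (.inl q.2)) (e₀.symm n))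
        (fun n => Sum.elim (fun k => p.1 (.inr k)) (fun q => p.2 q.1 (.inr q.2)) (e₀.symm n))
      map_add' := fun p p' => funext fun x => by
        rcases x with n | n <;> rcases hn : e₀.symm n with k | q <;> simp [hn]
      map_smul' := fun c p => funext fun x => by
        rcases x with n | n <;> rcases hn : e₀.symm n with k | q <;> simp [hn]
      invFun := fun v => (Sum.elim (fun k => v (.inl (e₀ (.inl k)))) (fun k => v (.inr (e₀ (.inl k)))),
        fun l => Sum.elim (fun t => v (.inl (e₀ (.inr (l, t))))) (fun t => v (.inr (e₀ (.inr (l, t))))))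
      left_inv := fun p => by
        refine Prod.ext (funext fun x => ?_) (funext fun l => funext fun x => ?_) <;> rcases x with k | k <;> simp
      right_inv := fun v => funext fun x => by
        rcases x with n | n <;> obtain ⟨z, rfl⟩ := e₀.surjective n <;> rcases z with k | ⟨l, t⟩ <;> simp }
  have hE : ∀ p p', sympForm d F (E p) (E p') = sympForm k₀ F p.1 p'.1 + ∑ l, sympForm h F (p.2 l) (p'.2 l) := by
    intro p p'
    simp only [sympForm_eq_sum]
    rw [← e₀.sum_comp, Fintype.sum_sum_type, Fintype.sum_prod_type]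
    simp [E]
  let S : Module.End F ((Fin k₀ ⊕ Fin k₀ → F) × (Fin a → Fin h ⊕ Fin h → F)) :=
    LinearMap.prodMap LinearMap.id (LinearMap.pi fun l => y.comp (LinearMap.proj l))
  let T : Module.End F (Fin d ⊕ Fin d → F) := E.toLinearMap.comp (S.comp E.symm.toLinearMap)
  have hTE : ∀ p, T (E p) = E (p.1, fun l => y (p.2 l)) := fun p => by simp [T, S]; rfl
  have hTk : ∀ (k : ℕ) p, (T ^ k) (E p) = E (p.1, fun l => (y ^ k) (p.2 l)) := fun k => by
    induction k with
    | zero => intro p; simp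
    | succ k ih => intro p; rw [pow_succ, Module.End.mul_apply, hTE, ih]; simp [pow_succ, Module.End.mul_apply]
  refine ⟨T, fun u w => ?_, LinearMap.ext fun v => ?_, ?_⟩
  · obtain ⟨p, rfl⟩ := E.surjective u
    obtain ⟨p', rfl⟩ := E.surjective w
    simp only [sympBilin_apply]
    rw [hTE, hTE, hE, hE]
    simp [hy]
  · obtain ⟨p, rfl⟩ := E.surjective v
    rw [hTk]; simp [hyr]
  · have hle : fixSp T ≤ LinearMap.range (E.toLinearMap.comp (LinearMap.inl F _ _)) := fun v hv => by
      obtain ⟨p, rfl⟩ := E.surjective v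
      have h0 := mem_fixSp.1 hv
      rw [hTE, E.injective.eq_iff] at h0
      refine ⟨p.1, congrArg E (Prod.ext rfl (funext fun l => ?_))⟩
      exact (hyf _ trivial (congrFun (congrArg Prod.snd h0) l)).symm
    refine (Submodule.finrank_mono hle).trans ((LinearMap.finrank_range_le _).trans ?_)
    rw [finrank_space]

end Fpf

/-! ### Hyperbolic frames -/

section Frames

variable [Fintype F]

/-- Hyperbolic families of `k` pairs inside `M`. -/
abbrev HFrame (M : Submodule F (Fin d ⊕ Fin d → F)) (k : ℕ) : Type _ :=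
  {t : Fin k ⊕ Fin k → M // ∀ x y, sympForm d F (t x : Fin d ⊕ Fin d → F) (t y) =
    sympForm k F (Pi.single x 1) (Pi.single y 1)}

omit [Fintype F] in
theorem sympForm_single {k : ℕ} :
    (∀ i j : Fin k, sympForm k F (Pi.single (.inl i) 1) (Pi.single (.inl j) 1) = 0) ∧
    (∀ i j : Fin k, sympForm k F (Pi.single (.inr i) 1) (Pi.single (.inr j) 1) = 0) ∧
    (∀ i j : Fin k, sympForm k F (Pi.single (.inr i) 1) (Pi.single (.inl j) 1) = if i = j then 1 else 0) ∧
    (∀ i j : Fin k, sympForm k F (Pi.single (.inl i) 1) (Pi.single (.inr j) 1) = - if j = i then 1 else 0) := by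
  refine ⟨fun i j => ?_, fun i j => ?_, fun i j => ?_, fun i j => ?_⟩
  rotate_left 3
  · simp [sympForm_eq_sum, Pi.single_apply]
  · simp [sympForm_eq_sum, Pi.single_apply]
  · simp [sympForm_eq_sum, Pi.single_apply]
  · simp [sympForm_eq_sum, Pi.single_apply, eq_comm]

omit [Fintype F] in
theorem hframe_props {M : Submodule F (Fin d ⊕ Fin d → F)} {k : ℕ} (t : HFrame M k) :
    LinearIndependent F (fun x => (t.1 x : Fin d ⊕ Fin d → F)) ∧
      NonDeg (sympBilin d F) (Submodule.span F (Set.range fun x => (t.1 x : Fin d ⊕ Fin d → F))) := by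
  classical
  have hval : ∀ (a : Fin k ⊕ Fin k → F) y,
      sympBilin d F (∑ x, a x • (t.1 x : Fin d ⊕ Fin d → F)) (t.1 y) = sympForm k F a (Pi.single y 1) := by
    intro a y
    rw [map_sum, LinearMap.sum_apply]
    simp only [map_smul, LinearMap.smul_apply, sympBilin_apply, t.2]
    simp only [← sympBilin_apply (m := k)]
    conv_rhs => rw [show a = ∑ x, a x • (Pi.single x (1 : F) : Fin k ⊕ Fin k → F) by funext z; simp [Pi.single_apply]]
    rw [map_sum, LinearMap.sum_apply]
    exact Finset.sum_congr rfl fun x _ => by rw [map_smul, LinearMap.smul_apply]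
  have hzero : ∀ a : Fin k ⊕ Fin k → F,
      (∀ y, sympBilin d F (∑ x, a x • (t.1 x : Fin d ⊕ Fin d → F)) (t.1 y) = 0) → a = 0 := by
    intro a ha
    refine eq_zero_of_forall_form fun w => ?_
    rw [← sympBilin_apply, show w = ∑ y, w y • (Pi.single y (1 : F) : Fin k ⊕ Fin k → F) by
      funext z; simp [Pi.single_apply], map_sum]
    refine Finset.sum_eq_zero fun y _ => ?_
    rw [map_smul, sympBilin_apply, ← hval, ha, smul_zero]
  refine ⟨Fintype.linearIndependent_iff.2 fun a ha => congrFun (hzero a fun y => by rw [ha, map_zero, LinearMap.zero_apply]), ?_⟩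
  intro u hu huo
  obtain ⟨a, rfl⟩ := (Submodule.mem_span_range_iff_exists_fun F).1 hu
  rw [hzero a fun y => huo _ (Submodule.subset_span ⟨y, rfl⟩)]
  simp

theorem card_hframe (M : Submodule F (Fin d ⊕ Fin d → F)) (hM : NonDeg (sympBilin d F) M) {e : ℕ}
    (he : finrank F M = 2 * e) : ∀ k, k ≤ e → Nat.card (HFrame M k) =
      ∏ i ∈ Finset.range k, (Fintype.card F ^ (2 * (e - i)) - 1) * Fintype.card F ^ (2 * (e - i) - 1)
  | 0, _ => by
    rw [Finset.prod_range_zero, Nat.card_eq_one_iff_unique]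
    exact ⟨⟨fun a b => Subtype.ext (funext fun i => isEmptyElim i)⟩, ⟨⟨isEmptyElim, fun x => isEmptyElim x⟩⟩⟩
  | k + 1, hk => by
    classical
    rw [Finset.prod_range_succ, ← card_hframe M hM he k (by omega)]
    obtain ⟨s1, s2, s3, s4⟩ := sympForm_single (F := F) (k := k + 1)
    obtain ⟨s1', s2', s3', s4'⟩ := sympForm_single (F := F) (k := k)
    let S : HFrame M k → Submodule F (Fin d ⊕ Fin d → F) := fun t =>
      M ⊓ (Submodule.span F (Set.range fun x => (t.1 x : Fin d ⊕ Fin d → F))).orthogonalBilin (sympBilin d F)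
    let Ext : HFrame M k → Type _ := fun t => {v : S t × S t // sympForm d F (v.2 : Fin d ⊕ Fin d → F) v.1 = 1}
    have hperp : ∀ (t : HFrame M k) (v : S t) x, sympForm d F (t.1 x : Fin d ⊕ Fin d → F) v = 0 :=
      fun t v x => v.2.2 _ (Submodule.subset_span ⟨x, rfl⟩)
    have hperp' : ∀ (t : HFrame M k) (v : S t) x, sympForm d F (v : Fin d ⊕ Fin d → F) (t.1 x) = 0 :=
      fun t v x => by rw [form_swap, hperp, neg_zero]
    let emb : Fin k ⊕ Fin k → Fin (k + 1) ⊕ Fin (k + 1) := Sum.map Fin.castSucc Fin.castSucc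
    have hlast : ∀ i : Fin k, i.castSucc ≠ Fin.last k := fun i => Fin.castSucc_ne_last i
    have hlast' : ∀ i : Fin k, Fin.last k ≠ i.castSucc := fun i => (Fin.castSucc_ne_last i).symm
    have hemb : ∀ a b, sympForm (k + 1) F (Pi.single (emb a) 1) (Pi.single (emb b) 1) =
        sympForm k F (Pi.single a 1) (Pi.single b 1) := by
      rintro (i | i) (j | j) <;> simp only [emb, Sum.map_inl, Sum.map_inr, s1, s2, s3, s4, s1', s2', s3', s4',
        Fin.castSucc_inj]
    have hcross : ∀ a l, l = Sum.inl (Fin.last k) ∨ l = Sum.inr (Fin.last k) →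
        sympForm (k + 1) F (Pi.single (emb a) 1) (Pi.single l 1) = 0 := by
      rintro (i | i) l (rfl | rfl) <;>
        simp only [emb, Sum.map_inl, Sum.map_inr, s1, s2, s3, s4, if_neg (hlast i), if_neg (hlast' i), neg_zero]
    have hcases : ∀ x, (∃ a, x = emb a) ∨ x = Sum.inl (Fin.last k) ∨ x = Sum.inr (Fin.last k) := by
      rintro (i | i) <;> induction i using Fin.lastCases with
      | last => simp
      | cast i => first | exact Or.inl ⟨.inl i, rfl⟩ | exact Or.inl ⟨.inr i, rfl⟩
    let res : HFrame M (k + 1) → HFrame M k := fun t => ⟨fun x => t.1 (emb x), fun x y => by rw [t.2, hemb]⟩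
    have hmemS : ∀ t t₀, res t = t₀ → ∀ l, l = Sum.inl (Fin.last k) ∨ l = Sum.inr (Fin.last k) →
        (t.1 l : Fin d ⊕ Fin d → F) ∈ S t₀ := by
      rintro t _ rfl l hl
      refine ⟨(t.1 l).2, fun y hy => ?_⟩
      induction hy using Submodule.span_induction with
      | mem z hz =>
        obtain ⟨x, rfl⟩ := hz
        show sympForm d F (t.1 (emb x) : Fin d ⊕ Fin d → F) (t.1 l) = 0
        rw [t.2, hcross x l hl]
      | zero => rw [map_zero, LinearMap.zero_apply]
      | add a b _ _ ha hb => rw [map_add, LinearMap.add_apply, ha, hb, add_zero]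
      | smul a v _ hv => rw [map_smul, LinearMap.smul_apply, hv, smul_zero]
    let ext : ∀ t₀, Ext t₀ → Fin (k + 1) ⊕ Fin (k + 1) → M := fun t₀ v =>
      Sum.elim (Fin.snoc (α := fun _ => M) (fun i => t₀.1 (.inl i)) ⟨v.1.1, v.1.1.2.1⟩)
        (Fin.snoc (α := fun _ => M) (fun i => t₀.1 (.inr i)) ⟨v.1.2, v.1.2.2.1⟩)
    have hext : ∀ t₀ v a, ext t₀ v (emb a) = t₀.1 a := by
      intro t₀ v a
      rcases a with i | i <;> simp [ext, emb]
    have hextl : ∀ t₀ (v : Ext t₀), ext t₀ v (Sum.inl (Fin.last k)) = ⟨v.1.1, v.1.1.2.1⟩ := fun t₀ v => by simp [ext]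
    have hextr : ∀ t₀ (v : Ext t₀), ext t₀ v (Sum.inr (Fin.last k)) = ⟨v.1.2, v.1.2.2.1⟩ := fun t₀ v => by simp [ext]
    have hform : ∀ t₀ (v : Ext t₀) x y, sympForm d F (ext t₀ v x : Fin d ⊕ Fin d → F) (ext t₀ v y) =
        sympForm (k + 1) F (Pi.single x 1) (Pi.single y 1) := by
      intro t₀ v x y
      rcases hcases x with ⟨a, rfl⟩ | rfl | rfl <;> rcases hcases y with ⟨b, rfl⟩ | rfl | rfl
      · rw [hext, hext, t₀.2, hemb]
      · rw [hext, hextl, hperp, hcross _ _ (Or.inl rfl)]
      · rw [hext, hextr, hperp, hcross _ _ (Or.inr rfl)]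
      · rw [hext, hextl, hperp', form_swap (Pi.single (emb b) (1 : F)), hcross _ _ (Or.inl rfl), neg_zero]
      · rw [hextl, form_self, form_self]
      · rw [hextl, hextr, form_swap (v.1.2 : Fin d ⊕ Fin d → F), v.2, s4, if_pos rfl]
      · rw [hext, hextr, hperp', form_swap (Pi.single (emb b) (1 : F)), hcross _ _ (Or.inr rfl), neg_zero]
      · rw [hextl, hextr, v.2, s3, if_pos rfl]
      · rw [hextr, form_self, form_self]
    let e₁ : ∀ t₀, {t // res t = t₀} ≃ Ext t₀ := fun t₀ =>
      { toFun := fun t => ⟨(⟨_, hmemS t.1 t₀ t.2 _ (Or.inl rfl)⟩, ⟨_, hmemS t.1 t₀ t.2 _ (Or.inr rfl)⟩), by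
            show sympForm d F (t.1.1 _ : Fin d ⊕ Fin d → F) (t.1.1 _) = 1
            rw [t.1.2, s3, if_pos rfl]⟩
        invFun := fun v => ⟨⟨ext t₀ v, hform t₀ v⟩, Subtype.ext (funext (hext t₀ v))⟩
        left_inv := fun t => by
          refine Subtype.ext (Subtype.ext (funext fun x => ?_))
          dsimp only
          rcases hcases x with ⟨a, rfl⟩ | rfl | rfl
          · rw [hext]
            exact (congrArg (fun u : HFrame M k => u.1 a) t.2).symm
          · rw [hextl]
          · rw [hextr]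
        right_inv := fun v => by
          refine Subtype.ext (Prod.ext (Subtype.ext ?_) (Subtype.ext ?_))
          · show (ext t₀ v (Sum.inl (Fin.last k)) : Fin d ⊕ Fin d → F) = _
            rw [hextl]
          · show (ext t₀ v (Sum.inr (Fin.last k)) : Fin d ⊕ Fin d → F) = _
            rw [hextr] }
    rw [← Nat.card_congr (Equiv.sigmaFiberEquiv res), Nat.card_sigma,
      Finset.sum_congr rfl (fun t _ => (Nat.card_congr (e₁ t)).trans ?_), Finset.sum_const, Finset.card_univ,
      smul_eq_mul, Nat.card_eq_fintype_card]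
    -- the extensions of one family
    obtain ⟨hli, hnd⟩ := hframe_props t
    obtain ⟨hP, hdim, -⟩ := hM.split sympBilin_symm hnd (by rw [Submodule.span_le]; rintro _ ⟨x, rfl⟩; exact (t.1 x).2)
    rw [finrank_span_eq_card hli, Fintype.card_sum, Fintype.card_fin, he] at hdim
    have hS : finrank F (S t) = 2 * (e - k) := by show finrank F ↥(M ⊓ _) = _; omega
    let f : S t → Module.Dual F (S t) := fun a =>
      ((sympBilin d F).flip (a : Fin d ⊕ Fin d → F)).comp (S t).subtype
    have hfib : ∀ a : S t, Nat.card {b : S t // f a b = 1} = if a = 0 then 0 else Fintype.card F ^ (2 * (e - k) - 1) := by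
      intro a
      split_ifs with ha
      · haveI : IsEmpty {b : S t // f a b = 1} := ⟨fun b => by
          have := b.2
          simp [f, ha] at this⟩
        exact Nat.card_of_isEmpty
      · obtain ⟨b₀, hb₀⟩ : ∃ b, f a b = 1 := by
          have hne : f a ≠ 0 := fun h0 => ha (Subtype.ext (hP _ a.2 fun w hw => by
            have h1 := LinearMap.congr_fun h0 ⟨w, hw⟩
            show sympForm d F (a : Fin d ⊕ Fin d → F) w = 0
            rw [form_swap w (a : Fin d ⊕ Fin d → F), show sympForm d F w a = 0 from h1, neg_zero]))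
          obtain ⟨b, hb⟩ : ∃ b, f a b ≠ 0 := by
            by_contra hh
            push Not at hh
            exact hne (LinearMap.ext hh)
          exact ⟨(f a b)⁻¹ • b, by rw [map_smul, smul_eq_mul, inv_mul_cancel₀ hb]⟩
        have e1 : {b : S t // f a b = 1} ≃ LinearMap.ker (f a) :=
          { toFun := fun b => ⟨b.1 - b₀, by rw [LinearMap.mem_ker, map_sub, b.2, hb₀, sub_self]⟩
            invFun := fun b => ⟨b.1 + b₀, by rw [map_add, LinearMap.mem_ker.1 b.2, hb₀, zero_add]⟩
            left_inv := fun b => Subtype.ext (sub_add_cancel _ _)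
            right_inv := fun b => Subtype.ext (add_sub_cancel_right _ _) }
        rw [Nat.card_congr e1, Module.natCard_eq_pow_finrank (K := F), Nat.card_eq_fintype_card]
        congr 1
        have h1 := (f a).finrank_range_add_finrank_ker
        have h2 : LinearMap.range (f a) = ⊤ := LinearMap.range_eq_top.2 fun c => ⟨c • b₀, by
          rw [map_smul, hb₀, smul_eq_mul, mul_one]⟩
        rw [h2, finrank_top, Module.finrank_self, hS] at h1
        omega
    have e2 : Ext t ≃ Σ a : S t, {b : S t // f a b = 1} :=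
      { toFun := fun v => ⟨v.1.1, v.1.2, v.2⟩
        invFun := fun v => ⟨(v.1, v.2.1), v.2.2⟩
        left_inv := fun v => rfl
        right_inv := fun v => rfl }
    rw [Nat.card_congr e2, Nat.card_sigma, Finset.sum_congr rfl (fun a _ => hfib a), Finset.sum_ite,
      Finset.sum_const_zero, zero_add, Finset.sum_const, smul_eq_mul, Finset.filter_ne', Finset.card_erase_of_mem
        (Finset.mem_univ _), Finset.card_univ, Fintype.card_eq_nat_card,
      Module.natCard_eq_pow_finrank (K := F) (V := S t), hS, Nat.card_eq_fintype_card]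

theorem exists_dvd_nonDeg {r : ℕ} [hr : Fact r.Prime] (hrq : ¬ r ∣ Fintype.card F) {m : ℕ} (hme : Even m)
    (hm : m ≤ 2 * d)
    (h : r ∣ Nat.card {W : Submodule F (Fin d ⊕ Fin d → F) //
      finrank F ↥W = m ∧ (∀ u ∈ W, u ≠ 0 → ∃ v ∈ W, sympForm d F u v ≠ 0)}) :
    ∃ j, 2 * d < 2 * j + m ∧ j ≤ d ∧ orderOf (Fintype.card F : ZMod r) ∣ 2 * j := by
  classical
  obtain ⟨e, rfl⟩ := hme
  let Ω := {W : Submodule F (Fin d ⊕ Fin d → F) // finrank F ↥W = e + e ∧ (∀ u ∈ W, u ≠ 0 → ∃ v ∈ W, sympForm d F u v ≠ 0)}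
  have hnd : ∀ W : Ω, NonDeg (sympBilin d F) W.1 := fun W u hu huo => by
    by_contra hu0
    obtain ⟨v, hv, hne⟩ := W.2.2 u hu hu0
    exact hne (huo v hv)
  haveI : Finite (Submodule F (Fin d ⊕ Fin d → F)) :=
    Finite.of_injective (fun W : Submodule F (Fin d ⊕ Fin d → F) => (W : Set (Fin d ⊕ Fin d → F))) SetLike.coe_injective
  let φ : (Σ W : Ω, HFrame W.1 e) → HFrame (⊤ : Submodule F (Fin d ⊕ Fin d → F)) e := fun p =>
    ⟨fun x => ⟨(p.2.1 x : Fin d ⊕ Fin d → F), trivial⟩, p.2.2⟩
  have hspan : ∀ p, Submodule.span F (Set.range fun x => ((φ p).1 x : Fin d ⊕ Fin d → F)) = p.1.1 := fun p => by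
    refine Submodule.eq_of_le_of_finrank_eq ?_ ?_
    · rw [Submodule.span_le]; rintro _ ⟨x, rfl⟩; exact (p.2.1 x).2
    · rw [finrank_span_eq_card (hframe_props (φ p)).1, Fintype.card_sum, Fintype.card_fin, p.1.2.1]
  have hφ : Function.Bijective φ := by
    refine ⟨fun p p' hpp => ?_, fun t => ?_⟩
    · obtain ⟨W, s⟩ := p
      obtain ⟨W', s'⟩ := p'
      obtain rfl : W = W' := Subtype.ext (by rw [← hspan ⟨W, s⟩, ← hspan ⟨W', s'⟩, hpp])
      have : s = s' := Subtype.ext (funext fun x => Subtype.ext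
        (congrArg (fun v : ↥(⊤ : Submodule F (Fin d ⊕ Fin d → F)) => (v : Fin d ⊕ Fin d → F))
          (congrFun (congrArg Subtype.val hpp) x)))
      rw [this]
    · obtain ⟨hli, hW⟩ := hframe_props t
      let W : Ω := ⟨Submodule.span F (Set.range fun x => (t.1 x : Fin d ⊕ Fin d → F)), by
          rw [finrank_span_eq_card hli, Fintype.card_sum, Fintype.card_fin],
        fun u hu hu0 => by
          by_contra hall
          push Not at hall
          exact hu0 (hW u hu hall)⟩
      exact ⟨⟨W, fun x => ⟨(t.1 x : Fin d ⊕ Fin d → F), Submodule.subset_span ⟨x, rfl⟩⟩, t.2⟩, rfl⟩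
  have h' : r ∣ Nat.card (HFrame (⊤ : Submodule F (Fin d ⊕ Fin d → F)) e) := by
    rw [← Nat.card_congr (Equiv.ofBijective φ hφ), Nat.card_sigma,
      Finset.sum_congr rfl (fun W _ => card_hframe W.1 (hnd W) (e := e) (by rw [W.2.1]; ring) e le_rfl),
      Finset.sum_const, Finset.card_univ, smul_eq_mul, ← Nat.card_eq_fintype_card]
    exact dvd_mul_of_dvd_left h _
  rw [card_hframe _ nonDeg_top (e := d) (by rw [finrank_top, finrank_space]) e (by omega),
    hr.out.prime.dvd_finsetProd_iff] at h'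
  obtain ⟨i, hi, hdvd⟩ := h'
  have hi' := Finset.mem_range.1 hi
  refine ⟨d - i, by omega, by omega, (LinFix.dvd_pow_sub_one_iff Fintype.card_pos _).1 ?_⟩
  exact (hr.out.dvd_mul.1 hdvd).resolve_right fun h0 => hrq (hr.out.dvd_of_dvd_pow h0)

end Frames

end CfsgLib.PrimeFix.Symp
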