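import Mathlib
import Cfsg.Prelude
import Cfsg.Agent.Lib.PrimeFix.SympOp

/-!
Nondegenerate subspaces invariant under a symplectic isometry of prime order different from the characteristic.
-/

set_option autoImplicit false

namespace CfsgLib.PrimeFix.Symp

open Module Polynomial Cfsg CfsgLib.Linear.Symp CfsgLib.SympGeom

section

variable {F : Type*} [Field F] {d : ℕ}

theorem nd_iff (W : Submodule F (Fin d ⊕ Fin d → F)) :
    NonDeg (sympBilin d F) W ↔ ∀ u ∈ W, u ≠ 0 → ∃ v ∈ W, sympForm d F u v ≠ 0 := by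
  constructor
  · intro h u hu hu0
    by_contra hall
    push Not at hall
    exact hu0 (h u hu hall)
  · intro h u hu hall
    by_contra hu0
    obtain ⟨v, hv, hne⟩ := h u hu hu0
    exact hne (hall v hv)

theorem isometry_smul {T : Module.End F (Fin d ⊕ Fin d → F)}
    (hT : ∀ u w, sympBilin d F (T u) (T w) = sympBilin d F u w) {z : F} (hz : z * z = 1) (u w) :
    sympBilin d F ((z • T) u) ((z • T) w) = sympBilin d F u w := by
  simp only [LinearMap.smul_apply, map_smul, smul_eq_mul]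
  rw [← mul_assoc, hz, one_mul, hT]

theorem scalar_sq (hd : 0 < d) {T : Module.End F (Fin d ⊕ Fin d → F)}
    (hT : ∀ u w, sympBilin d F (T u) (T w) = sympBilin d F u w) {k : ℕ} {z : F} (hz : T ^ k = z • 1) :
    z * z = 1 := by
  obtain ⟨w, hw⟩ : ∃ w, sympBilin d F (Pi.single (Sum.inl ⟨0, hd⟩) 1) w ≠ 0 := by
    by_contra h
    push Not at h
    have h0 := eq_zero_of_forall_form (u := Pi.single (Sum.inl ⟨0, hd⟩) (1 : F)) h
    simpa using congrFun h0 (Sum.inl ⟨0, hd⟩)
  have h := isometry_pow hT k (Pi.single (Sum.inl ⟨0, hd⟩) 1) w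
  simp only [hz, LinearMap.smul_apply, Module.End.one_apply, map_smul, smul_eq_mul] at h
  exact mul_right_cancel₀ hw (by rw [one_mul, mul_assoc, h])

theorem inv_of_smul {T : Module.End F (Fin d ⊕ Fin d → F)} {z : F} (hz : z * z = 1)
    {W : Submodule F (Fin d ⊕ Fin d → F)} (hW : Inv (z • T) W) : Inv T W := fun w hw => by
  have h := W.smul_mem z (hW w hw)
  rwa [LinearMap.smul_apply, smul_smul, hz, one_smul] at h

/-- Nondegenerate subspaces of every even dimension invariant under a scalar. -/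
theorem exists_scalar {T : Module.End F (Fin d ⊕ Fin d → F)} {c : F} (hc : ∀ v, T v = c • v) {m : ℕ}
    (hme : Even m) (hm : m ≤ 2 * d) :
    ∃ W : Submodule F (Fin d ⊕ Fin d → F), finrank F W = m ∧ NonDeg (sympBilin d F) W ∧ Inv T W := by
  obtain ⟨e, rfl⟩ := hme
  obtain ⟨U, -, hU, hdU⟩ := exists_sub (W := (⊤ : Submodule F (Fin d ⊕ Fin d → F))) nonDeg_top e
    (by rw [finrank_top, finrank_space]; omega)
  exact ⟨U, by omega, hU, fun w hw => by rw [hc]; exact U.smul_mem c hw⟩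

end

section Odd

variable {F : Type*} [Field F] [Fintype F] {p : ℕ} [Fact p.Prime] [CharP F p] {r : ℕ} [Fact r.Prime] {d : ℕ}

/-- A nondegenerate invariant subspace assembled from the fixed part and the units. -/
theorem exists_nonDeg_of_mod_le (hrp : r ≠ p) (hr2 : r ≠ 2) {T : Module.End F (Fin d ⊕ Fin d → F)}
    (hT : ∀ u w, sympBilin d F (T u) (T w) = sympBilin d F u w) (hTr : T ^ r = 1) {m i c : ℕ}
    (hi : i = orderOf (Fintype.card F : ZMod r)) (hc : c = if Even i then i else 2 * i)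
    (hme : Even m) (hm : m ≤ 2 * d) (hk : m % c ≤ 2 * d % c) :
    ∃ W : Submodule F (Fin d ⊕ Fin d → F), finrank F W = m ∧ NonDeg (sympBilin d F) W ∧ Inv T W := by
  have hrF : (r : F) ≠ 0 := CfsgLib.LinFix.natCast_ne_zero_of_ne hrp
  obtain ⟨hC, hD⟩ := nonDeg_parts hrF hTr hT sympBilin_symm (W := ⊤) (fun _ _ => trivial) nonDeg_top
  rw [top_inf_eq] at hC hD
  have hfree : Fpf T (fpfSp r T) := fpf_fpfSp hrF
  have hU := hasUnit_fpf hrp hr2 hT hTr inv_fpfSp hfree hi
  rw [← hc] at hU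
  have hdvd := dvd_finrank_fpf hrp hr2 hT hTr inv_fpfSp hfree hD hi
  rw [← hc] at hdvd
  obtain ⟨a, ha⟩ := hdvd
  have hce : Even c := by
    rw [hc]; split_ifs with h
    exacts [h, even_two_mul i]
  have hsum := finrank_fix_add_fpf hrF hTr
  rw [finrank_space, ha] at hsum
  obtain ⟨j, hja, hjm, hrest⟩ : ∃ j, j ≤ a ∧ j * c ≤ m ∧ m - j * c ≤ finrank F (fixSp T) := by
    rcases Nat.le_total a (m / c) with h | h
    · refine ⟨a, le_rfl, (Nat.mul_le_mul_right c h).trans (Nat.div_mul_le_self m c), ?_⟩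
      rw [mul_comm a c]; omega
    · refine ⟨m / c, h, Nat.div_mul_le_self m c, ?_⟩
      have h1 : m - m / c * c = m % c := by
        have := Nat.mod_add_div m c
        rw [mul_comm c] at this; omega
      have h2 : 2 * d % c = finrank F (fixSp T) % c := by rw [← hsum, Nat.add_mul_mod_self_left]
      have := Nat.mod_le (finrank F (fixSp T)) c
      omega
  obtain ⟨Y, hYD, hY, hYnd, hdY⟩ := hU.exists_nonDeg (k := r) hrF hTr hT sympBilin_symm inv_fpfSp hD j
    (by rw [ha, mul_comm c]; exact Nat.mul_le_mul_right c hja)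
  obtain ⟨e, he⟩ : Even (m - j * c) := (Nat.even_sub hjm).2 ⟨fun _ => hce.mul_left j, fun _ => hme⟩
  obtain ⟨U, hUC, hUnd, hdU⟩ := exists_sub hC e (by omega)
  have horth : ∀ u ∈ U, ∀ y ∈ Y, sympBilin d F u y = 0 := fun u hu y hy =>
    fix_orth_fpf hrF hT (hUC hu) (hYD hy)
  refine ⟨U ⊔ Y, ?_, hUnd.sup hYnd sympBilin_symm horth,
    inv_sup (fun u hu => by rw [mem_fixSp.1 (hUC hu)]; exact hu) hY⟩
  have h := Submodule.finrank_sup_add_finrank_inf_eq U Y
  rw [eq_bot_iff.2 ((inf_le_inf hUC hYD).trans (fix_inf_fpf hrF).le), finrank_bot, add_zero, hdU, hdY] at h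
  omega

/-- An isometry with no nondegenerate invariant `m`-space. -/
theorem exists_no_nonDeg (hrp : r ≠ p) (hr2 : r ≠ 2) {m i c : ℕ}
    (hi : i = orderOf (Fintype.card F : ZMod r)) (hc : c = if Even i then i else 2 * i)
    (hk : ¬ m % c ≤ 2 * d % c) :
    ∃ T : Module.End F (Fin d ⊕ Fin d → F), (∀ u w, sympBilin d F (T u) (T w) = sympBilin d F u w) ∧ T ^ r = 1 ∧
      ∀ W : Submodule F (Fin d ⊕ Fin d → F), Inv T W → NonDeg (sympBilin d F) W → finrank F W ≠ m := by
  have hrF : (r : F) ≠ 0 := CfsgLib.LinFix.natCast_ne_zero_of_ne hrp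
  have hipos : 0 < i := hi ▸ ord_pos hrF
  obtain ⟨h, hh, hch⟩ : ∃ h, ((Even i ∧ i = 2 * h) ∨ (Odd i ∧ i = h)) ∧ c = 2 * h := by
    rcases Nat.even_or_odd i with he | ho
    · obtain ⟨h, hh⟩ := id he
      exact ⟨h, Or.inl ⟨he, by omega⟩, by rw [hc, if_pos he]; omega⟩
    · exact ⟨i, Or.inr ⟨ho, rfl⟩, by rw [hc, if_neg (Nat.not_even_iff_odd.2 ho)]⟩
  have hhpos : 0 < h := by rcases hh with ⟨-, e⟩ | ⟨-, e⟩ <;> omega
  obtain ⟨T, hT, hTr, hfix⟩ := exists_witness_min (d := d) hrp hr2 hi hh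
  refine ⟨T, hT, hTr, fun W hW hWnd hd => hk ?_⟩
  obtain ⟨-, hD⟩ := nonDeg_parts hrF hTr hT sympBilin_symm hW hWnd
  have hdvd := dvd_finrank_fpf hrp hr2 hT hTr (inv_inf hW inv_fpfSp) ((fpf_fpfSp hrF).mono inf_le_right) hD hi
  rw [← hc] at hdvd
  obtain ⟨j, hj⟩ := hdvd
  have h1 := finrank_split hrF hTr hW
  have h2 := (Submodule.finrank_mono (inf_le_right : W ⊓ fixSp T ≤ fixSp T)).trans hfix
  rw [← Nat.mul_mod_mul_left, ← hch] at h2
  have h3 := Nat.mod_lt (2 * d) (show c > 0 by omega)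
  rw [← hd, ← h1, hj, Nat.add_mul_mod_self_left, Nat.mod_eq_of_lt (by omega)]
  exact h2

end Odd

section Two

variable {F : Type*} [Field F] [Fintype F] {p : ℕ} [Fact p.Prime] [CharP F p] {d : ℕ}

/-- An element whose square is scalar leaves invariant nondegenerate subspaces of every even dimension. -/
theorem exists_nonDeg_of_sq (hp2 : p ≠ 2) (hd : 0 < d) {T : Module.End F (Fin d ⊕ Fin d → F)}
    (hT : ∀ u w, sympBilin d F (T u) (T w) = sympBilin d F u w) {z : F} (hz : T ^ 2 = z • 1) {m : ℕ}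
    (hme : Even m) (hm : m ≤ 2 * d) :
    ∃ W : Submodule F (Fin d ⊕ Fin d → F), finrank F W = m ∧ NonDeg (sympBilin d F) W ∧ Inv T W := by
  classical
  have hchar : ringChar F ≠ 2 := by rw [ringChar.eq F p]; exact hp2
  have h2 : (2 : F) ≠ 0 := Ring.two_ne_zero hchar
  suffices h : ∃ k : ℕ, (k : F) ≠ 0 ∧ T ^ k = 1 ∧ HasUnit (sympBilin d F) T ⊤ 2 by
    obtain ⟨k, hk, hTk, hU⟩ := h
    obtain ⟨e, rfl⟩ := hme
    obtain ⟨W, -, hW, hWnd, hdW⟩ := hU.exists_nonDeg hk hTk hT sympBilin_symm (fun _ _ => trivial) nonDeg_top e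
      (by rw [finrank_top, finrank_space]; omega)
    exact ⟨W, by omega, hWnd, hW⟩
  have hTT : ∀ v, T (T v) = z • v := fun v => by
    rw [← Module.End.mul_apply, ← pow_two, hz]; rfl
  have hzz := scalar_sq hd hT hz
  have hlin : ∀ (G : Finset F[X]) (k : ℕ), (k : F) ≠ 0 → T ^ k = 1 → Kinds T ⊤ 1 G →
      HasUnit (sympBilin d F) T ⊤ 2 := fun G k hk hTk hG =>
    hasUnit_two_mul hk hTk hT sympBilin_symm one_pos hG.atoms fun C _ _ hC => isotropic_of_finrank_one C hC
  have hsplit : ∀ s : F, s * s = z → Kinds T ⊤ 1 {X - Polynomial.C s, X - Polynomial.C (-s)} := fun s hs => by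
    have hne : X - Polynomial.C s ≠ X - Polynomial.C (-s) := fun h => by
      have h1 := congrArg (Polynomial.eval 0) h
      simp only [eval_sub, eval_X, eval_C, zero_sub, neg_neg] at h1
      have hs0 : s = 0 := (mul_eq_zero.1 (show (2 : F) * s = 0 by linear_combination -h1)).resolve_left h2
      rw [← hs, hs0, mul_zero, mul_zero] at hzz
      exact zero_ne_one hzz
    refine ⟨fun g hg => ?_, fun g hg => ?_, fun g hg => ?_, fun w _ => ?_⟩
    · rcases Finset.mem_insert.1 hg with rfl | hg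
      · exact monic_X_sub_C _
      · rw [Finset.mem_singleton.1 hg]; exact monic_X_sub_C _
    · rcases Finset.mem_insert.1 hg with rfl | hg
      · exact irreducible_X_sub_C _
      · rw [Finset.mem_singleton.1 hg]; exact irreducible_X_sub_C _
    · rcases Finset.mem_insert.1 hg with rfl | hg
      · exact natDegree_X_sub_C _
      · rw [Finset.mem_singleton.1 hg]; exact natDegree_X_sub_C _
    · rw [Finset.prod_pair hne, map_mul, map_sub, map_sub, aeval_X, aeval_C, aeval_C, Module.End.mul_apply]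
      simp only [LinearMap.sub_apply, Module.algebraMap_end_apply, map_sub, map_smul, hTT, ← hs]
      module
  rcases mul_self_eq_one_iff.1 hzz with rfl | rfl
  · have hT2 : T ^ 2 = 1 := by rw [hz, one_smul]
    have h2' : ((2 : ℕ) : F) ≠ 0 := by exact_mod_cast h2
    exact ⟨2, h2', hT2, hlin _ 2 h2' hT2 (hsplit 1 (one_mul 1))⟩
  have hT4 : T ^ 4 = 1 := by
    rw [show 4 = 2 * 2 from rfl, pow_mul, hz, _root_.smul_pow, neg_one_sq, one_smul, one_pow]
  have h4 : ((4 : ℕ) : F) ≠ 0 := by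
    rw [show ((4 : ℕ) : F) = 2 * 2 by norm_num]; exact mul_ne_zero h2 h2
  refine ⟨4, h4, hT4, ?_⟩
  by_cases hsq : IsSquare (-1 : F)
  · obtain ⟨s, hs⟩ := hsq
    exact hlin _ 4 h4 hT4 (hsplit s hs.symm)
  obtain ⟨e, -, he⟩ := FiniteField.card F p
  haveI : ExpChar F p := ExpChar.prime Fact.out
  have hq4 : Fintype.card F % 4 = 3 := by rwa [FiniteField.isSquare_neg_one_iff, not_not] at hsq
  refine hasUnit_paired (p := p) (e := e) (d := 2) (G := {X ^ 2 + 1}) (fun c => ?_) ?_ hT sympBilin_symm ?_ ?_ two_pos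
  · rw [← he, RingHom.id_apply, FiniteField.pow_card]
  · obtain ⟨t, ht⟩ : 4 ∣ p ^ (e : ℕ) + 1 := by rw [← he]; omega
    rw [ht, pow_mul, hT4, one_pow]
  · have hdeg : (X ^ 2 + 1 : F[X]).natDegree = 2 := by rw [← Polynomial.C_1, natDegree_X_pow_add_C]
    refine ⟨fun g hg => ?_, fun g hg => ?_, fun g hg => ?_, fun w _ => ?_⟩ <;>
      try rw [Finset.mem_singleton.1 hg]
    · rw [← Polynomial.C_1]; exact monic_X_pow_add_C _ two_ne_zero
    · refine (irreducible_iff_roots_eq_zero_of_degree_le_three (by omega) (by omega)).2 ?_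
      refine Multiset.eq_zero_of_forall_notMem fun a ha => ?_
      rw [mem_roots (fun h0 => by rw [h0, natDegree_zero] at hdeg; omega)] at ha
      simp only [IsRoot, eval_add, eval_pow, eval_X, eval_one] at ha
      exact hsq ⟨a, by linear_combination -ha⟩
    · exact hdeg
    · rw [Finset.prod_singleton, map_add, map_pow, aeval_X, map_one, LinearMap.add_apply, hz]
      simp
  · rw [← he, pow_two]

end Two

end CfsgLib.PrimeFix.Symp
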