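import Mathlib
import Cfsg.Prelude
import Cfsg.Agent.Lib.PrimeFix.SympNonDeg
import Cfsg.Agent.Lib.PrimeFix.Chain
import Cfsg.Agent.Lib.UnipotentClassical.Assemble
import Cfsg.Agent.Lib.LinFix.Jordan

/-!
Nondegenerate subspaces invariant under symplectic isometries of order the characteristic.
-/

set_option autoImplicit false

namespace CfsgLib.PrimeFix.Symp

open Module Polynomial Cfsg CfsgLib.Linear.Symp CfsgLib.SympGeom CfsgLib.UnipotentClassical

section Char

variable {F : Type*} [Field F] {p : ℕ} [Fact p.Prime] [CharP F p] {d : ℕ}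

theorem sub_one_pow_eq_zero {T : Module.End F (Fin d ⊕ Fin d → F)} (hTp : T ^ p = 1) : (T - 1) ^ p = 0 := by
  rw [CfsgLib.LinFix.sub_one_pow_char, hTp, sub_self]

/-- The top block of a nondegenerate invariant subspace gives a unit. -/
theorem exists_unit {T : Module.End F (Fin d ⊕ Fin d → F)}
    (hT : ∀ u w, sympBilin d F (T u) (T w) = sympBilin d F u w) (hTp : T ^ p = 1)
    {M : Submodule F (Fin d ⊕ Fin d → F)} (hM : Inv T M) (hMnd : NonDeg (sympBilin d F) M) (hM0 : M ≠ ⊥) :
    ∃ s, 0 < s ∧ s ≤ p ∧ ((∃ Y, Y ≤ M ∧ Inv T Y ∧ NonDeg (sympBilin d F) Y ∧ finrank F Y = s * 2 ∧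
        (p ≠ 2 → Odd s)) ∨ ∃ Y, Y ≤ M ∧ Inv T Y ∧ NonDeg (sympBilin d F) Y ∧ finrank F Y = s * 1 ∧ Even s) := by
  have hp0 : 0 < p := (Fact.out : p.Prime).pos
  obtain ⟨s, hs0, hs, ⟨v, hv, hv0⟩, u, hu, w, hw, hne⟩ :=
    exists_top_block hp0 hTp hT (T := T) ⟨p, sub_one_pow_eq_zero hTp⟩ hMnd hM hM0
  have hsp : s ≤ p := by
    by_contra h
    refine hv0 ?_
    rw [← Nat.sub_add_cancel (show p ≤ s - 1 by omega), pow_add, sub_one_pow_eq_zero hTp, mul_zero,
      LinearMap.zero_apply]
  refine ⟨s, hs0, hsp, ?_⟩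
  have hfix : ∀ x ∈ M, (T - 1) (((T - 1) ^ (s - 1)) x) = 0 := fun x hx => by
    rw [← Module.End.mul_apply, ← pow_succ', Nat.sub_add_cancel hs0]; exact hs x hx
  -- the form on the top block
  have hsym : ∀ x ∈ M, ∀ y ∈ M, sympBilin d F y (((T - 1) ^ (s - 1)) x) =
      (-1 : F) ^ s * sympBilin d F x (((T - 1) ^ (s - 1)) y) := fun x _ y hy => by
    rw [sympBilin_symm (((T - 1) ^ (s - 1)) x) y, RingHom.id_apply, sub_one_pow_adjoint hp0 hTp hT,
      inverse_pow_fix (hfix y hy), ← mul_assoc, ← pow_succ', Nat.sub_add_cancel hs0]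
  by_cases hsv : Even s ∧ ∃ x ∈ M, sympBilin d F x (((T - 1) ^ (s - 1)) x) ≠ 0
  · obtain ⟨hse, x, hx, hx0⟩ := hsv
    obtain ⟨Y, hYM, hY, hYnd, hdY⟩ := chains_nonDeg hp0 hTp hT hM hs (fun _ : Fin 1 => x) (fun _ => hx)
      fun c hc => funext fun a => by
        have h := hc 0
        rw [Fin.sum_univ_one, RingHom.id_apply] at h
        rw [Fin.fin_one_eq_zero a]
        exact (mul_eq_zero.1 h).resolve_right hx0
    exact Or.inr ⟨Y, hYM, hY, hYnd, by rw [hdY, Fintype.card_fin], hse⟩
  · have hdiag : ∀ x ∈ M, sympBilin d F x (((T - 1) ^ (s - 1)) x) = 0 := fun x hx => by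
      rcases Nat.even_or_odd s with he | ho
      · by_contra h
        exact hsv ⟨he, x, hx, h⟩
      · rcases eq_or_ne p 2 with h | h
        · rw [show s - 1 = 0 by obtain ⟨k, hk⟩ := ho; omega, pow_zero, Module.End.one_apply]
          exact sympBilin_alt x
        · have h1 := hsym x hx x hx
          rw [ho.neg_one_pow, neg_one_mul] at h1
          have h2 : (2 : F) ≠ 0 := Ring.two_ne_zero (by rw [ringChar.eq F p]; exact h)
          exact (mul_eq_zero.1 (show (2 : F) * _ = 0 by linear_combination h1)).resolve_left h2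
    obtain ⟨Y, hYM, hY, hYnd, hdY⟩ := chains_nonDeg hp0 hTp hT hM hs ![u, w]
      (fun a => by fin_cases a <;> assumption) fun c hc => by
        have h0 := hc 0
        have h1 := hc 1
        simp only [Fin.sum_univ_two, RingHom.id_apply, Matrix.cons_val_zero, Matrix.cons_val_one, hsym u hu w hw,
          hdiag u hu, hdiag w hw, mul_zero, add_zero, zero_add] at h0 h1
        have hc0 : c 0 = 0 := (mul_eq_zero.1 h1).resolve_right hne
        have hc1 : c 1 = 0 := (mul_eq_zero.1 h0).resolve_right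
          (mul_ne_zero (pow_ne_zero _ (neg_ne_zero.2 one_ne_zero)) hne)
        funext a
        fin_cases a <;> assumption
    refine Or.inl ⟨Y, hYM, hY, hYnd, by rw [hdY, Fintype.card_fin], fun hp2 => ?_⟩
    by_contra ho
    have he := Nat.not_odd_iff_even.1 ho
    have h2 : (2 : F) ≠ 0 := Ring.two_ne_zero (by rw [ringChar.eq F p]; exact hp2)
    have h := hdiag (u + w) (M.add_mem hu hw)
    simp only [map_add, LinearMap.add_apply, hdiag u hu, hdiag w hw, hsym u hu w hw, he.neg_one_pow] at h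
    exact hne ((mul_eq_zero.1 (show (2 : F) * _ = 0 by linear_combination h)).resolve_left h2)

/-- An element of order `p` leaves invariant a nondegenerate `m`-space if the block sizes allow it. -/
theorem exists_nonDeg_char (hp : 2 < p) {T : Module.End F (Fin d ⊕ Fin d → F)}
    (hT : ∀ u w, sympBilin d F (T u) (T w) = sympBilin d F u w) (hTp : T ^ p = 1) {m : ℕ}
    (hcond : ∀ μ : Multiset ℕ, (∀ a ∈ μ, 0 < a ∧ a ≤ p) → (∀ a : ℕ, Odd a → Even (μ.count a)) → μ.sum = 2 * d →
      ∃ ν : Multiset ℕ, ν ≤ μ ∧ ν.sum = m ∧ ∀ a : ℕ, Odd a → Even (ν.count a)) :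
    ∃ W : Submodule F (Fin d ⊕ Fin d → F), finrank F W = m ∧ NonDeg (sympBilin d F) W ∧ Inv T W := by
  let k : ℕ → ℕ := fun a => if Odd a then 2 else 1
  obtain ⟨L, hL, hsum, hsub⟩ := exists_unit_list (Fact.out : p.Prime).pos hTp hT sympBilin_symm
    (fun x : ℕ × ℕ => x.1 * x.2) (fun x => x.2 = k x.1 ∧ 0 < x.1 ∧ x.1 ≤ p) (fun M hM hMnd hM0 => by
      obtain ⟨s, hs0, hsp, ⟨Y, hYM, hY, hYnd, hdY, ho⟩ | ⟨Y, hYM, hY, hYnd, hdY, he⟩⟩ :=
        exists_unit hT hTp hM hMnd hM0
      · exact ⟨(s, 2), Y, ⟨(if_pos (ho (by omega))).symm, hs0, hsp⟩, Nat.mul_pos hs0 two_pos, hYM, hY, hYnd, hdY⟩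
      · exact ⟨(s, 1), Y, ⟨(if_neg (Nat.not_odd_iff_even.2 he)).symm, hs0, hsp⟩, Nat.mul_pos hs0 one_pos, hYM, hY,
          hYnd, hdY⟩) ⊤ (fun _ _ => trivial) nonDeg_top
  obtain ⟨hμsum, hμdvd⟩ := units_props L k fun x hx => (hL x hx).1
  obtain ⟨ν, hν, hνs, hνe⟩ := hcond (L.bind fun x => Multiset.replicate x.2 x.1) (fun a ha => by
      obtain ⟨x, hx, hax⟩ := Multiset.mem_bind.1 ha
      rw [Multiset.eq_of_mem_replicate hax]
      exact (hL x hx).2)
    (fun a ha => by
      have h := hμdvd a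
      simp only [k, if_pos ha] at h
      exact even_iff_two_dvd.2 h)
    (by rw [hμsum, hsum, finrank_top, finrank_space])
  obtain ⟨S, hS, hSs⟩ := exists_sub_units L k (fun x hx => (hL x hx).1) ν hν fun a => by
    simp only [k]
    split_ifs with ha
    · exact (hνe a ha).two_dvd
    · exact one_dvd _
  obtain ⟨W, -, hW, hWnd, hdW⟩ := hsub S hS
  exact ⟨W, by rw [hdW, hSs, hνs], hWnd, hW⟩

omit [CharP F p] in
/-- The odd block sizes of a nondegenerate invariant subspace have even multiplicity. -/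
theorem even_count_blocks {T : Module.End F (Fin d ⊕ Fin d → F)}
    (hT : ∀ u w, sympBilin d F (T u) (T w) = sympBilin d F u w) (hTp : T ^ p = 1)
    {W : Submodule F (Fin d ⊕ Fin d → F)} (hW : Inv T W) (hWnd : NonDeg (sympBilin d F) W) {ν : Multiset ℕ}
    (hν : ∀ j, finrank F ↥(W.map ((T - 1) ^ j)) = CfsgLib.LinFix.blockRank ν j) {a : ℕ} (ha : Odd a) :
    Even (ν.count a) := by
  obtain ⟨i, rfl⟩ := ha
  let B : LinearMap.BilinForm F W := (sympBilin d F).compl₁₂ W.subtype W.subtype
  let S : Module.End F W := T.restrict hW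
  have hinj : Function.Injective S := fun x y hxy => by
    refine Subtype.ext ?_
    have h : T (x : Fin d ⊕ Fin d → F) = T y := congrArg Subtype.val hxy
    have h' := congrArg (T ^ (p - 1)) h
    rwa [← Module.End.mul_apply, ← Module.End.mul_apply, ← pow_succ, Nat.sub_add_cancel (Fact.out : p.Prime).one_le,
      hTp] at h'
  have hr : B.IsRefl := fun x y hxy => by
    show sympBilin d F y x = 0
    rw [sympBilin_symm (x : Fin d ⊕ Fin d → F) y, show sympBilin d F x y = 0 from hxy]
    simp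
  have hpow : ∀ (j : ℕ) (x : W), (((S - 1) ^ j) x : Fin d ⊕ Fin d → F) = ((T - 1) ^ j) x := fun j => by
    induction j with
    | zero => intro x; rfl
    | succ j ih => intro x; rw [pow_succ', pow_succ', Module.End.mul_apply, Module.End.mul_apply, ← ih]; rfl
  have hrank : ∀ j, finrank F (LinearMap.range ((S - 1) ^ j)) = CfsgLib.LinFix.blockRank ν j := fun j => by
    rw [← hν j, ← Submodule.finrank_map_subtype_eq]
    refine congrArg (fun U : Submodule F (Fin d ⊕ Fin d → F) => finrank F U) (Submodule.ext fun y => ?_)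
    constructor
    · rintro ⟨_, ⟨x, rfl⟩, rfl⟩; exact ⟨x, x.2, (hpow j x).symm⟩
    · rintro ⟨x, hx, rfl⟩; exact ⟨_, ⟨⟨x, hx⟩, rfl⟩, hpow j ⟨x, hx⟩⟩
  refine even_multiplicity B (hr.nondegenerate_iff_separatingLeft.mpr fun x hx =>
    Subtype.ext (hWnd x x.2 fun y hy => hx ⟨y, hy⟩)) hr (LinearEquiv.ofInjectiveEndo S hinj)
    (fun x y => hT x y) (S - 1) (fun x => rfl) (2 * i) i i (by omega) (fun x _ => sympBilin_alt _) _ ?_
  rw [hrank, hrank, hrank]
  exact CfsgLib.LinFix.count_eq_blockRank ν (a := 2 * i + 1) (by omega)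

/-- An element of order `p` with prescribed block sizes, none of whose invariant nondegenerate subspaces has
dimension `m`. -/
theorem exists_no_nonDeg_char {m : ℕ} {μ : Multiset ℕ} (hμ : ∀ a ∈ μ, 0 < a ∧ a ≤ p)
    (hμe : ∀ a : ℕ, Odd a → Even (μ.count a)) (hμs : μ.sum = 2 * d)
    (hno : ∀ ν : Multiset ℕ, ν ≤ μ → ν.sum = m → ∃ a : ℕ, Odd a ∧ ¬ Even (ν.count a)) :
    ∃ T : Module.End F (Fin d ⊕ Fin d → F), (∀ u w, sympBilin d F (T u) (T w) = sympBilin d F u w) ∧ T ^ p = 1 ∧
      ∀ W : Submodule F (Fin d ⊕ Fin d → F), Inv T W → NonDeg (sympBilin d F) W → finrank F W ≠ m := by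
  classical
  set l := μ.toList
  let df : Fin l.length → ℕ := l.get
  have hmap : μ = (Finset.univ : Finset (Fin l.length)).val.map df := by
    rw [Fin.univ_val_map, List.ofFn_get, Multiset.coe_toList]
  have hcount : ∀ j, (Finset.univ.filter fun k => df k = j).card = μ.count j := fun j => by
    conv_rhs => rw [hmap, Multiset.count_map]
    simp only [eq_comm (a := df _)]
    rfl
  have hrk : ∀ j, ∑ k, (df k - j) = CfsgLib.LinFix.blockRank μ j := fun j => by
    conv_rhs => rw [hmap, CfsgLib.LinFix.blockRank, Multiset.map_map]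
    rfl
  obtain ⟨B, hB1, hB2, hB3⟩ := hasAlt_type (F := F) df (fun j => 0 < j ∧ Even j) (fun j hj => by
      obtain ⟨hj0, k, rfl⟩ := hj
      rw [show k + k = 2 * (k - 1) + 2 by omega]
      exact hasAlt_even _)
    (fun j hj => by
      rw [hcount]
      rcases Nat.eq_zero_or_pos j with rfl | hj0
      · rw [Multiset.count_eq_zero.2 fun h => (hμ 0 h).1.false]; exact Even.zero
      · exact hμe j (Nat.not_even_iff_odd.1 fun h => hj ⟨hj0, h⟩))
  obtain ⟨d', e, he⟩ := CfsgLib.LinFix.exists_sympEquiv B hB1 hB2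
  obtain rfl : d' = d := by
    have h := e.finrank_eq
    rw [Module.finrank_pi, finrank_space, Fintype.card_sigma] at h
    simp only [Fintype.card_fin] at h
    have h0 := hrk 0
    rw [CfsgLib.LinFix.blockRank_zero, hμs] at h0
    simp only [Nat.sub_zero] at h0
    omega
  set T := e.conjAlgEquiv F (jt F df) with hTdef
  have hTe : ∀ v, T (e v) = e (jt F df v) := fun v => by simp [hTdef]
  have hconj : ∀ (g : Module.End F (((k : Fin l.length) × Fin (df k)) → F)) x,
      e.conjAlgEquiv F g x = e (g (e.symm x)) := fun g x => by simp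
  have hrank : ∀ j, finrank F (LinearMap.range ((T - 1) ^ j)) = CfsgLib.LinFix.blockRank μ j := fun j => by
    have h1 : (T - 1) ^ j = e.conjAlgEquiv F ((jt F df - 1) ^ j) := by rw [hTdef, map_pow, map_sub, map_one]
    have h2 : LinearMap.range ((T - 1) ^ j) = (LinearMap.range ((jt F df - 1) ^ j)).map e.toLinearMap := by
      ext y
      rw [h1]
      constructor
      · rintro ⟨x, rfl⟩
        exact ⟨_, ⟨e.symm x, rfl⟩, (hconj _ x).symm⟩
      · rintro ⟨_, ⟨x, rfl⟩, rfl⟩
        exact ⟨e x, by rw [hconj, e.symm_apply_apply]; rfl⟩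
    rw [h2, LinearEquiv.finrank_map_eq, finrank_range_jt, hrk]
  have hTp : T ^ p = 1 := by
    have h0 : finrank F (LinearMap.range ((T - 1) ^ p)) = 0 := by
      rw [hrank, CfsgLib.LinFix.blockRank, Multiset.sum_eq_zero_iff]
      intro a ha
      obtain ⟨b, hb, rfl⟩ := Multiset.mem_map.1 ha
      have := (hμ b hb).2
      omega
    rw [Submodule.finrank_eq_zero, LinearMap.range_eq_bot, CfsgLib.LinFix.sub_one_pow_char] at h0
    exact sub_eq_zero.1 h0
  have hT : ∀ u w, sympBilin d' F (T u) (T w) = sympBilin d' F u w := fun u w => by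
    obtain ⟨u, rfl⟩ := e.surjective u
    obtain ⟨w, rfl⟩ := e.surjective w
    rw [hTe, hTe, sympBilin_apply, sympBilin_apply, ← he, ← he, hB3]
  refine ⟨T, hT, hTp, fun W hW hWnd hd => ?_⟩
  obtain ⟨h1, -, hsup⟩ := nonDeg_top.split sympBilin_symm hWnd le_top
  rw [top_inf_eq] at h1 hsup
  have hW' : Inv T (W.orthogonalBilin (sympBilin d' F)) := inv_orth_of_pow (Fact.out : p.Prime).pos hTp hT hW
  have hdisj : Disjoint W (W.orthogonalBilin (sympBilin d' F)) := disjoint_iff.2 (hWnd.inf_orth_eq_bot sympBilin_symm)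
  obtain ⟨ν, hν, hνr, hνs, -⟩ := CfsgLib.LinFix.exists_blocks_char hTp hW
  obtain ⟨ν', hν', hν'r, -, -⟩ := CfsgLib.LinFix.exists_blocks_char hTp hW'
  have hle : ν ≤ μ := by
    rw [CfsgLib.LinFix.eq_of_blockRank (μ := μ) (fun a ha => (hμ a ha).1) (ν := ν + ν') (fun a ha => ?_) fun j => ?_]
    · exact Multiset.le_add_right ν ν'
    · rcases Multiset.mem_add.1 ha with h | h
      exacts [(hν a h).1, (hν' a h).1]
    · rw [CfsgLib.LinFix.blockRank_add, ← hνr, ← hν'r, ← CfsgLib.LinFix.finrank_map_pow_sup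
        (CfsgLib.LinFix.inv_sub_one_iff.2 hW) (CfsgLib.LinFix.inv_sub_one_iff.2 hW') hdisj, hsup, Submodule.map_top,
        hrank]
  obtain ⟨a, ha, hae⟩ := hno ν hle (hνs.trans hd)
  exact hae (even_count_blocks hT hTp hW hWnd hνr ha)

end Char

section CharTwo

variable {F : Type*} [Field F] [CharP F 2] {d : ℕ}

/-- In characteristic two an involution leaves invariant nondegenerate subspaces of the allowed dimensions. -/
theorem exists_nonDeg_char_two {T : Module.End F (Fin d ⊕ Fin d → F)}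
    (hT : ∀ u w, sympBilin d F (T u) (T w) = sympBilin d F u w) (hTp : T ^ 2 = 1) {m : ℕ}
    (hme : Even m) (hm : m ≤ 2 * d) (hcond : (2 * d) % 4 = 2 ∨ m % 4 = 0) :
    ∃ W : Submodule F (Fin d ⊕ Fin d → F), finrank F W = m ∧ NonDeg (sympBilin d F) W ∧ Inv T W := by
  classical
  haveI : Fact (Nat.Prime 2) := ⟨Nat.prime_two⟩
  obtain ⟨L, hL, hsum, hsub⟩ := exists_unit_list two_pos hTp hT sympBilin_symm
    (fun x : ℕ => x) (fun x => x = 2 ∨ x = 4) (fun M hM hMnd hM0 => by
      obtain ⟨s, hs0, hsp, ⟨Y, hYM, hY, hYnd, hdY, -⟩ | ⟨Y, hYM, hY, hYnd, hdY, he⟩⟩ :=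
        exists_unit (p := 2) hT hTp hM hMnd hM0
      · exact ⟨s * 2, Y, by omega, by omega, hYM, hY, hYnd, hdY⟩
      · obtain ⟨k, rfl⟩ := he
        exact ⟨(k + k) * 1, Y, by omega, by omega, hYM, hY, hYnd, hdY⟩) ⊤ (fun _ _ => trivial) nonDeg_top
  rw [Multiset.map_id', finrank_top, finrank_space] at hsum
  have hval : ∀ S : Multiset ℕ, (∀ a ∈ S, a = 2 ∨ a = 4) → S.sum = 2 * S.count 2 + 4 * S.count 4 := by
    intro S hS
    induction S using Multiset.induction with
    | empty => simp
    | cons a S ih =>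
      rw [Multiset.sum_cons, ih fun b hb => hS b (Multiset.mem_cons_of_mem hb)]
      rcases hS a (Multiset.mem_cons_self a S) with rfl | rfl <;> simp [Multiset.count_cons] <;> ring
  have hL2 := hval L hL
  obtain ⟨e, he⟩ := hme
  obtain ⟨f, t, hf, ht, hft⟩ : ∃ f t, f ≤ L.count 4 ∧ t ≤ L.count 2 ∧ 2 * t + 4 * f = m := by
    refine ⟨min (L.count 4) (m / 4), (m - 4 * min (L.count 4) (m / 4)) / 2, min_le_left _ _, ?_, ?_⟩ <;> omega
  obtain ⟨W, -, hW, hWnd, hdW⟩ := hsub (Multiset.replicate t 2 + Multiset.replicate f 4)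
    (Multiset.le_iff_count.2 fun a => by
      rw [Multiset.count_add, Multiset.count_replicate, Multiset.count_replicate]
      split_ifs with h1 h2 h2
      · omega
      · subst h1; omega
      · subst h2; omega
      · omega)
  refine ⟨W, ?_, hWnd, hW⟩
  rw [hdW, Multiset.map_id', Multiset.sum_add, Multiset.sum_replicate, Multiset.sum_replicate, smul_eq_mul,
    smul_eq_mul]
  omega

/-- In characteristic two, for `d` even, an involution without nondegenerate invariant subspaces of dimension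
`2 (mod 4)`. -/
theorem exists_no_nonDeg_char_two (hd : Even d) {m : ℕ} (hm : m % 4 = 2) :
    ∃ T : Module.End F (Fin d ⊕ Fin d → F), (∀ u w, sympBilin d F (T u) (T w) = sympBilin d F u w) ∧ T ^ 2 = 1 ∧
      ∀ W : Submodule F (Fin d ⊕ Fin d → F), Inv T W → NonDeg (sympBilin d F) W → finrank F W ≠ m := by
  classical
  haveI : Fact (Nat.Prime 2) := ⟨Nat.prime_two⟩
  let N : Module.End F (Fin d ⊕ Fin d → F) :=
    { toFun := fun v => Sum.elim (fun _ => 0) (fun k => v (Sum.inl (Fin.rev k)))
      map_add' := fun u v => funext fun x => by rcases x with k | k <;> simp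
      map_smul' := fun c v => funext fun x => by rcases x with k | k <;> simp }
  have hN2 : ∀ v, N (N v) = 0 := fun v => funext fun x => by rcases x with k | k <;> simp [N]
  have hz : ∀ a : F, a + a = 0 := CharTwo.add_self_eq_zero
  have halt : ∀ v, sympForm d F v (N v) = 0 := fun v => by
    rw [sympForm_eq_sum]
    refine Finset.sum_involution (fun k _ => Fin.rev k) (fun k _ => ?_) (fun k _ _ h => ?_)
      (fun k _ => Finset.mem_univ _) (fun k _ => Fin.rev_rev k)
    · simp [N, mul_comm (v (Sum.inl k.rev)), hz]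
    · obtain ⟨e, he⟩ := hd
      have h1 := congrArg Fin.val h
      rw [Fin.val_rev] at h1
      omega
  have hskew : ∀ u v, sympForm d F u (N v) = sympForm d F v (N u) := fun u v => by
    have h := halt (u + v)
    simp only [map_add, form_add_left, form_add_right, halt, zero_add, add_zero] at h
    linear_combination h - hz (sympForm d F v (N u))
  have hnl : ∀ u v, sympForm d F (N u) v = sympForm d F v (N u) := fun u v => by
    rw [form_swap v (N u)]
    linear_combination (-1 : F) * hz (sympForm d F v (N u))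
  set T : Module.End F (Fin d ⊕ Fin d → F) := 1 + N with hTdef
  have hT : ∀ u w, sympBilin d F (T u) (T w) = sympBilin d F u w := fun u w => by
    have e1 : sympForm d F (N u) (N w) = 0 := by rw [hskew, hN2, form_zero_right]
    simp only [hTdef, sympBilin_apply, LinearMap.add_apply, Module.End.one_apply, form_add_left, form_add_right, e1,
      add_zero]
    rw [hnl, hskew w u]
    linear_combination hz (sympForm d F u (N w))
  have hT2 : T ^ 2 = 1 := LinearMap.ext fun v => funext fun x => by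
    simp [hTdef, pow_two, hN2]
    linear_combination hz (N v x)
  refine ⟨T, hT, hT2, fun W hW hWnd hdW => ?_⟩
  obtain ⟨-, hdim, hsup⟩ := nonDeg_top.split sympBilin_symm hWnd le_top
  rw [top_inf_eq] at hdim hsup
  rw [finrank_top, finrank_space] at hdim
  have hW' : Inv T (W.orthogonalBilin (sympBilin d F)) := inv_orth_of_pow two_pos hT2 hT hW
  have hNW : ∀ U : Submodule F (Fin d ⊕ Fin d → F), Inv T U → ∀ u ∈ U, N u ∈ U := fun U hU u hu => by
    have h : N u = T u - u := by simp [hTdef]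
    rw [h]; exact U.sub_mem (hU u hu) hu
  have hhalf : ∀ U : Submodule F (Fin d ⊕ Fin d → F), Inv T U →
      finrank F ↥(U.map N) + finrank F (LinearMap.ker (N.comp U.subtype)) = finrank F U ∧
      finrank F ↥(U.map N) ≤ finrank F (LinearMap.ker (N.comp U.subtype)) := fun U hU => by
    have h1 := (N.comp U.subtype).finrank_range_add_finrank_ker
    rw [LinearMap.range_comp, Submodule.range_subtype] at h1
    refine ⟨h1, ?_⟩
    rw [← Submodule.finrank_map_subtype_eq U (LinearMap.ker (N.comp U.subtype))]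
    refine Submodule.finrank_mono ?_
    rintro _ ⟨u, hu, rfl⟩
    exact ⟨⟨N u, hNW U hU u hu⟩, hN2 u, rfl⟩
  have hrk : d ≤ finrank F ↥(W.map N) + finrank F ↥((W.orthogonalBilin (sympBilin d F)).map N) := by
    refine le_trans ?_ (Submodule.finrank_add_le_finrank_add_finrank _ _)
    rw [← Submodule.map_sup, hsup, Submodule.map_top]
    let g : (Fin d → F) →ₗ[F] (Fin d ⊕ Fin d → F) :=
      { toFun := fun y => Sum.elim (fun _ => 0) y
        map_add' := fun u v => funext fun x => by rcases x with k | k <;> simp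
        map_smul' := fun c v => funext fun x => by rcases x with k | k <;> simp }
    have hg : Function.Injective g := fun y y' h => funext fun k => congrFun h (Sum.inr k)
    calc d = finrank F (LinearMap.range g) := by
          rw [LinearMap.finrank_range_of_inj hg, Module.finrank_fintype_fun_eq_card, Fintype.card_fin]
      _ ≤ _ := Submodule.finrank_mono (by
        rintro _ ⟨y, rfl⟩
        exact ⟨Sum.elim (fun k => y (Fin.rev k)) 0, funext fun x => by rcases x with k | k <;> simp [N, g]⟩)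
  let b : W →ₗ[F] W →ₗ[F] F := (sympBilin d F).compl₁₂ (N.comp W.subtype) W.subtype
  have hb : ∀ v, b v v = 0 := fun v => by
    show sympForm d F (N v) v = 0
    rw [hnl, halt]
  have hker : LinearMap.ker b = LinearMap.ker (N.comp W.subtype) := by
    ext v
    rw [LinearMap.mem_ker, LinearMap.mem_ker]
    constructor
    · intro h
      exact hWnd _ (hNW W hW _ v.2) fun w hw => LinearMap.congr_fun h ⟨w, hw⟩
    · intro h
      ext w
      show sympBilin d F ((N.comp W.subtype) v) w = 0
      rw [h, map_zero, LinearMap.zero_apply]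
  obtain ⟨e, he⟩ := even_finrank_sub_ker b hb
  rw [hker] at he
  have h1 := hhalf W hW
  have h2 := hhalf _ hW'
  omega

end CharTwo

end CfsgLib.PrimeFix.Symp
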